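import Cfsg.Agent.UAlt.Eleven.Iso
import Cfsg.Agent.UAlt.TrExists
import Cfsg.Agent.SignalizersComponents.RelFunctor
import Cfsg.Agent.Intrinsic.Functor

/-!
# `n = 11`, `xi = 0`: the signalizer functor on `E = V × V*`

* `Iso.comm_nonroot` : `[O_e ∩ C(b), E] ≤ O_b` for `e ∈ E` not a root, `b` a root of `E`.
* `Iso.functor` : (3.5), with (3.4) as hypothesis.
-/

set_option autoImplicit false
set_option linter.unusedSectionVars false

namespace Cfsg.Agent.UAlt

open Cfsg Equiv Equiv.Perm Subgroup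
open Cfsg.Agent.Intrinsic.Basic Cfsg.Agent.Intrinsic Cfsg.Agent.Intrinsic.Cen Cfsg.Agent.Intrinsic.Diag
open Cfsg.Agent.SignalizersComponents Cfsg.Agent.Lib
open Cfsg.Agent.SignalizersComponents.IntrinsicBasic
open Cfsg.Agent.SignalizersComponents.GoldschmidtGen (le_normalizer_of_conj_mem
  conj_mem_of_le_normalizer le_normalizer_sup)
open Cfsg.Agent.Lib.CoprimeCommutator
open Cfsg.Agent.McLLyComp.Act
open Cfsg.Agent.UGT.Triple Cfsg.Agent.UGT.LemG Cfsg.Agent.UGT.PumpGen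
open scoped commutatorElement

universe u

section cm

variable {G : Type u} [Group G] {A B : Subgroup G}

theorem Cm.symm' (h : Cm A B) : Cm B A := fun b hb a ha => (h a ha b hb).symm

theorem Cm.le_normalizer (h : Cm A B) : A ≤ normalizer (B : Set G) :=
  le_normalizer_of_conj_mem fun a ha b hb => by rw [h a ha b hb, mul_inv_cancel_right]; exact hb

theorem Cm.mem_sup (h : Cm A B) {e : G} : e ∈ A ⊔ B ↔ ∃ a ∈ A, ∃ b ∈ B, a * b = e := by
  constructor
  · intro he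
    have h1 : e ∈ ((A ⊔ B : Subgroup G) : Set G) := he
    rw [Subgroup.coe_mul_of_left_le_normalizer_right _ _ h.le_normalizer] at h1
    exact h1
  · rintro ⟨a, ha, b, hb, rfl⟩
    exact mul_mem (mem_sup_left ha) (mem_sup_right hb)

theorem Cm.sup (h : Cm A B) (hA : Cm A A) (hB : Cm B B) : Cm (A ⊔ B) (A ⊔ B) := by
  intro e he f hf
  obtain ⟨a, ha, b, hb, rfl⟩ := h.mem_sup.mp he
  obtain ⟨a', ha', b', hb', rfl⟩ := h.mem_sup.mp hf
  calc a * b * (a' * b') = a * (b * a') * b' := by group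
    _ = a * (a' * b) * b' := by rw [h a' ha' b hb]
    _ = (a * a') * (b * b') := by group
    _ = (a' * a) * (b' * b) := by rw [hA a ha a' ha', hB b hb b' hb']
    _ = a' * (a * b') * b := by group
    _ = a' * (b' * a) * b := by rw [h a ha b' hb']
    _ = a' * b' * (a * b) := by group

theorem Cm.sq_sup (h : Cm A B) (hA : ∀ a ∈ A, a * a = 1) (hB : ∀ b ∈ B, b * b = 1) {e : G}
    (he : e ∈ A ⊔ B) : e * e = 1 := by
  obtain ⟨a, ha, b, hb, rfl⟩ := h.mem_sup.mp he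
  calc a * b * (a * b) = a * (b * a) * b := by group
    _ = a * (a * b) * b := by rw [h a ha b hb]
    _ = (a * a) * (b * b) := by group
    _ = 1 := by rw [hA a ha, hB b hb, one_mul]

end cm

section

variable {G : Type u} [Group G] [Finite G] {α : Type*} [Fintype α] [DecidableEq α] {L : Subgroup G}
  {Ω : Finset α} {M : Mod L Ω} {a : G} {V V' : Subgroup G} {T T' : Finset α}

theorem RF.cm (hV : RF M V T) : Cm V V := fun _ hx _ hy => hV.comm hx hy

theorem RF.inf_eq_bot (hV : RF M V T) (hV' : RF M V' T') (hd : Disjoint T T') : V ⊓ V' = ⊥ := by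
  rw [eq_bot_iff]
  rintro x ⟨hx, hx'⟩
  rw [mem_bot]
  apply hV.eq_one hx
  ext p
  rw [Perm.one_apply]
  by_cases hp : p ∈ T
  · exact (hV'.mem x hx').2 p (Finset.disjoint_left.mp hd hp)
  · exact (hV.mem x hx).2 p hp

theorem RF.card_sup (hV : RF M V T) (hV' : RF M V' T') (hd : Disjoint T T') (_hc : Cm V V') :
    2 ^ 4 ≤ Nat.card ↥(V ⊔ V') := by
  have h1 : Nat.card (↥V × ↥V') = 16 := by
    rw [Nat.card_prod, hV.natCard, hV'.natCard]
  have h2 : Nat.card (↥V × ↥V') ≤ Nat.card ↥(V ⊔ V') := by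
    refine Nat.card_le_card_of_injective
      (fun p => (⟨p.1 * p.2, mul_mem (mem_sup_left p.1.2) (mem_sup_right p.2.2)⟩ : ↥(V ⊔ V'))) ?_
    rintro ⟨⟨x, hx⟩, ⟨y, hy⟩⟩ ⟨⟨x', hx'⟩, ⟨y', hy'⟩⟩ h
    have h3 : x * y = x' * y' := congrArg Subtype.val h
    have h4 : x'⁻¹ * x = y' * y⁻¹ := by
      rw [inv_mul_eq_iff_eq_mul, ← mul_assoc, ← h3, mul_inv_cancel_right]
    have h5 : x'⁻¹ * x ∈ V ⊓ V' := ⟨V.mul_mem (V.inv_mem hx') hx, by
      rw [h4]; exact V'.mul_mem hy' (V'.inv_mem hy)⟩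
    rw [hV.inf_eq_bot hV' hd, mem_bot] at h5
    have h6 : x = x' := (inv_mul_eq_one.mp h5).symm
    subst h6
    have h7 : y = y' := mul_left_cancel h3
    subst h7
    rfl
  omega

/-- the members of `E#` -/
theorem RF.sup_cases (hc : Cm V V') {e : G} (he : e ∈ V ⊔ V') (he1 : e ≠ 1) :
    e ∈ V ∨ e ∈ V' ∨ ∃ v ∈ V, v ≠ 1 ∧ ∃ w ∈ V', w ≠ 1 ∧ e = v * w := by
  obtain ⟨v, hv, w, hw, rfl⟩ := hc.mem_sup.mp he
  by_cases h1 : v = 1
  · subst h1
    right; left
    rwa [one_mul]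
  by_cases h2 : w = 1
  · subst h2
    left
    rwa [mul_one]
  · exact Or.inr (Or.inr ⟨v, hv, h1, w, hw, h2, rfl⟩)

/-- **(3.5)**, the action of `O_e ∩ C(b)`, `e = v w` not a root, on `K_b`, `b ∈ V` -/
theorem Iso.comm_nonroot (H : Iso M a) (hV : RF M V T) (hV' : RF M V' T') (hd : Disjoint T T')
    (hc : Cm V V') {b v w : G} (hb : b ∈ V) (hb1 : b ≠ 1) (hv : v ∈ V) (hw : w ∈ V') (hw1 : w ≠ 1) :
    ⁅core (centralizer ({v * w} : Set G)) ⊓ centralizer ({b} : Set G), V ⊔ V'⁆ ≤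
      core (centralizer ({b} : Set G)) := by
  obtain ⟨e, he⟩ : ∃ e, e = v * w := ⟨_, rfl⟩
  rw [← he]
  obtain ⟨D, hD⟩ : ∃ D, D = core (centralizer ({e} : Set G)) ⊓ centralizer ({b} : Set G) := ⟨_, rfl⟩
  rw [← hD]
  have hCm := hc.sup hV.cm hV'.cm
  have heE : e ∈ V ⊔ V' := by rw [he]; exact mul_mem (mem_sup_left hv) (mem_sup_right hw)
  have hbE : b ∈ V ⊔ V' := mem_sup_left hb
  have hee : e * e = 1 := hc.sq_sup hV.sq hV'.sq heE
  have rb := hV.rt hb hb1
  have rw' := hV'.rt hw hw1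
  have he1 : e ≠ 1 := by
    intro h
    rw [he] at h
    have h1 : v = w := by
      rw [mul_eq_one_iff_eq_inv] at h
      rw [h]
      exact inv_eq_of_mul_eq_one_left (hV'.sq w hw)
    have h2 : w ∈ V ⊓ V' := ⟨h1 ▸ hv, hw⟩
    rw [hV.inf_eq_bot hV' hd, mem_bot] at h2
    exact hw1 h2
  have hoe : orderOf e = 2 := orderOf_eq_prime (by rw [pow_two]; exact hee) he1
  have heb : e * b = b * e := hCm e heE b hbE
  have hEe : V ⊔ V' ≤ centralizer ({e} : Set G) := fun g hg => mem_c (hCm g hg e heE)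
  have hEb : V ⊔ V' ≤ centralizer ({b} : Set G) := fun g hg => mem_c (hCm g hg b hbE)
  have hDle : ∀ d ∈ D, d ∈ core (centralizer ({b} : Set G) ⊓ centralizer ({e} : Set G)) := by
    intro d hd
    rw [hD] at hd
    exact inf_le_core hd.1 hd.2
  have hDN : V ⊔ V' ≤ normalizer (D : Set G) := by
    intro g hg
    have h1 : g ∈ normalizer (core (centralizer ({e} : Set G)) : Set G) := le_normalizer_core _ (hEe hg)
    have h2 : g ∈ normalizer (centralizer ({b} : Set G) : Set G) := Subgroup.le_normalizer (hEb hg)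
    rw [mem_normalizer_iff_cj] at h1 h2 ⊢
    rw [hD, cj_inf, h1, h2]
  have hND : ⁅D, V ⊔ V'⁆ ≤ D := commutator_le_left hDN
  obtain ⟨K, hK⟩ := H.exists_K rb
  intro x hx
  have hxD := hND hx
  refine mem_core_of_fixes_comps (mem_c heb) hoe (hDle x hxD) fun J hJ => ?_
  by_cases hJK : J = K
  · subst hJK
    have key : ⁅D, V ⊔ V'⁆ ≤ fixSub J := by
      rw [commutator_le]
      intro d hdd g hg
      rw [mem_fixSub]
      have hdgD : ⁅d, g⁆ ∈ D := hND (commutator_mem_commutator hdd hg)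
      obtain ⟨g₁, hg₁, g₂, hg₂, rfl⟩ := hc.mem_sup.mp hg
      obtain ⟨Mv, hMv⟩ := hK.exists_mod H rb
      have hdJ : d ∈ normalizer (J : Set G) :=
        UGT.Triple.mem_normalizer hK.comp (mem_c heb) hoe (hDle d hdd)
      have hVJ : ∀ u ∈ V, Fixes u J := fun u hu => H.fixes_self hV hb hb1 hu hK
      have hVlab : ∀ u ∈ V, Mv.φ u = 1 := fun u hu => (Mv.fixes_iff (hVJ u hu).1).mpr (hVJ u hu)
      have hV'cmp : ∀ y ∈ V', y ∈ M.cmp b := fun y hy => hV.le_cmp' hV' hd hc hb hb1 hy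
      have hV'lab : ∀ y ∈ V', Mv.φ y = M.φ y := fun y hy => hMv y (hV'cmp y hy)
      have hV'J : ∀ y ∈ V', y ∈ normalizer (J : Set G) := fun y hy =>
        Subgroup.le_normalizer (hK.le (hV'cmp y hy))
      have hE : ∀ u ∈ V, ∀ y ∈ V', Mv.φ (u * y) = M.φ y := by
        intro u hu y hy
        rw [Mv.mul _ _ (hVJ u hu).1 (hV'J y hy), hVlab u hu, one_mul, hV'lab y hy]
      have hgJ : g₁ * g₂ ∈ normalizer (J : Set G) := mul_mem (hVJ g₁ hg₁).1 (hV'J g₂ hg₂)
      have heJ : e ∈ normalizer (J : Set G) := by rw [he]; exact mul_mem (hVJ v hv).1 (hV'J w hw)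
      have hde : d * e = e * d := by
        rw [hD] at hdd
        exact comm_c (core_le _ hdd.1)
      have hlab : Mv.φ e = M.φ w := by rw [he]; exact hE v hv w hw
      have hpres : ∀ p, Mv.φ d p ∈ T' ↔ p ∈ T' := by
        have h1 := Mv.comm hdJ heJ hde
        rw [hlab] at h1
        exact mem_iff_of_comm hV'.card (hV'.label hw) (fun h => hw1 (hV'.eq_one hw h)) h1
      have hτ : Mv.φ ⁅d, g₁ * g₂⁆ ∈ four T' := by
        rw [commutatorElement_def, Mv.mul _ _ (mul_mem (mul_mem hdJ hgJ) (inv_mem hdJ)) (inv_mem hgJ),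
          Mv.conj hdJ hgJ, Mv.inv hgJ, hE g₁ hg₁ g₂ hg₂]
        exact mul_mem (conj_mem_four hV'.card hpres (hV'.label hg₂)) (inv_mem (hV'.label hg₂))
      have hcJ : ⁅d, g₁ * g₂⁆ ∈ normalizer (J : Set G) := by
        rw [commutatorElement_def]
        exact mul_mem (mul_mem (mul_mem hdJ hgJ) (inv_mem hdJ)) (inv_mem hgJ)
      rw [← Mv.fixes_iff hcJ]
      have hodd : Odd (orderOf ⁅d, g₁ * g₂⁆) := by
        refine Odd.of_dvd_nat (odd_card_core (centralizer ({e} : Set G))) ?_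
        refine Subgroup.orderOf_dvd_natCard _ ?_
        rw [hD] at hdgD
        exact hdgD.1
      obtain ⟨m, hm⟩ := hodd
      have h1 : Mv.φ ⁅d, g₁ * g₂⁆ ^ (2 * m + 1) = 1 := by
        rw [← Mv.pow hcJ, ← hm, pow_orderOf_eq_one, Mv.one]
      have h2 : Mv.φ ⁅d, g₁ * g₂⁆ ^ 2 = 1 := by
        rw [pow_two]
        exact four_sq hV'.card hτ
      rwa [pow_succ, pow_mul, h2, one_pow, one_mul] at h1
    exact key hx
  · have h1 : ∀ r, M.Rt r → r * b = b * r → Fixes r J := fun r hr hrb =>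
      H.fixes_other rb hr hrb.symm hK hJ hJK
    have h2 : Fixes e J := by
      rw [he]
      refine fixes_mul ?_ (h1 w rw' (hc b hb w hw).symm)
      by_cases hv1 : v = 1
      · rw [hv1]; exact fixes_one J
      · exact h1 v (hV.rt hv hv1) (hV.comm hv hb)
    by_contra hf
    exact (of_not_fixes hJ (mem_c heb) hoe (hDle x hxD) hf).2 h2

/-- `[O_e ∩ C(f), E] ≤ O_f` for `e`, `f ∈ E#` -/
theorem Iso.comm_le (H : Iso M a) (hV : RF M V T) (hV' : RF M V' T') (hd : Disjoint T T')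
    (hc : Cm V V')
    (h34 : ∀ e ∈ V ⊔ V', e ≠ 1 → ∀ v ∈ V, v ≠ 1 → ∀ w ∈ V', w ≠ 1 →
      core (centralizer ({e} : Set G)) ⊓ centralizer ({v * w} : Set G) ≤ core (centralizer ({v * w} : Set G)))
    {e f : G} (he : e ∈ V ⊔ V') (he1 : e ≠ 1) (hf : f ∈ V ⊔ V') (hf1 : f ≠ 1) :
    ⁅core (centralizer ({e} : Set G)) ⊓ centralizer ({f} : Set G), V ⊔ V'⁆ ≤
      core (centralizer ({f} : Set G)) := by
  have hCm := hc.sup hV.cm hV'.cm
  have hn : V ⊔ V' ≤ normalizer (core (centralizer ({f} : Set G)) : Set G) := fun g hg =>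
    le_normalizer_core _ (mem_c (hCm g hg f hf))
  have key : core (centralizer ({e} : Set G)) ⊓ centralizer ({f} : Set G) ≤
      core (centralizer ({f} : Set G)) → ⁅core (centralizer ({e} : Set G)) ⊓ centralizer ({f} : Set G),
      V ⊔ V'⁆ ≤ core (centralizer ({f} : Set G)) := fun h =>
    (commutator_mono h le_rfl).trans (commutator_le_left hn)
  have bal : M.Rt e → M.Rt f → core (centralizer ({e} : Set G)) ⊓ centralizer ({f} : Set G) ≤
      core (centralizer ({f} : Set G)) := fun h1 h2 y hy => H.balance h1 h2 (hCm e he f hf) hy.1 hy.2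
  rcases RF.sup_cases hc hf hf1 with hf' | hf' | ⟨v, hv, hv1, w, hw, hw1, rfl⟩
  · rcases RF.sup_cases hc he he1 with he' | he' | ⟨v, hv, hv1, w, hw, hw1, rfl⟩
    · exact key (bal (hV.rt he' he1) (hV.rt hf' hf1))
    · exact key (bal (hV'.rt he' he1) (hV.rt hf' hf1))
    · exact H.comm_nonroot hV hV' hd hc hf' hf1 hv hw hw1
  · rcases RF.sup_cases hc he he1 with he' | he' | ⟨v, hv, hv1, w, hw, hw1, rfl⟩
    · exact key (bal (hV.rt he' he1) (hV'.rt hf' hf1))
    · exact key (bal (hV'.rt he' he1) (hV'.rt hf' hf1))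
    · have h1 := H.comm_nonroot hV' hV hd.symm hc.symm' hf' hf1 hw hv hv1
      rw [sup_comm V' V, (hc v hv w hw).symm] at h1
      exact h1
  · exact key (h34 e he he1 v hv hv1 w hw hw1)

/-- roots `b`, `b'` of `E`: `O_b ∩ C(E) ≤ O_{b'}` -/
theorem RF.rt_sup (hV : RF M V T) (hV' : RF M V' T') {b : G} (hb : b ∈ V ∨ b ∈ V') (hb1 : b ≠ 1) :
    M.Rt b := hb.elim (fun h => hV.rt h hb1) fun h => hV'.rt h hb1

/-- **(3.5)** -/
theorem Iso.functor (H : Iso M a) (hV : RF M V T) (hV' : RF M V' T') (hd : Disjoint T T')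
    (hc : Cm V V') (hsol : ∀ Y : Subgroup G, Odd (Nat.card Y) → Group.IsSolvable Y)
    (h34 : ∀ e ∈ V ⊔ V', e ≠ 1 → ∀ v ∈ V, v ≠ 1 → ∀ w ∈ V', w ≠ 1 →
      core (centralizer ({e} : Set G)) ⊓ centralizer ({v * w} : Set G) ≤
        core (centralizer ({v * w} : Set G))) :
    Odd (Nat.card (Functor.W V)) ∧ Functor.W V = Functor.W V' ∧
      (∀ b, b ∈ V ∨ b ∈ V' → b ≠ 1 → Functor.W V ⊓ centralizer ({b} : Set G) =
        core (centralizer ({b} : Set G))) := by
  have hp2 : Fact (Nat.Prime 2) := ⟨Nat.prime_two⟩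
  obtain ⟨E, hE⟩ : ∃ E, E = V ⊔ V' := ⟨_, rfl⟩
  have hVE : V ≤ E := by rw [hE]; exact le_sup_left
  have hV'E : V' ≤ E := by rw [hE]; exact le_sup_right
  have hbE : ∀ {b}, b ∈ V ∨ b ∈ V' → b ∈ E := fun h => h.elim (fun h => hVE h) fun h => hV'E h
  have hCm : Cm E E := by rw [hE]; exact hc.sup hV.cm hV'.cm
  have hsq : ∀ e ∈ E, e * e = 1 := fun e he => by
    rw [hE] at he
    exact hc.sq_sup hV.sq hV'.sq he
  have hcard : 2 ^ 4 ≤ Nat.card E := by rw [hE]; exact hV.card_sup hV' hd hc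
  have hpE : IsPGroup 2 E := by
    rintro ⟨x, hx⟩
    exact ⟨1, Subtype.ext (by show x ^ 2 ^ 1 = 1; rw [pow_one, pow_two]; exact hsq x hx)⟩
  have hEc : ∀ {b}, b ∈ E → E ≤ centralizer ({b} : Set G) := fun hb g hg => mem_c (hCm g hg _ hb)
  have hnd : ∀ {Y : Subgroup G}, Odd (Nat.card Y) → ¬ 2 ∣ Nat.card Y := fun h h' =>
    (Nat.not_even_iff_odd.mpr h) (even_iff_two_dvd.mpr h')
  have hEO : ∀ {b}, b ∈ E → E ≤ normalizer (core (centralizer ({b} : Set G)) : Set G) :=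
    fun hb => (hEc hb).trans (le_normalizer_core _)
  obtain ⟨W₀, w1, -, w3, w4, w5, w6, w7, -, w9, -⟩ := RelFunctor.cores (A := E) (Q := E)
    (X := fun b => core (centralizer ({b} : Set G))) hCm hsq hcard hpE hCm (fun b _ _ => core_le _)
    (fun b _ _ => hnd (odd_card_core _)) (fun b _ _ => hsol _ (odd_card_core _))
    (fun b _ _ => le_normalizer_core _) (fun e he f hf he1 hf1 => by
      subst hE
      exact H.comm_le hV hV' hd hc h34 he he1 hf hf1)
  have hW₀odd : Odd (Nat.card W₀) := by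
    rw [← Nat.not_even_iff_odd, even_iff_two_dvd]; exact w1
  obtain ⟨v₀, hv₀, hv₀1⟩ := hV.exists_ne
  obtain ⟨Z, hZ⟩ : ∃ Z, Z = core (centralizer ({v₀} : Set G)) ⊓ centralizer (E : Set G) := ⟨_, rfl⟩
  -- `Z_E` does not depend on the root
  have bal : ∀ {b b'}, b ∈ V ∨ b ∈ V' → b ≠ 1 → b' ∈ V ∨ b' ∈ V' → b' ≠ 1 →
      core (centralizer ({b} : Set G)) ⊓ centralizer ({b'} : Set G) ≤ core (centralizer ({b'} : Set G)) :=
    fun hb hb1 hb' hb1' y hy => H.balance (hV.rt_sup hV' hb hb1) (hV.rt_sup hV' hb' hb1')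
      (hCm _ (hbE hb) _ (hbE hb')) hy.1 hy.2
  have hce : ∀ {b}, b ∈ E → centralizer (E : Set G) ≤ centralizer ({b} : Set G) := fun hb y hy =>
    mem_c (mem_centralizer_iff.mp hy _ hb).symm
  have hZb : ∀ {b}, b ∈ V ∨ b ∈ V' → b ≠ 1 → core (centralizer ({b} : Set G)) ⊓ centralizer (E : Set G) = Z := by
    intro b hb hb1
    rw [hZ]
    apply le_antisymm
    · exact fun y hy => ⟨bal hb hb1 (Or.inl hv₀) hv₀1 ⟨hy.1, hce (hVE hv₀) hy.2⟩, hy.2⟩
    · exact fun y hy => ⟨bal (Or.inl hv₀) hv₀1 hb hb1 ⟨hy.1, hce (hbE hb) hy.2⟩, hy.2⟩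
  have hZodd : Odd (Nat.card Z) := Odd.of_dvd_nat (odd_card_core (centralizer ({v₀} : Set G)))
    (by rw [hZ]; exact card_dvd_of_le inf_le_left)
  have hZN : Z ≤ normalizer (W₀ : Set G) := by
    rw [hZ]
    exact inf_le_left.trans (w7 v₀ (hVE hv₀) hv₀1)
  have hZE : ∀ z ∈ Z, ∀ e ∈ E, z * e = e * z := by
    intro z hz e he
    rw [hZ] at hz
    exact (mem_centralizer_iff.mp hz.2 e he).symm
  have hEZ : E ≤ normalizer (Z : Set G) := le_normalizer_of_conj_mem fun e he z hz => by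
    rw [← hZE z hz e he, mul_inv_cancel_right]; exact hz
  -- `O_b ≤ W₀ ⊔ Z`
  have hOb : ∀ {b}, b ∈ V ∨ b ∈ V' → b ≠ 1 → core (centralizer ({b} : Set G)) ≤ Z ⊔ W₀ := by
    intro b hb hb1 x hx
    obtain ⟨m, hm, c, hc', rfl⟩ := exists_commutator_mul_fixed_of_isPGroup 2 E
      (core (centralizer ({b} : Set G))) hpE (hEO (hbE hb)) (hnd (odd_card_core _)) x hx
    refine mul_mem (mem_sup_right (w4 b (hbE hb) hb1 hm)) (mem_sup_left ?_)
    rw [hZb hb hb1] at hc'
    exact hc'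
  have hWle : ∀ {U : Subgroup G}, (∀ b ∈ U, b ∈ V ∨ b ∈ V') → (∃ b ∈ U, b ≠ 1) → U ≤ E →
      2 ^ 2 ≤ Nat.card U → Functor.W U = Z ⊔ W₀ := by
    intro U hU hU1 hUE hU4
    apply le_antisymm
    · exact Functor.W_le fun b hb hb1 => hOb (hU b hb) hb1
    · refine sup_le ?_ ?_
      · obtain ⟨b, hb, hb1⟩ := hU1
        rw [← hZb (hU b hb) hb1]
        exact inf_le_left.trans (Functor.le_W hb hb1)
      · rw [w6 U hUE hU4]
        refine iSup_le fun b => ?_
        exact (commutator_le_left (hEO (hUE b.2.1))).trans (Functor.le_W b.2.1 b.2.2)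
  have hW : Functor.W V = Z ⊔ W₀ := hWle (fun b hb => Or.inl hb) hV.exists_ne hVE (by rw [hV.natCard]; norm_num)
  have hW' : Functor.W V' = Z ⊔ W₀ :=
    hWle (fun b hb => Or.inr hb) hV'.exists_ne hV'E (by rw [hV'.natCard]; norm_num)
  refine ⟨by rw [hW]; exact odd_sup hZodd hW₀odd hZN, by rw [hW, hW'], ?_⟩
  -- `C_W(b) = O_b`
  have main : ∀ {U : Subgroup G}, (∀ b ∈ U, b ∈ V ∨ b ∈ V') → U ≤ E → 2 ^ 2 ≤ Nat.card U →
      ∀ b ∈ U, b ≠ 1 → (Z ⊔ W₀) ⊓ centralizer ({b} : Set G) ≤ core (centralizer ({b} : Set G)) := by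
    intro U hU hUE hU4 b hb hb1 x hx
    have hbb := hUE hb
    obtain ⟨X, hX⟩ : ∃ X, X = (Z ⊔ W₀) ⊓ centralizer ({b} : Set G) := ⟨_, rfl⟩
    rw [← hX] at hx
    have hEX : E ≤ normalizer (X : Set G) := by
      intro g hg
      have h1 : g ∈ normalizer ((Z ⊔ W₀ : Subgroup G) : Set G) := le_normalizer_sup hEZ w9 hg
      have h2 : g ∈ normalizer (centralizer ({b} : Set G) : Set G) := Subgroup.le_normalizer (hEc hbb hg)
      rw [mem_normalizer_iff_cj] at h1 h2 ⊢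
      rw [hX, cj_inf, h1, h2]
    have hXodd : Odd (Nat.card X) := Odd.of_dvd_nat (odd_sup hZodd hW₀odd hZN)
      (by rw [hX]; exact card_dvd_of_le inf_le_left)
    have dec : ∀ x ∈ Z ⊔ W₀, ∃ z ∈ Z, ∃ y ∈ W₀, z * y = x := by
      intro x hx
      have h1 : x ∈ ((Z ⊔ W₀ : Subgroup G) : Set G) := hx
      rw [Subgroup.coe_mul_of_left_le_normalizer_right _ _ hZN] at h1
      exact h1
    obtain ⟨m, hm, c, hc', rfl⟩ := exists_commutator_mul_fixed_of_isPGroup 2 E X hpE hEX (hnd hXodd) x hx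
    refine mul_mem ?_ ?_
    · -- `⁅X, E⁆`
      have h1 : ⁅X, E⁆ ≤ W₀ := by
        rw [commutator_le]
        intro x hx e he
        rw [hX] at hx
        obtain ⟨z, hz, y, hy, rfl⟩ := dec x hx.1
        have h2 : ⁅y, e⁆ ∈ W₀ := commutator_le_left w9 (commutator_mem_commutator hy he)
        have h3 : ⁅z * y, e⁆ = z * ⁅y, e⁆ * z⁻¹ := by
          rw [commutatorElement_def, commutatorElement_def, mul_inv_rev]
          have h4 : z⁻¹ * e⁻¹ = e⁻¹ * z⁻¹ := by
            rw [← mul_inv_rev, ← mul_inv_rev, hZE z hz e he]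
          calc z * y * e * (y⁻¹ * z⁻¹) * e⁻¹ = z * y * e * y⁻¹ * (z⁻¹ * e⁻¹) := by group
            _ = z * y * e * y⁻¹ * (e⁻¹ * z⁻¹) := by rw [h4]
            _ = z * (y * e * y⁻¹ * e⁻¹) * z⁻¹ := by group
        rw [h3]
        exact conj_mem_of_le_normalizer hZN hz h2
      have h2 : ⁅X, E⁆ ≤ X := commutator_le_left hEX
      have hcop : (Nat.card E).Coprime (Nat.card X) := by
        obtain ⟨n, hn⟩ := hpE.exists_card_eq
        rw [hn]
        apply Nat.Coprime.pow_left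
        rw [Nat.prime_two.coprime_iff_not_dvd]
        exact hnd hXodd
      have h3 := commutator_commutator_eq E X hEX hcop
      have h4 : ⁅⁅X, E⁆, E⁆ ≤ ⁅W₀ ⊓ centralizer ({b} : Set G), E⁆ :=
        commutator_mono (le_inf h1 (h2.trans (by rw [hX]; exact inf_le_right))) le_rfl
      rw [h3, w5 b hbb hb1] at h4
      exact commutator_le_left (hEO hbb) (h4 hm)
    · -- `C_X(E)`
      have hcX := hc'.1
      rw [hX] at hcX
      obtain ⟨z, hz, y, hy, hzy⟩ := dec c hcX.1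
      have hzO : z ∈ core (centralizer ({b} : Set G)) := by
        rw [← hZb (hU b hb) hb1] at hz
        exact hz.1
      rw [← hzy]
      refine mul_mem hzO ?_
      have hyE : y ∈ centralizer (E : Set G) := by
        have h1 : y = z⁻¹ * c := by rw [← hzy, inv_mul_cancel_left]
        rw [h1]
        refine Subgroup.mul_mem _ (Subgroup.inv_mem _ ?_) hc'.2
        rw [hZ] at hz
        exact hz.2
      have hyU : y ∈ W₀ ⊓ centralizer (U : Set G) :=
        ⟨hy, mem_centralizer_iff.mpr fun u hu => mem_centralizer_iff.mp hyE u (hUE hu)⟩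
      have hUel : Cfsg.IsElementaryAbelian 2 U := by
        refine ⟨IsMulCommutative.of_setLike_mul_comm fun x hx y hy => hCm x (hUE hx) y (hUE hy),
          fun x hx => ?_⟩
        rw [pow_two]
        exact hsq x (hUE hx)
      have h1 := RelGen.inf_centralizer_le (p := 2) (Y := W₀) (Q := E) (B := U) hpE hUel hU4
        (fun q hq u hu => hCm q hq u (hUE hu)) (hsol _ hW₀odd) w1 w9 (hUE.trans w9)
        w3.ge hyU
      have h2 : (⨆ b : {b : G // b ∈ U ∧ b ≠ 1}, centralizer (U : Set G) ⊓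
          ⁅W₀ ⊓ centralizer {(b : G)}, E⁆) ≤ core (centralizer ({b} : Set G)) := by
        refine iSup_le fun b' => ?_
        rw [w5 (b' : G) (hUE b'.2.1) b'.2.2]
        intro x hx
        refine bal (hU b' b'.2.1) b'.2.2 (hU b hb) hb1
          ⟨commutator_le_left (hEO (hUE b'.2.1)) hx.2, mem_c (mem_centralizer_iff.mp hx.1 b hb).symm⟩
      exact h2 h1
  intro b hb hb1
  apply le_antisymm
  · rw [hW]
    rcases hb with hb | hb
    · exact main (fun b hb => Or.inl hb) hVE (by rw [hV.natCard]; norm_num) b hb hb1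
    · exact main (fun b hb => Or.inr hb) hV'E (by rw [hV'.natCard]; norm_num) b hb hb1
  · rw [hW]
    exact le_inf (hOb hb hb1) (core_le _)

end

end Cfsg.Agent.UAlt
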