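import Cfsg.Agent.UAlt.Frame
import Cfsg.Agent.UGT.Nodes

/-!
# Unbalancing triples of type `Alt(11)`: the frame

By the ruling on the order of the types, the triples of `G` are of type `Alt(m)`, `m ≤ 11` odd, `L₂(q)` or `L₃(4)`
(`He` and the covers of `L₃(4)` are dead).

* `Hyp11 G`: the hypotheses on the ambient group (`Hyp` of `UAlt.Frame` for `n = 11`, with `7 ≤ k` instead of
  `9 ≤ k` in `simple` and `big`, and the field `types`).
* `Bal11`, `Fun11`: the outputs of (E3.1), (E3.2), (E3.5) of text #9985.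
-/

set_option autoImplicit false
set_option linter.unusedSectionVars false

open Cfsg Equiv Equiv.Perm Subgroup
open Cfsg.Agent.Intrinsic.Basic Cfsg.Agent.Intrinsic.Diag
open Cfsg.Agent.SignalizersComponents Cfsg.Agent.Lib
open Cfsg.Agent.SignalizersComponents.IntrinsicBasic
open Cfsg.Agent.UGT.Triple
open Cfsg.Agent.StdAlt.Roots (IsRoot)
open scoped commutatorElement

namespace Cfsg.Agent.UAlt

section defs

variable {G : Type*} [Group G]

/-- the field `small` of `Hyp` -/
def Small (G : Type*) [Group G] : Prop :=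
  ∀ {x f : G} {J : Subgroup G}, IsTriple x f J → (∃ m, 7 ≤ m ∧ AltType J m) ∨
    ∀ {t : G}, t ∈ centralizer ({f} : Set G) → t ∈ normalizer (J : Set G) → t * t = 1 →
      ∀ {E : Subgroup G}, IsComp (J ⊓ centralizer ({t} : Set G)) E → ∀ {k : ℕ}, 5 ≤ k → AltType E k →
        Fixes x E → ∀ {U : Subgroup G}, U ≤ centralizer ({f} : Set G) → (∀ u ∈ U, u * u = 1) →
          Nat.card U = 4 → (∀ u ∈ U, u ∈ normalizer (J : Set G) ∧ u * t = t * u ∧ u * x = x * u ∧ Fixes u E) →
            ∃ u ∈ U, u ≠ 1 ∧ Fixes u J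

/-- Hypotheses on the ambient group, `n = 11`. -/
structure Hyp11 (G : Type*) [Group G] [Finite G] : Prop where
  /-- the list of the types -/
  types : ∀ {x f : G} {J : Subgroup G}, IsTriple x f J →
    (∃ m, Odd m ∧ 7 ≤ m ∧ m ≤ 11 ∧ AltType J m) ∨ UGT.Iface.IsL2 (↥J ⧸ oddCore ↥J) ∨
      UGT.Iface.IsL34 (↥J ⧸ oddCore ↥J)
  /-- the 2-component of a triple is not a proper cover of an alternating group -/
  simple : ∀ {x f : G} {J : Subgroup G}, IsTriple x f J → ∀ {k : ℕ}, 7 ≤ k →
    ∀ (g : (↥J ⧸ oddCore ↥J) →* alternatingGroup (Fin k)), Function.Surjective g →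
      g.ker ≤ center (↥J ⧸ oddCore ↥J) → AltType J k
  /-- the 2-component of a triple is alternating if the centralizer of some involution has an alternating
  2-component of degree at least seven on it -/
  big : ∀ {x f : G} {J : Subgroup G}, IsTriple x f J → ∀ {t : G}, t ∈ normalizer (J : Set G) →
    t * t = 1 → ∀ {E : Subgroup G}, IsComp (J ⊓ centralizer ({t} : Set G)) E → ∀ {k : ℕ}, 7 ≤ k →
      AltType E k → ∃ m, Odd m ∧ 7 ≤ m ∧ m ≤ 11 ∧ AltType J m
  small : Small G

variable {α : Type*} [Fintype α] [DecidableEq α] {L : Subgroup G} {Ω : Finset α}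

/-- `e`, `f` commuting roots of `L` -/
def Mod.Rt2 (M : Mod L Ω) (v w : G) : Prop := M.Rt v ∧ M.Rt w ∧ v * w = w * v

/-- The output of (E3.1), (E3.2): for commuting roots `v`, `w` of `L`, `w` is trivial on the 2-components
`J ≠ K_v` of `C(v)`, and `O(C(v)) ∩ C(w) ≤ O(C(w))`. -/
structure Bal11 [Finite G] (M : Mod L Ω) : Prop where
  other : ∀ {v w : G}, M.Rt2 v w → ∀ {J : Subgroup G}, IsComp (centralizer ({v} : Set G)) J →
    ¬ M.cmp v ≤ J → Fixes w J
  bal : ∀ {v w : G}, M.Rt2 v w →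
    core (centralizer ({v} : Set G)) ⊓ centralizer ({w} : Set G) ≤ core (centralizer ({w} : Set G))

/-- `W_V = ⟨O(C(v)) : v ∈ V#⟩` -/
def WV (V : Subgroup G) : Subgroup G := ⨆ v ∈ {v : G | v ∈ V ∧ v ≠ 1}, core (centralizer ({v} : Set G))

/-- The output of (E3.5) for the disjoint commuting root four-groups `V`, `V'` of `L`. -/
structure Fun11 [Finite G] (V V' : Subgroup G) : Prop where
  odd : Odd (Nat.card (WV V))
  eq : WV V = WV V'
  cent : ∀ v, v ∈ V ∨ v ∈ V' → v ≠ 1 →
    WV V ⊓ centralizer ({v} : Set G) = core (centralizer ({v} : Set G))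

end defs

end Cfsg.Agent.UAlt
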