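import Cfsg.Agent.UAlt.Eleven.NormE
import Cfsg.Agent.UAlt.Eleven.Frame
import Cfsg.Agent.UAlt.PKDef

/-!
# `n = 11`, case N with `X = ∅`: (E3.6)-(E3.8) of text #9985

* `WV_eq`: the two forms of the completion.
* `exists_pair`: two disjoint commuting root four-groups.
* `zpair_eleven`, `zero_eleven`.
-/

set_option autoImplicit false
set_option linter.unusedSectionVars false

open Cfsg Subgroup Equiv Equiv.Perm
open Cfsg.Agent.SignalizersComponents Cfsg.Agent.Lib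
open Cfsg.Agent.SignalizersComponents.IntrinsicBasic
open Cfsg.Agent.Intrinsic Cfsg.Agent.Intrinsic.Basic Cfsg.Agent.Intrinsic.Cen Cfsg.Agent.Intrinsic.Diag
open Cfsg.Agent.McLLyComp.Act
open Cfsg.Agent.StdAlt.Roots (IsRoot)
open scoped commutatorElement

namespace Cfsg.Agent.UAlt

variable {G : Type*} [Group G] [Finite G] {α : Type*} [Fintype α] [DecidableEq α]
  {L : Subgroup G} {Ω : Finset α} {M : Mod L Ω} {V V' : Subgroup G} {T T' : Finset α}

theorem WV_eq (V : Subgroup G) : WV V = Functor.W V := by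
  apply le_antisymm
  · exact iSup₂_le fun v hv => Functor.le_W hv.1 hv.2
  · exact Functor.W_le fun v hv h1 => le_iSup₂_of_le v ⟨hv, h1⟩ le_rfl

theorem Fun11.zw (h : Fun11 V V') : ZW V V' where
  eq := by rw [← WV_eq, ← WV_eq]; exact h.eq
  odd := by rw [← WV_eq]; exact h.odd
  left := fun v hv h1 => by rw [← WV_eq]; exact h.cent v (Or.inl hv) h1
  right := fun v hv h1 => by rw [← WV_eq]; exact h.cent v (Or.inr hv) h1

/-- two disjoint commuting root four-groups -/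
theorem exists_pair (M : Mod L Ω) (h8 : 8 ≤ Ω.card) :
    ∃ (V V' : Subgroup G) (T T' : Finset α), RF M V T ∧ RF M V' T' ∧ Disjoint T T' ∧ Cm V V' := by
  obtain ⟨T, hT, hTc⟩ := Finset.exists_subset_card_eq (s := Ω) (n := 4) (by omega)
  have h1 := Finset.le_card_sdiff T Ω
  obtain ⟨T', hT', hTc'⟩ := Finset.exists_subset_card_eq (s := Ω \ T) (n := 4) (by omega)
  have d1 : Disjoint T T' := Finset.disjoint_left.mpr fun y hy hy' => (Finset.mem_sdiff.mp (hT' hy')).2 hy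
  have s1 : T' ⊆ Ω := fun y hy => (Finset.mem_sdiff.mp (hT' hy)).1
  obtain ⟨V, hV⟩ := exists_RF' M hT hTc
  obtain ⟨V', hV', c1⟩ := exists_RF_fix M s1 hTc' hV.isPGroup (hV.le.trans le_normalizer)
    (fun v hv y hy => (hV.mem v hv).2 y fun h => Finset.disjoint_left.mp d1 h hy)
  exact ⟨V, V', T, T', hV, hV', d1, fun x hx y hy => (c1 y hy x hx).symm⟩

/-- (3.6): the situation `ZPair` -/
theorem zpair_eleven {a : G} (hΩ : Ω.card = 11) (hN : CaseN M a ∅) (hB : Bal11 M) (r1 : RF M V T)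
    (r2 : RF M V' T') (d : Disjoint T T') (c : Cm V V') (hF : Fun11 V V') : ZPair M V V' T T' := by
  have hkz : ∀ v, M.Rt v → ∃ K, KZ M v K := by
    intro v hv
    obtain ⟨K, Mv, hK⟩ := hN.ex v hv
    exact ⟨K, hK.kz (by omega) hv⟩
  have key : ∀ {V V' : Subgroup G} {T T' : Finset α}, RF M V T → RF M V' T' → Disjoint T T' → Cm V V' →
      ∀ v ∈ V, v ≠ 1 → ∀ K, KZ M v K → centralizer ({v} : Set G) ≤ normalizer (K : Set G) := by
    intro V V' T T' r1 r2 d c v hv h1 K hK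
    obtain ⟨w, hw, h2⟩ := r2.exists_ne
    obtain ⟨K', hK'⟩ := hkz w (r2.rt hw h2)
    have hrv := r1.rt hv h1
    refine KZ.normal_eleven hΩ r1 r2 d c hv h1 hw h2 hK hK' ?_ ?_
    · intro r hr hvr J hJ hne
      refine hB.other ⟨hrv, hr, hvr⟩ hJ fun hle => hne ?_
      exact (M.isComp_cmp (le_normalizer hrv.1) hrv.2.1 (by rw [hrv.card_fix]; omega)).unique hJ
        hK.comp hle hK.le
    · exact hB.bal ⟨r2.rt hw h2, hrv, (c v hv w hw).symm⟩
  exact ⟨by omega, r1, r2, d, c, hF.zw, hkz, key r1 r2 d c,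
    key r2 r1 d.symm (fun x hx y hy => (c y hy x hx).symm)⟩

/-- **`n = 11`, `ξ = 0`: the package.** -/
theorem zero_eleven {a : G} (hL : IsComp (centralizer ({a} : Set G)) L) (hΩ : Ω.card = 11)
    (hN : CaseN M a ∅) (hB : Bal11 M)
    (hF : ∀ {V V' : Subgroup G} {T T' : Finset α}, RF M V T → RF M V' T' → Disjoint T T' → Cm V V' →
      Fun11 V V') :
    ∃ (B : Subgroup G) (MB : Mod B Ω), L ≤ B ∧
      (∀ u, MB.Rt u → centralizer ({u} : Set G) ≤ normalizer (B : Set G)) ∧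
      (∀ u, MB.Rt u → core B ⊓ centralizer ({u} : Set G) = core (centralizer ({u} : Set G))) ∧
      ∀ u, MB.Rt u → IsComp (centralizer ({u} : Set G)) (MB.cmp u) := by
  obtain ⟨V, V', T, T', r1, r2, d, c⟩ := exists_pair M (by omega)
  obtain ⟨B, MB, h1, -, h2, h3, h4⟩ := (zpair_eleven hΩ hN hB r1 r2 d c (hF r1 r2 d c)).pk hL
  exact ⟨B, MB, h1, h2, h3, h4⟩

/-- **`n = 11`, `ξ = 0`: the package `PKE`.** -/
theorem zero_eleven_pke {a : G} (hL : IsComp (centralizer ({a} : Set G)) L) (hΩ : Ω.card = 11)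
    (hN : CaseN M a ∅) (hB : Bal11 M)
    (hF : ∀ {V V' : Subgroup G} {T T' : Finset α}, RF M V T → RF M V' T' → Disjoint T T' → Cm V V' →
      Fun11 V V') : ∃ (B : Subgroup G) (MB : Mod B Ω), L ≤ B ∧ PKE MB := by
  obtain ⟨B, MB, h1, h2, h3, h4⟩ := zero_eleven hL hΩ hN hB hF
  exact ⟨B, MB, h1, ⟨by omega, h2, h3, h4⟩⟩

end Cfsg.Agent.UAlt
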