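import Cfsg.Agent.UAlt.Eleven.Duo
import Cfsg.Agent.UAlt.Eleven.Func
import Cfsg.Agent.UAlt.Eleven.NormF

/-!
# `n = 11`, `xi = 0`: the outputs `Bal11`, `Fun11`

* `Iso.bal11` : (3.1), (3.2).
* `Iso.h34_of` : `O_e ∩ C(z) ≤ O_z` for `z = v w` from the non-existence of triples `(e, z, J)` with `J` active.
* `Iso.fun11_of` : (3.5).
-/

set_option autoImplicit false
set_option linter.unusedSectionVars false

namespace Cfsg.Agent.UAlt

open Cfsg Equiv Equiv.Perm Subgroup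
open Cfsg.Agent.Intrinsic.Basic Cfsg.Agent.Intrinsic Cfsg.Agent.Intrinsic.Cen Cfsg.Agent.Intrinsic.Diag
open Cfsg.Agent.SignalizersComponents Cfsg.Agent.Lib
open Cfsg.Agent.SignalizersComponents.IntrinsicBasic
open Cfsg.Agent.McLLyComp.Act
open Cfsg.Agent.UGT.Triple Cfsg.Agent.UGT.LemG Cfsg.Agent.UGT.PumpGen
open scoped commutatorElement

universe u

variable {G : Type u} [Group G] [Finite G] {α : Type*} [Fintype α] [DecidableEq α] {L : Subgroup G}
  {Ω : Finset α} {M : Mod L Ω} {a : G}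

theorem Iso.bal11 (H : Iso M a) : Bal11 M where
  other := by
    rintro v w ⟨hv, hw, hvw⟩ J hJ hn
    obtain ⟨K, hK⟩ := H.exists_K hv
    exact H.fixes_other hv hw hvw hK hJ fun h => hn (h ▸ hK.le)
  bal := by
    rintro v w ⟨hv, hw, hvw⟩ y hy
    exact H.balance hv hw hvw hy.1 hy.2

section

variable {V V' : Subgroup G} {T T' : Finset α}

/-- `z = v w` has three fixed points -/
theorem Iso.card_fixIn_mul (h11 : Ω.card = 11) (hV : RF M V T) (hV' : RF M V' T') (hd : Disjoint T T')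
    {v w : G} (hv : v ∈ V) (hv1 : v ≠ 1) (hw : w ∈ V') (hw1 : w ≠ 1) :
    (fixIn Ω (M.φ (v * w))).card < 5 := by
  have rv := hV.root hv hv1
  have rw' := hV'.root hw hw1
  have h1 : fixIn Ω (M.φ (v * w)) ⊆ (Ω \ T) \ T' := by
    intro x hx
    rw [mem_fixIn, M.mul _ _ rv.memN rw'.memN, Perm.mul_apply] at hx
    obtain ⟨hxΩ, hx⟩ := hx
    rw [Finset.mem_sdiff, Finset.mem_sdiff]
    refine ⟨⟨hxΩ, fun hxT => ?_⟩, fun hxT' => ?_⟩
    · rw [rw'.apply_eq (Finset.disjoint_left.mp hd hxT)] at hx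
      exact rv.apply_ne hxT hx
    · have h2 : M.φ w x ∉ T := fun h => Finset.disjoint_left.mp hd h (rw'.apply_mem hxT')
      rw [rv.apply_eq h2] at hx
      exact rw'.apply_ne hxT' hx
  have h2 := Finset.card_le_card h1
  have h3 : (Ω \ T).card = 7 := by rw [Finset.card_sdiff_of_subset hV.sub, hV.card, h11]
  have h4 : ((Ω \ T) \ T').card = 3 := by
    rw [Finset.card_sdiff_of_subset, h3, hV'.card]
    intro x hx
    exact Finset.mem_sdiff.mpr ⟨hV'.sub hx, fun hx' => Finset.disjoint_left.mp hd hx' hx⟩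
  omega

/-- (3.4) ⊢ `O_e ∩ C(z) ≤ O_z` -/
theorem Iso.h34_of (H : Iso M a) (hV : RF M V T) (hV' : RF M V' T') (hd : Disjoint T T') (hc : Cm V V')
    (hnt : ∀ {z v u h w t k u₁ t₁ : G}, DDuo M z v u h w t k → DDuo M z (v * h * k) u₁ (h * v) (w * h * k) t₁ h →
      (fixIn Ω (M.φ z)).card < 5 → ∀ {J : Subgroup G}, IsComp (centralizer ({z} : Set G)) J → ¬ Fixes v J →
      ∀ {e : G}, IsTriple e z J → False) :
    ∀ e ∈ V ⊔ V', e ≠ 1 → ∀ v ∈ V, v ≠ 1 → ∀ w ∈ V', w ≠ 1 →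
      core (centralizer ({e} : Set G)) ⊓ centralizer ({v * w} : Set G) ≤
        core (centralizer ({v * w} : Set G)) := by
  intro e he he1 v hv hv1 w hw hw1 y hy
  have hCm := hc.sup hV.cm hV'.cm
  have hzE : v * w ∈ V ⊔ V' := mul_mem (mem_sup_left hv) (mem_sup_right hw)
  have hvE : v ∈ V ⊔ V' := mem_sup_left hv
  have h5 := Iso.card_fixIn_mul H.h11 hV hV' hd hv hv1 hw hw1
  obtain ⟨u, hu, t, ht, h, k, u₁, t₁, hu1, huv, ht1, htw, D, D'⟩ :=
    exists_dduo H.h11 hV hV' hd hc hv hv1 hw hw1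
  by_contra hn
  have hoe : orderOf e = 2 := orderOf_eq_prime (by rw [pow_two]; exact hc.sq_sup hV.sq hV'.sq he) he1
  have hzz := D.zz
  have hz1 : v * w ≠ 1 := by
    intro h
    have h1 : v = w := by
      rw [mul_eq_one_iff_eq_inv] at h
      rw [h]
      exact inv_eq_of_mul_eq_one_left (hV'.sq w hw)
    have h2 : w ∈ V ⊓ V' := ⟨h1 ▸ hv, hw⟩
    rw [hV.inf_eq_bot hV' hd, mem_bot] at h2
    exact hw1 h2
  have hoz : orderOf (v * w) = 2 := orderOf_eq_prime (by rw [pow_two]; exact hzz) hz1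
  obtain ⟨J, T⟩ := exists_triple hoe hoz (hCm _ hzE _ he) hy.1 hy.2 hn
  refine hnt D D' h5 T.comp (fun hf => ?_) T
  -- the inactive case
  have key : ∀ r, M.Rt r → r ∈ V ⊔ V' → Fixes r J := fun r hr hrE =>
    H.inactive D.z_mem hzz h5 T.comp (hV.rt hv hv1) hr (hCm v hvE _ hzE) (hCm r hrE _ hzE)
      (hCm r hrE v hvE) hf
  apply T.not_fixes
  obtain ⟨x, hx, x', hx', rfl⟩ := hc.mem_sup.mp he
  refine fixes_mul ?_ ?_
  · by_cases h1 : x = 1
    · rw [h1]; exact fixes_one J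
    · exact key x (hV.rt hx h1) (mem_sup_left hx)
  · by_cases h1 : x' = 1
    · rw [h1]; exact fixes_one J
    · exact key x' (hV'.rt hx' h1) (mem_sup_right hx')

/-- (3.5) -/
theorem Iso.fun11_of (H : Iso M a) (hV : RF M V T) (hV' : RF M V' T') (hd : Disjoint T T') (hc : Cm V V')
    (hsol : ∀ Y : Subgroup G, Odd (Nat.card Y) → Group.IsSolvable Y)
    (hnt : ∀ {z v u h w t k u₁ t₁ : G}, DDuo M z v u h w t k → DDuo M z (v * h * k) u₁ (h * v) (w * h * k) t₁ h →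
      (fixIn Ω (M.φ z)).card < 5 → ∀ {J : Subgroup G}, IsComp (centralizer ({z} : Set G)) J → ¬ Fixes v J →
      ∀ {e : G}, IsTriple e z J → False) : Fun11 V V' := by
  obtain ⟨h1, h2, h3⟩ := H.functor hV hV' hd hc hsol (H.h34_of hV hV' hd hc hnt)
  exact ⟨by rw [WV_eq]; exact h1, by rw [WV_eq, WV_eq]; exact h2,
    fun v hv hv1 => by rw [WV_eq]; exact h3 v hv hv1⟩

end

end Cfsg.Agent.UAlt
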