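import Cfsg.Agent.UAlt.Case0
import Cfsg.Agent.UAlt.Eleven.Frame

/-!
# Case N or case D for `n = 11`
-/

set_option autoImplicit false

namespace Cfsg.Agent.UAlt

open Cfsg Equiv Equiv.Perm Subgroup
open Cfsg.Agent.Intrinsic.Basic
open Cfsg.Agent.SignalizersComponents Cfsg.Agent.Lib
open Cfsg.Agent.SignalizersComponents.IntrinsicBasic
open Cfsg.Agent.UGT.Triple

variable {G : Type*} [Group G] [Finite G] {α : Type*} [Fintype α] [DecidableEq α]
  {L : Subgroup G} {Ω : Finset α} {x a : G}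

/-- **(E0)** case N or case D, `n = 11` -/
theorem caseN_or_caseD11 (H : Hyp11 G) (T : IsTriple x a L) (M : Mod L Ω) (hΩ : Ω.card = 11)
    (hα : 4 ≤ Ωᶜ.card) : (∃ X, CaseN M a X) ∨ CaseD M a :=
  caseN_or_caseD_aux (by decide) (by omega) T M hΩ hα fun hN ha hE hA =>
    H.big hN ha (sq_of_order T.inva) hE (k := 11 - 4) (by omega) hA

end Cfsg.Agent.UAlt
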