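import Cfsg.Agent.UAlt.Eleven.CaseDC
import Cfsg.Agent.UAlt.Eleven.Frame
import Cfsg.Agent.UAlt.CaseDEnd

/-!
# Case D for `n = 11`: (4.3)-(4.7)
-/

set_option autoImplicit false
set_option linter.unusedSectionVars false

namespace Cfsg.Agent.UAlt

open Cfsg Equiv Equiv.Perm Subgroup
open Cfsg.Agent.Intrinsic.Basic Cfsg.Agent.Intrinsic
open Cfsg.Agent.Intrinsic.Cen Cfsg.Agent.Intrinsic.Diag
open Cfsg.Agent.SignalizersComponents Cfsg.Agent.Lib
open Cfsg.Agent.SignalizersComponents.IntrinsicBasic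
open Cfsg.Agent.SignalizersComponents.IntrinsicIntr
open Cfsg.Agent.SignalizersComponents.PLayerAut
open Cfsg.Agent.UGT.Triple Cfsg.Agent.UGT.LemG Cfsg.Agent.McLLyComp.Act
open scoped commutatorElement

variable {G : Type*} [Group G] {α : Type*} [Fintype α] [DecidableEq α]
variable {L : Subgroup G} {Ω S T F : Finset α}

section

variable [Finite G] {M : Mod L Ω} {a v w : G}

namespace Two

variable {Kv Kw : Subgroup G} {Mv : Mod Kv (Ω \ S)} {Mw : Mod Kw (Ω \ T)}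

section

variable (h : Two M a v w S T F Kv Kw Mv Mw) (lk : Lk v a F Kv Kw Mv Mw)

include h lk

/-- **(4.3)** -/
theorem fixes_of {u : G} (hu : u ∈ M.cmp v) (huw : u * w = w * u) (hul : M.φ u ∈ sym T) :
    Fixes u Kw := by
  have huv : u * v = v * u := (M.cmp_comm hu).symm
  have huL : u ∈ L := M.cmp_le v hu
  have huN : u ∈ normalizer (Kv : Set G) := h.dv.memN h.comp h.aa hu
  obtain ⟨δ, hδ, hδ1⟩ := Three.exists_ne h.cardF
  obtain ⟨b, hb, hbw, rfl⟩ := h.exists_A hδ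
  have hcK : ⁅u, b⁆ ∈ Kv := by
    rw [commutatorElement_def]
    exact mul_mem ((mem_normalizer_iff.mp huN b).mp hb) (inv_mem hb)
  have hc : ⁅u, b⁆ ∈ core (centralizer ({v} : Set G)) := by
    refine h.dv.comp.core_le_core ((Mv.core_iff _ hcK).mp ?_)
    rw [commutatorElement_def, Mv.mul _ _ (mul_mem (mul_mem huN (le_normalizer hb)) (inv_mem huN))
      (inv_mem (le_normalizer hb)), Mv.conj huN (le_normalizer hb), Mv.inv (le_normalizer hb),
      mul_inv_eq_one, mul_inv_eq_iff_eq_mul, h.dv.agree u hu]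
    exact (comm_of_fix (T := T) (fun y hy => hδ.2 y (Finset.disjoint_right.mp h.FT hy)) hul).symm
  have hN : u ∈ normalizer (Kw : Set G) :=
    h.symm.norm_of_comm (h.lk_symm lk) huw huv hb hbw hδ hδ1 hc
  rw [← Mw.fixes_iff hN]
  ext y
  by_cases hy : y ∈ Ω \ T
  · rw [h.dw.label (by rw [h.card]) h.comp h.aa (le_normalizer huL) huw hN hy]
    exact hul y (Finset.mem_sdiff.mp hy).2
  · exact Mw.mem_sym u hN y hy

/-- **(4.4)** -/
theorem k_four {W : Subgroup G} (rW : RF M W T) (hW : ∀ u ∈ W, u ∈ M.cmp v) {k : G} (hk : k ∈ Kw)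
    (hkv : k * v = v * k) (hkk : k * k = 1) (hkl : Mw.φ k ∈ sym S)
    (hkW : ∀ u ∈ W, k * u = u * k) : k ∈ normalizer (Kv : Set G) ∧ Mv.φ k ∈ four T := by
  have hkw : k * w = w * k := comm_c (h.dw.comp.le hk)
  obtain ⟨δ, hδ, hδ1⟩ := Three.exists_ne h.cardF
  obtain ⟨b, hb, hbv, hbδ⟩ := h.symm.exists_A hδ
  have hc : ⁅k, b⁆ ∈ core (centralizer ({w} : Set G)) := by
    have hcK : ⁅k, b⁆ ∈ Kw := by
      rw [commutatorElement_def]
      exact mul_mem (mul_mem (mul_mem hk hb) (inv_mem hk)) (inv_mem hb)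
    refine h.dw.comp.core_le_core ((Mw.core_iff _ hcK).mp ?_)
    rw [commutatorElement_def, Mw.mul _ _ (mul_mem (mul_mem (le_normalizer hk) (le_normalizer hb))
      (inv_mem (le_normalizer hk))) (inv_mem (le_normalizer hb)),
      Mw.conj (le_normalizer hk) (le_normalizer hb), Mw.inv (le_normalizer hb),
      mul_inv_eq_one, mul_inv_eq_iff_eq_mul, hbδ]
    exact (comm_of_fix (T := S) (fun y hy => hδ.2 y (Finset.disjoint_right.mp h.FS hy)) hkl).symm
  have hbl : Mw.φ b ∈ alt F := by rw [hbδ]; exact hδ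
  have hN : k ∈ normalizer (Kv : Set G) :=
    h.norm_of_comm lk hkv hkw hb hbv hbl (by rw [hbδ]; exact hδ1) hc
  refine ⟨hN, ?_⟩
  have hbc := h.symm.A_core hb hbv hbl
  rw [inf_comm] at hbc
  have hbN := h.core_N hbc
  have hbφ : Mv.φ b = δ := by rw [(lk b hb hbv hbl).1, hbδ]
  obtain ⟨κ, hκ⟩ : ∃ κ, κ = Mv.φ k := ⟨_, rfl⟩
  rw [← hκ]
  have hκκ : κ * κ = 1 := by rw [hκ]; exact Mv.sq hN hkk
  -- `κ` commutes with `δ`
  have hκδ : κ * δ = δ * κ := by
    have hcv : ⁅k, b⁆ * v = v * ⁅k, b⁆ := by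
      have h1 : ⁅k, b⁆ ∈ centralizer ({v} : Set G) := by
        rw [commutatorElement_def]
        exact Subgroup.mul_mem _ (Subgroup.mul_mem _ (Subgroup.mul_mem _ (mem_c hkv) (mem_c hbv))
          (Subgroup.inv_mem _ (mem_c hkv))) (Subgroup.inv_mem _ (mem_c hbv))
      exact comm_c h1
    have h1 := h.Y_triv' hc hcv
    rw [commutatorElement_def, Mv.mul _ _ (mul_mem (mul_mem hN hbN) (inv_mem hN)) (inv_mem hbN),
      Mv.conj hN hbN, Mv.inv hbN, mul_inv_eq_one, mul_inv_eq_iff_eq_mul, hbφ, ← hκ] at h1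
    exact h1
  -- `κ` commutes with `four T`
  have hκ4 : ∀ σ ∈ four T, κ * σ = σ * κ := by
    intro σ hσ
    obtain ⟨u, hu, rfl⟩ := rW.four_lift hσ
    rw [← h.dv.agree u (hW u hu), hκ]
    exact Mv.comm hN (h.dv.memN h.comp h.aa (hW u hu)) (hkW u hu)
  have hT4 := h.dw.root.card
  obtain ⟨σ₀, hσ₀, hσ₀1⟩ := exists_four_ne hT4
  have hκT := mem_iff_of_comm hT4 hσ₀ hσ₀1 (hκ4 σ₀ hσ₀)
  obtain ⟨ν, hν, hνκ⟩ := exists_four_of_comm hT4 hκ4 hκT
  have hνT := four_le_alt hT4 hν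
  have hνν := four_sq hT4 hν
  have hmem : κ * ν ∈ sym F := by
    intro y hy
    rw [Perm.mul_apply]
    by_cases hyT : y ∈ T
    · have h1 : ν y ∈ T := mem_of_mem_sym (alt_le_sym _ hνT) hyT
      rw [hνκ _ h1, ← Perm.mul_apply, hνν]; rfl
    · rw [hνT.2 y hyT, hκ]
      refine Mv.mem_sym k hN y fun h1 => hy ?_
      rw [h.hF]
      exact Finset.mem_sdiff.mpr ⟨h1, hyT⟩
  have hνδ : ν * δ = δ * ν :=
    (comm_of_fix (T := T) (fun y hy => hδ.2 y (Finset.disjoint_right.mp h.FT hy))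
      (alt_le_sym _ hνT)).symm
  have hfin : κ * ν = 1 := by
    refine Three.cent h.cardF hδ hδ1 hmem ?_ ?_
    · calc κ * ν * (κ * ν) = κ * (ν * κ) * ν := by group
        _ = (κ * κ) * (ν * ν) := by rw [← hκ4 ν hν]; group
        _ = 1 := by rw [hκκ, hνν, one_mul]
    · calc κ * ν * δ = κ * (ν * δ) := by group
        _ = (κ * δ) * ν := by rw [hνδ]; group
        _ = δ * (κ * ν) := by rw [hκδ]; group
  have h2 : κ = ν := by
    calc κ = κ * ν * ν⁻¹ := by group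
      _ = ν := by rw [hfin, one_mul]; exact inv_eq_of_mul_eq_one_left hνν
  rw [h2]
  exact hν

end

end Two

variable {x : G} {V W : Subgroup G}

/-- **(4.5)** -/
theorem Ctx.fixes_k11 (c : Ctx M x a V W S T) (hv : v ∈ V) (hv1 : v ≠ 1) (hw : w ∈ W) (hw1 : w ≠ 1)
    {Kv Kw : Subgroup G} {Mv : Mod Kv (Ω \ S)} {Mw : Mod Kw (Ω \ T)}
    (h : Two M a v w S T F Kv Kw Mv Mw) (lk : Two.Lk v a F Kv Kw Mv Mw)
    {K' : Subgroup G} {M' : Mod K' (Ω \ T)} {N : Subgroup G} (hK : KW M a W T w Kw Mw K' M' N)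
    {k : G} (hk : k ∈ K') (hk2 : k * k = 1) (hkφ : M'.φ k = M.φ v) (hkv : k * v = v * k) :
    Fixes k Kv := by
  have hWcmp : ∀ u ∈ W, u ∈ M.cmp v := fun u hu => c.rV.le_cmp' c.rW c.disj c.VW hv hv1 hu
  have hkW : ∀ u ∈ W, k * u = u * k := fun u hu =>
    (mem_centralizer_iff.mp (hK.comp.le hk) u hu).symm
  have hkl : Mw.φ k = M.φ v := by rw [← hK.lab k hk, hkφ]
  obtain ⟨hkN, hκ⟩ := h.k_four lk c.rW hWcmp (hK.le hk) hkv hk2 (by
    rw [hkl]
    exact fun y hy => h.dv.root.apply_eq hy) hkW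
  obtain ⟨τ, hτ, hτκ, y, hyv, hyφ, z, hz, hzv, e1⟩ := c.exists_zy hw hw1 hK hv hv1 hk hk2 hkv
  have hzX : z ∈ centralizer (W : Set G) := core_le _ hz
  have hzW : ∀ u ∈ W, z * u = u * z := fun u hu => (mem_centralizer_iff.mp hzX u hu).symm
  have hzN : z ∈ normalizer (Kv : Set G) :=
    h.odd_norm hzv (hzW w hw) (Odd.of_dvd_nat (odd_card_core (centralizer (W : Set G)))
      (Subgroup.orderOf_dvd_natCard _ hz))
  have hyN : y ∈ normalizer (Kv : Set G) := h.dv.memN h.comp h.aa hyv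
  have hzκ : Mv.φ z * Mv.φ k = Mv.φ k * Mv.φ z := by
    obtain ⟨u, hu, huκ⟩ := c.rW.four_lift hκ
    rw [← huκ, ← h.dv.agree u (hWcmp u hu)]
    exact Mv.comm hzN (h.dv.memN h.comp h.aa (hWcmp u hu)) (hzW u hu)
  have e2 := Mv.comm (mul_mem hzN hyN) hkN e1
  rw [Mv.mul _ _ hzN hyN, h.dv.agree y hyv, hyφ] at e2
  rw [← Mv.fixes_iff hkN]
  refine hτκ _ hκ ?_
  have e3 : Mv.φ z * (τ * τ * Mv.φ k) = Mv.φ z * (Mv.φ k * (τ * τ)) := by
    calc Mv.φ z * (τ * τ * Mv.φ k) = Mv.φ z * (τ * τ) * Mv.φ k := by group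
      _ = Mv.φ k * Mv.φ z * (τ * τ) := by rw [e2]; group
      _ = Mv.φ z * (Mv.φ k * (τ * τ)) := by rw [← hzκ]; group
  exact (mul_left_cancel e3).symm

/-- the 2-component of a triple which has an alternating diagonal is simple modulo its core -/
theorem isSimpleGroup_of_diag11 (H : Hyp11 G) {x c : G} {K : Subgroup G}
    (Tr : IsTriple x c K) {X : Subgroup G} {b : G} (hK : IsComp X K) (hb : b ∈ X) (hb2 : b * b = 1)
    (hne : cj b K ≠ K) {N : Subgroup G} (hN : N = diag X K b) {S : Finset α} (MN : Mod N S)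
    (h7 : 7 ≤ S.card) : IsSimpleGroup (↥K ⧸ oddCore ↥K) := by
  subst hN
  obtain ⟨-, -, -, -, f, hf, hfk, -⟩ := exists_diag hK hb hb2 hne
  obtain ⟨e⟩ := MN.altType
  obtain ⟨e'⟩ := H.simple Tr h7 (e.toMonoidHom.comp f) (e.surjective.comp hf) (by
    refine le_trans (fun y hy => ?_) hfk
    rw [MonoidHom.mem_ker] at hy ⊢
    exact (MulEquiv.map_eq_one_iff e).mp hy)
  have : IsSimpleGroup (alternatingGroup (Fin S.card)) :=
    alternatingGroup.isSimpleGroup (by rw [Nat.card_eq_fintype_card, Fintype.card_fin]; omega)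
  exact e'.isSimpleGroup

theorem types_of_hyp11 (H : Hyp11 G) {Ω : Finset α} (hΩ : Ω.card = 11) (x : G) :
    CaseD.Types Ω x := by
  intro c t N E R hT ht htN hE hM hR
  obtain ⟨M⟩ := hM
  obtain ⟨m, -, h7, hmn, hA⟩ := H.big hT htN ht hE (by omega) M.altType
  obtain ⟨S', hS', hc⟩ := Finset.exists_subset_card_eq (s := Ω) (n := m) (by omega)
  exact ⟨S', hS', hA.mod_of_card hc h7⟩

/-- **(4.1)-(4.5)** -/
theorem exists_mid11 (H : Hyp11 G) (Tr : IsTriple x a L) (M : Mod L Ω) (hΩ : Ω.card = 11)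
    (hD : CaseD M a) : ∃ (S T : Finset α) (v w k : G) (Kv Kw : Subgroup G) (MV : Mod Kv (Ω \ S))
      (MW : Mod Kw (Ω \ T)), CaseD.Mid Ω S T a x v w k Kv Kw MV MW := by
  have hL := Tr.comp
  have ha2 := sq_of_order Tr.inva
  have hai : a⁻¹ = a := inv_eq_of_mul_eq_one_left ha2
  obtain ⟨S, T, V, W, c⟩ := exists_ctx (by omega) Tr M fun S v hv hvx hS => by
    obtain ⟨MV, -⟩ := hv.exists_mod (by omega)
    refine exists_all' (by omega) Tr M hD hv hvx hS fun K htr hK hne he => ?_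
    exact isSimpleGroup_of_diag11 H htr hK
      (mem_centralizer_singleton_iff.mpr (comm_of_comp hL hv.mem).symm) ha2 hne he MV
      (by rw [hv.card_sdiff]; omega)
  obtain ⟨v, hv, hv1⟩ := c.rV.exists_ne
  obtain ⟨w, hw, hw1⟩ := c.rW.exists_ne
  obtain ⟨w', hw', hw1', hww'⟩ := c.rW.exists_ne_ne hw
  have hvr := c.rV.root hv hv1
  have hwr := c.rW.root hw hw1
  have hd := c.disj
  have hvw : v * w = w * v := c.VW v hv w hw
  have hva : v * a = a * v := comm_of_comp hL hvr.mem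
  have hwa : w * a = a * w := comm_of_comp hL hwr.mem
  -- `K_v`, `K_w`
  obtain ⟨F, hF⟩ : ∃ F, F = (Ω \ S) \ T := ⟨_, rfl⟩
  obtain ⟨Kw, Mw, hKw⟩ := c.all T w hwr
  obtain ⟨Kv, Mv, h, lk⟩ : ∃ (Kv : Subgroup G) (Mv : Mod Kv (Ω \ S))
      (_ : Two M a v w S T F Kv Kw Mv Mw), Two.Lk v a F Kv Kw Mv Mw := by
    obtain ⟨J, MJ, hJ⟩ := c.all S v hvr
    have h : Two M a v w S T F J Kw MJ Mw := ⟨hΩ, hL, ha2, hJ, hKw, hd, hvw, hF⟩
    rcases h.exists_lk with lk | lk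
    · exact ⟨J, MJ, h, lk⟩
    · exact ⟨_, _, h.swapV, lk⟩
  have hWcmp : ∀ u ∈ W, u ∈ M.cmp v := fun u hu => c.rV.le_cmp' c.rW hd c.VW hv hv1 hu
  have hw'f : Fixes w' Kw := h.fixes_of lk (hWcmp w' hw') (c.rW.comm hw' hw)
    (alt_le_sym _ (c.rW.mem w' hw'))
  obtain ⟨K', M', N, hK⟩ := c.exists_KW hw hw' hw1 hw1' hww' hKw hw'f
  obtain ⟨k, hk, hk2, hkφ, hkv, hkx⟩ := c.exists_k hw hw1 hKw hK hv hv1
  have hki : k⁻¹ = k := inv_eq_of_mul_eq_one_left hk2
  have hk'2 : a * k * a⁻¹ * (a * k * a⁻¹) = 1 := by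
    calc a * k * a⁻¹ * (a * k * a⁻¹) = a * (k * k) * a⁻¹ := by group
      _ = 1 := by rw [hk2]; group
  have hkv' : k * v = v * k := by
    have e1 : a * k * a⁻¹ = k * v := by
      rw [← hkv, ← mul_assoc, hk2, one_mul]
    have e2 : (k * v)⁻¹ = k * v := by
      rw [← e1]; exact inv_eq_of_mul_eq_one_left hk'2
    have e3 : v⁻¹ = v := inv_eq_of_mul_eq_one_left hvr.sq
    rw [← e2, mul_inv_rev, hki, e3]
  have hk1 : k ≠ 1 := by
    rintro rfl
    rw [M'.one] at hkφ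
    exact hvr.φ_ne_one hkφ.symm
  have hkW : ∀ u ∈ W, k * u = u * k := fun u hu =>
    (mem_centralizer_iff.mp (hK.comp.le hk) u hu).symm
  have hfk : Fixes k Kv := c.fixes_k11 hv hv1 hw hw1 h lk hK hk hk2 hkφ hkv'
  have hfv : Fixes v Kv := by
    have h1 : v ∈ centralizer (Kv : Set G) := by
      rw [mem_centralizer_iff]
      exact fun y hy => comm_c (h.dv.comp.le hy)
    refine ⟨centralizer_le_normalizer _ h1, fun y hy => ?_⟩
    have h2 : ⁅v, y⁆ = 1 :=
      commutatorElement_eq_one_iff_mul_comm.mpr (comm_c (h.dv.comp.le hy)).symm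
    rw [h2]
    exact one_mem _
  have hfk' : Fixes k (cj a Kv) := by
    have e1 := (fixes_mul hfk hfv).cj a
    have e2 : a * (k * v) * a⁻¹ = k := by
      have e3 : k * v = a * k * a⁻¹ := by rw [← hkv, ← mul_assoc, hk2, one_mul]
      rw [e3]
      calc a * (a * k * a⁻¹) * a⁻¹ = (a * a) * k * (a * a)⁻¹ := by group
        _ = k := by rw [ha2]; group
    rwa [e2] at e1
  -- the link
  have hlink : ∃ g ∈ cen (cj a Kw) k, g * v = v * g ∧ g ∈ normalizer (cj a Kv : Set G) ∧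
      ¬ Fixes g (cj a Kv) := by
    have hKwa : IsComp (centralizer ({w} : Set G)) (cj a Kw) :=
      isComp_cj_of_mem hKw.comp (mem_c hwa.symm)
    have hfkW : Fixes k (cj a Kw) := hKwa.fixes_of_mem hKw.comp hKw.ne (hK.le hk)
    obtain ⟨M2, hM2⟩ := CaseD.exists_mod_cen (Mw.cj a) hk2 hfkW (by rw [hwr.card_sdiff]; omega)
    have hvNw : v ∈ normalizer (cj a Kw : Set G) := h.symm.swapV.wN
    have hvC : v ∈ normalizer (cen (cj a Kw) k : Set G) := by
      rw [mem_normalizer_iff_cj, cen, cj_pElem, cj_inf, cj_centralizer,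
        mem_normalizer_iff_cj.mp hvNw]
      have e1 : v * k * v⁻¹ = k := by rw [← hkv', mul_inv_cancel_right]
      rw [e1]
    have hv2 : ∀ y ∈ Ω \ T, M2.φ v y = M.φ v y := by
      intro y hy
      rw [(Mw.cj a).compat M2 (cen_le _ _) hM2 hvNw hvC hy, Mod.cj_φ]
      have e1 : a⁻¹ * v * a = v := by
        rw [mul_assoc, hva, inv_mul_cancel_left]
      rw [e1, hKw.agree v h.symm.w_mem]
    obtain ⟨δ, hδ, hδ1⟩ := Three.exists_ne h.cardF
    have hv3 : M2.φ v = M.φ v := by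
      ext y
      by_cases hy : y ∈ Ω \ T
      · exact hv2 y hy
      · rw [M2.mem_sym v hvC y hy]
        refine (hvr.apply_eq fun h1 => hy ?_).symm
        exact Finset.mem_sdiff.mpr ⟨hvr.sub h1, Finset.disjoint_left.mp hd h1⟩
    obtain ⟨g, hg, hgv, hgδ⟩ := M2.exists_comm_lift hvC (n := 1)
      (by rw [pow_one, pow_two]; exact hvr.sq) (σ := δ) (alt_mono h.symm.sub hδ) (by
        rw [hv3]
        exact (comm_of_fix (T := S) (fun y hy => hδ.2 y (Finset.disjoint_right.mp h.FS hy))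
          (fun y hy => hvr.apply_eq hy)).symm)
    rw [hM2 g hg, Mod.cj_φ] at hgδ
    have hg' : a⁻¹ * g * a ∈ Kw := mem_cj.mp (cen_le _ _ hg)
    have hg'v : a⁻¹ * g * a * v = v * (a⁻¹ * g * a) := by
      have h1 : a⁻¹ * g * a ∈ centralizer ({v} : Set G) :=
        Subgroup.mul_mem _ (Subgroup.mul_mem _ (Subgroup.inv_mem _ (mem_c hva.symm))
          (mem_c hgv.symm)) (mem_c hva.symm)
      exact comm_c h1
    have hl := lk _ hg' hg'v (by rw [hgδ]; exact hδ)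
    have hgc := h.symm.A_core hg' hg'v (by rw [hgδ]; exact hδ)
    rw [inf_comm] at hgc
    have hgN : g ∈ normalizer (cj a Kv : Set G) := by
      have h1 := mem_normalizer_iff_cj.mp (h.core_N hgc)
      rw [mem_normalizer_iff_cj]
      rw [IntrinsicBasic.cj_mul, IntrinsicBasic.cj_mul] at h1
      have h2 := congrArg (cj a) h1
      rwa [cj_cj_inv] at h2
    refine ⟨g, hg, hgv.symm, hgN, fun hf => ?_⟩
    have h1 := ((Mv.cj a).fixes_iff hgN).mpr hf
    rw [Mod.cj_φ, hl.1, hgδ] at h1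
    exact hδ1 h1
  refine ⟨S, T, v, w, k, Kv, Kw, Mv, Mw,
    { card := c.h11
      subS := c.rV.sub
      subT := c.rW.sub
      cardS := c.rV.card
      cardT := c.rW.card
      disj := hd
      inva := Tr.inva
      invv := hvr.order
      invw := hwr.order
      invk := orderOf_eq_prime (by rw [pow_two]; exact hk2) hk1
      ax := Tr.comm
      av := hva.symm
      aw := hwa.symm
      vw := hvw
      kx := hkx
      kw := hkW w hw
      prod := hkv
      kv := hkv'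
      compV := h.dv.comp
      neV := h.dv.ne
      compW := hKw.comp
      neW := hKw.ne
      triple := good_triple c.h11 Tr hvr (c.xV v hv) c.xS h.dv.comp h.dv.ne h.dv.eq
      fixk := hfk
      fixk' := hfk'
      kmem := hK.le hk
      klab := ?_
      wdiag := by rw [← h.dv.eq]; exact hWcmp w hw
      link := Or.inr hlink }⟩
  intro i hi
  rw [← hK.lab k hk, hkφ]
  exact hvr.fix i (Finset.mem_sdiff.mp hi).1

/-- **(E4)**: case D gives a triple in case N with `X = ∅`, `n = 11` -/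
theorem caseN_of_caseD11 (H : Hyp11 G) (Tr : IsTriple x a L) (M : Mod L Ω) (hΩ : Ω.card = 11)
    (hD : CaseD M a) : ∃ (a' : G) (L' : Subgroup G) (M' : Mod L' Ω), IsTriple x a' L' ∧
      CaseN M' a' ∅ := by
  obtain ⟨S, T, v, w, k, Kv, Kw, MV, MW, h⟩ := exists_mid11 H Tr M hΩ hD
  obtain ⟨L', M', R, K, o⟩ := h.result (types_of_hyp11 H hΩ x)
  exact ⟨_, L', M', o.triple, o.caseN h.card⟩

end

end Cfsg.Agent.UAlt
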