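import Cfsg.Agent.UAlt.CaseNW
import Cfsg.Agent.UAlt.Eleven.Frame

/-!
# Case N for `|Ω| = 11`, `|X| = 2` or `4`

* `caseN_W11`: (N2) for `n = 11`, `ξ = 2, 4`.
-/

set_option autoImplicit false
set_option linter.unusedSectionVars false

open Cfsg Subgroup Equiv Equiv.Perm
open Cfsg.Agent.SignalizersComponents Cfsg.Agent.Lib
open Cfsg.Agent.SignalizersComponents.IntrinsicBasic
open Cfsg.Agent.Intrinsic Cfsg.Agent.Intrinsic.Basic Cfsg.Agent.Intrinsic.Cen Cfsg.Agent.Intrinsic.Diag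
open Cfsg.Agent.UGT.Triple
open scoped commutatorElement

namespace Cfsg.Agent.UAlt

variable {G : Type*} [Group G] {α : Type*} [Fintype α] [DecidableEq α]
  {L : Subgroup G} {Ω X : Finset α} {a : G}

theorem Small.sm (hs : Small G) (M : Mod L Ω) (V V' : Subgroup G) : Duo.Sm M a X V V' := by
  intro v v' e _ _ _ _ _ J Tr _ K Mv _ _
  exact hs Tr

/-- **(N2)** for `n = 11`, `ξ = 2, 4` -/
theorem caseN_W11 [Finite G] (FT : Functor.OddSol G) (H : Hyp11 G) (M : Mod L Ω) (hΩ : Ω.card = 11)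
    (hX : X.card = 2 ∨ X.card = 4) (hN : CaseN M a X) : ∃ W : Subgroup G, ConcW M a X W :=
  caseN_W_of_small FT M (by omega) (by rw [hΩ]; decide) (by omega) hN
    fun {V V'} _ _ _ => Small.sm H.small M V V'

end Cfsg.Agent.UAlt
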