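import Cfsg.Agent.UAlt.Eleven.Frame
import Cfsg.Agent.UAlt.NineE

/-!
# The type condition of section (9) from `Hyp11`
-/

set_option autoImplicit false
set_option linter.unusedSectionVars false

namespace Cfsg.Agent.UAlt.Nine

open Cfsg Equiv Equiv.Perm Subgroup
open Cfsg.Agent.Intrinsic.Basic Cfsg.Agent.UGT.Triple
open Cfsg.Agent.UAlt
open scoped commutatorElement

theorem noType_of_hyp11 {G : Type*} [Group G] [Finite G] (H : Hyp11 G) {k : ℕ} (hk : 7 ≤ k) :
    NoType G k := by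
  intro u t J I T _ hI hAI
  obtain ⟨m, -, h7, -, hAJ⟩ := H.big T T.x_mem (sq_of_order T.invx) hI hk hAI
  obtain ⟨MJ⟩ := hAJ.mod_of_card (S := (Finset.univ : Finset (Fin m))) (by simp) h7
  have h3 := MJ.card_of_triple T
  obtain ⟨-, h5⟩ := (MJ.isComp_iff_cmp T.x_mem (sq_of_order T.invx)).mp hI
  omega

variable {G : Type*} [Group G] [Finite G] {α : Type*} [Fintype α] [DecidableEq α]
variable {B : Subgroup G} {S : Finset α} {M : Mod B S}

/-- **closing**, degree at least eleven -/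
theorem closing11 (H : Hyp11 G) (P : PKE M) (h11 : 11 ≤ S.card) :
    (core B).Normal ∧ ∀ g : G, g ∈ normalizer (B : Set G) ∨
      ∀ b ∈ B, ∀ b' ∈ B, ⁅b, g * b' * g⁻¹⁆ ∈ core B :=
  closingE P (noType_of_hyp11 H (by omega))

theorem isSubnormal11 (H : Hyp11 G) (P : PKE M) (h11 : 11 ≤ S.card) : B.IsSubnormal :=
  isSubnormalE P (noType_of_hyp11 H (by omega))

end Cfsg.Agent.UAlt.Nine
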