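import Cfsg.Agent.UAlt.Eleven.GlueTwo
import Cfsg.Agent.UAlt.Eleven.CaseNW11
import Cfsg.Agent.UAlt.Eleven.Case0
import Cfsg.Agent.UAlt.Eleven.Bal
import Cfsg.Agent.UAlt.Eleven.NormF
import Cfsg.Agent.UAlt.Eleven.NoType11
import Cfsg.Agent.UAlt.Eleven.CaseDD
import Cfsg.Agent.UAlt.EndMod

/-!
# The alternating branch of S1311, degree 11: end of the proof

* `H34 M`: the output of (E3.4) (`Iso.h34`).
* `exists_pke_of_caseN`, `exists_pke`: a triple of type `A₁₁` gives a package `PKE` of odd degree at least 11.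
* `final_of`: no triple of type `A₁₁`.
-/

set_option autoImplicit false

open Cfsg Equiv Equiv.Perm Subgroup
open Cfsg.Agent.Intrinsic.Basic
open Cfsg.Agent.SignalizersComponents Cfsg.Agent.Lib
open Cfsg.Agent.SignalizersComponents.IntrinsicBasic
open Cfsg.Agent.Intrinsic
open Cfsg.Agent.UGT.Triple Cfsg.Agent.UGT.Iface
open Cfsg.Agent.FixBN.BTheorem Cfsg.Agent.FixBN.BRelative

namespace Cfsg.Agent.UAlt.Eleven.Final

universe u

variable {G : Type u} [Group G] [Finite G]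

section

variable {α : Type*} [Fintype α] [DecidableEq α] {L : Subgroup G} {Ω X : Finset α} {M : Mod L Ω} {a x : G}

/-- the output of (E3.4) -/
def H34 (M : Mod L Ω) : Prop :=
  ∀ {V V' : Subgroup G} {T T' : Finset α}, RF M V T → RF M V' T' → Disjoint T T' → Cm V V' →
    ∀ e ∈ V ⊔ V', e ≠ 1 → ∀ v ∈ V, v ≠ 1 → ∀ w ∈ V', w ≠ 1 →
      core (centralizer ({e} : Set G)) ⊓ centralizer ({v * w} : Set G) ≤
        core (centralizer ({v * w} : Set G))

/-- (E3.5) -/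
theorem fun11 (FT : Functor.OddSol G) (h : Iso M a) (h34 : H34 M) {V V' : Subgroup G} {T T' : Finset α}
    (hV : RF M V T) (hV' : RF M V' T') (hd : Disjoint T T') (hc : Cm V V') : Fun11 V V' := by
  obtain ⟨h1, h2, h3⟩ := h.functor hV hV' hd hc FT (h34 hV hV' hd hc)
  refine ⟨?_, ?_, ?_⟩
  · rw [WV_eq]; exact h1
  · rw [WV_eq, WV_eq]; exact h2
  · rw [WV_eq]; exact h3

/-- case N, `X = ∅` -/
theorem exists_pke_of_zero (FT : Functor.OddSol G) (h : Iso M a) (h34 : H34 M) :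
    ∃ (B : Subgroup G) (MB : Mod B Ω), PKE MB := by
  obtain ⟨B, MB, -, P⟩ := zero_eleven_pke h.comp h.h11 h.caseN h.bal11
    fun hV hV' hd hc => fun11 FT h h34 hV hV' hd hc
  exact ⟨B, MB, P⟩

/-- case N, `|X| = 2, 4` -/
theorem exists_pk_of_two (FT : Functor.OddSol G) (H : Hyp11 G) (M : Mod L Ω) (hΩ : Ω.card = 11)
    (hX : X.card = 2 ∨ X.card = 4) (hN : CaseN M a X) :
    ∃ (B : Subgroup G) (MB : Mod B (Ω ∪ X)), PK MB := by
  obtain ⟨W, h1, h2, h3⟩ := caseN_W11 FT H M hΩ hX hN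
  refine GlueTwo.exists_PK11 hN hΩ hX (W := W) ?_
  exact ⟨h1, h2, fun v K Mv hv hK => (h3 v K Mv hv hK).1, fun v K Mv hv hK => (h3 v K Mv hv hK).2.1,
    fun v K Mv hv hK => (h3 v K Mv hv hK).2.2.1⟩

/-- case N -/
theorem exists_pke_of_caseN (FT : Functor.OddSol G) (H : Hyp11 G)
    (h34 : ∀ (M : Mod L Ω), Iso M a → H34 M) (M : Mod L Ω) (T : IsTriple x a L) (hΩ : Ω.card = 11)
    (hN : CaseN M a X) :
    ∃ (B : Subgroup G) (Γ : Finset α) (MB : Mod B Γ), PKE MB ∧ 11 ≤ Γ.card ∧ Odd Γ.card := by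
  rcases hN.card with h0 | h0
  · rw [Finset.card_eq_zero] at h0
    subst h0
    have hI : Iso M a := ⟨hΩ, T.inva, T.comp, hN⟩
    obtain ⟨B, MB, P⟩ := exists_pke_of_zero FT hI (h34 M hI)
    exact ⟨B, Ω, MB, P, hΩ.ge, by rw [hΩ]; decide⟩
  · obtain ⟨B, MB, P⟩ := exists_pk_of_two FT H M hΩ h0 hN
    exact ⟨B, _, MB, P.toE, by have := P.h13; omega, P.odd⟩

end

/-- a triple of type `A₁₁` gives a package `PKE` -/
theorem exists_pke (FT : Functor.OddSol G) (H : Hyp11 G)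
    (h34 : ∀ (L : Subgroup G) (Ω : Finset (Fin 15)) (M : Mod L Ω) (a : G), Iso M a → H34 M)
    {x a : G} {L : Subgroup G} (T : IsTriple x a L) (hA : AltType L 11) :
    ∃ (B : Subgroup G) (Γ : Finset (Fin 15)) (MB : Mod B Γ), PKE MB ∧ 11 ≤ Γ.card ∧ Odd Γ.card := by
  obtain ⟨Ω, hΩ⟩ : ∃ Ω : Finset (Fin 15), Ω.card = 11 := by
    obtain ⟨Ω, -, h⟩ := Finset.exists_subset_card_eq (s := (Finset.univ : Finset (Fin 15))) (n := 11)
      (by rw [Finset.card_univ, Fintype.card_fin]; omega)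
    exact ⟨Ω, h⟩
  have hα : 4 ≤ Ωᶜ.card := by
    rw [Finset.card_compl, Fintype.card_fin, hΩ]
  obtain ⟨M⟩ := hA.mod_of_card hΩ (by omega)
  rcases caseN_or_caseD11 H T M hΩ hα with ⟨X, hN⟩ | hD
  · exact exists_pke_of_caseN FT H (fun M => h34 _ _ M _) M T hΩ hN
  · obtain ⟨a', L', M', T', hN⟩ := caseN_of_caseD11 H T M hΩ hD
    exact exists_pke_of_caseN FT H (fun M => h34 _ _ M _) M' T' hΩ hN

/-- **the contradiction in the frame**, `n = 11`, from (E3.4) -/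
theorem final_of (FT : Functor.OddSol G) (hG : MinCex G) (H : Hyp11 G)
    (h34 : ∀ (L : Subgroup G) (Ω : Finset (Fin 15)) (M : Mod L Ω) (a : G), Iso M a → H34 M)
    {x a : G} {L : Subgroup G} (T : IsTriple x a L) : ¬ AltType L 11 := by
  intro hA
  obtain ⟨B, Γ, MB, P, h11, hodd⟩ := exists_pke FT H h34 T hA
  exact EndMod.false_of_mod FT hG MB hodd (by omega) (Nine.closing11 H P h11).1
    (Nine.isSubnormal11 H P h11)

end Cfsg.Agent.UAlt.Eleven.Final
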