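import Cfsg.Agent.UAlt.Eleven.Active
import Mathlib.GroupTheory.Perm.ViaEmbedding

/-!
# `n = 11`: existence of the dihedral groups of roots

* `Mod.exists_two_ge`: a 2-group of `L` with labels in the 2-group `Q₀` lies in a 2-group of `L` with label `Q₀`.
* `exists_dduo`: `V`, `V*` disjoint commuting root four-groups, `v ∈ V`, `w ∈ V*`: the two pairs of dihedral groups
  of `P` and of `P^ρ` with the same `z = v w`.
-/

set_option autoImplicit false
set_option linter.unusedSectionVars false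

namespace Cfsg.Agent.UAlt

open Cfsg Equiv Equiv.Perm Subgroup
open Cfsg.Agent.Intrinsic.Basic Cfsg.Agent.Intrinsic Cfsg.Agent.Intrinsic.Cen Cfsg.Agent.Intrinsic.Diag
open Cfsg.Agent.SignalizersComponents Cfsg.Agent.Lib
open Cfsg.Agent.SignalizersComponents.IntrinsicBasic
open Cfsg.Agent.McLLyComp.Act
open Cfsg.Agent.UGT.Triple Cfsg.Agent.UGT.LemG Cfsg.Agent.UGT.PumpGen
open Cfsg.Agent.StdAlt Cfsg.Agent.StdAlt.Roots
open scoped commutatorElement

variable {G : Type*} [Group G] {α : Type*} [Fintype α] [DecidableEq α]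

section lift

variable [Finite G] {L : Subgroup G} {S : Finset α} (M : Mod L S)

/-- a 2-group of `L` with labels in the 2-group `Q₀` lies in a 2-group of `L` with label `Q₀` -/
theorem Mod.exists_two_ge {Q : Subgroup G} (hQ : IsPGroup 2 Q) {Q₀ : Subgroup (Perm α)} (hQ₀ : IsPGroup 2 Q₀)
    (hQS : Q₀ ≤ alt S) (hm : Q ≤ M.above Q₀) :
    ∃ P : Subgroup G, Q ≤ P ∧ P ≤ L ∧ IsPGroup 2 P ∧ (∀ σ ∈ Q₀, ∃ q ∈ P, M.φ q = σ) ∧
      (∀ q ∈ P, M.φ q = 1 → q = 1) := by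
  have hp2 : Fact (Nat.Prime 2) := ⟨Nat.prime_two⟩
  obtain ⟨C, hC⟩ : ∃ C, C = M.above Q₀ := ⟨_, rfl⟩
  rw [← hC] at hm
  have hCL : ∀ k : C, (k : G) ∈ L := fun k => (hC.le k.2).1
  have hCQ : ∀ k : C, M.φ (k : G) ∈ Q₀ := fun k => (hC.le k.2).2
  let f : C →* Q₀ :=
    { toFun := fun k => ⟨M.φ k, hCQ k⟩
      map_one' := Subtype.ext M.one
      map_mul' := fun a b => Subtype.ext (M.mul _ _ (le_normalizer (hCL a)) (le_normalizer (hCL b))) }
  have hf : Function.Surjective f := by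
    rintro ⟨σ, hσ⟩
    obtain ⟨k, hk, hkσ⟩ := M.lift σ (hQS hσ)
    exact ⟨⟨k, by rw [hC]; exact ⟨hk, by rw [hkσ]; exact hσ⟩⟩, Subtype.ext hkσ⟩
  have hQ' : IsPGroup 2 (Q.subgroupOf C) := hQ.of_equiv (subgroupOfEquivOfLe hm).symm
  obtain ⟨Q', hQQ'⟩ := hQ'.exists_le_sylow
  have htop : ((Q'.mapSurjective hf : Sylow 2 Q₀) : Subgroup Q₀) = ⊤ :=
    ((Q'.mapSurjective hf).is_maximal' (hQ₀.to_subgroup ⊤ |>.of_equiv (MulEquiv.refl _)) le_top).symm
  refine ⟨(Q' : Subgroup C).map C.subtype, ?_, ?_, Q'.2.map _, ?_, ?_⟩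
  · intro q hq
    exact ⟨⟨q, hm hq⟩, hQQ' hq, rfl⟩
  · rintro _ ⟨q, -, rfl⟩; exact hCL q
  · intro σ hσ
    have h1 : (⟨σ, hσ⟩ : Q₀) ∈ ((Q'.mapSurjective hf : Sylow 2 Q₀) : Subgroup Q₀) := by
      rw [htop]; trivial
    obtain ⟨q, hq, h2⟩ := h1
    exact ⟨q, ⟨q, hq, rfl⟩, congrArg Subtype.val h2⟩
  · rintro _ ⟨q, hq, rfl⟩ h1
    have h2 : (q : G) ∈ core L := (M.core_iff _ (hCL q)).mp h1
    obtain ⟨n, hn⟩ := Q'.2 ⟨q, hq⟩
    have h3 : (q : G) ^ 2 ^ n = 1 := by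
      have := congrArg (fun z => (((z : (Q' : Subgroup C)) : C) : G)) hn
      simpa using this
    exact eq_one_of_mem_core h2 h3

end lift

section pgroup

/-- extension of a 2-group by involutions -/
theorem isPGroup_union {H : Type*} [Group H] {S T : Set H} (hS : IsPGroup 2 (closure S))
    (hT : IsPGroup 2 (closure T)) (h2 : ∀ x ∈ T, x * x = 1) (h : ∀ x ∈ T, ∀ s ∈ S, x * s * x ∈ closure S) :
    IsPGroup 2 (closure (S ∪ T)) := by
  have hn : closure T ≤ normalizer (closure S : Set H) := by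
    rw [closure_le]
    intro x hx
    have hxi : x⁻¹ = x := inv_eq_of_mul_eq_one_left (h2 x hx)
    have key : ∀ y ∈ closure S, x * y * x⁻¹ ∈ closure S := by
      intro y hy
      have h3 : closure S ≤ (closure S).comap (MulAut.conj x).toMonoidHom := by
        rw [closure_le]
        intro s hs
        have h4 := h x hx s hs
        change x * s * x⁻¹ ∈ closure S
        rwa [hxi]
      exact h3 hy
    show x ∈ normalizer (closure S : Set H)
    rw [mem_normalizer_iff]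
    intro y
    refine ⟨key y, fun h5 => ?_⟩
    have h6 := key _ h5
    rw [hxi] at h6
    have h7 : x * (x * y * x) * x = y := by
      calc x * (x * y * x) * x = (x * x) * y * (x * x) := by group
        _ = y := by rw [h2 x hx, one_mul, mul_one]
    rwa [h7] at h6
  rw [Subgroup.closure_union, sup_comm]
  exact hT.to_sup_of_normal_right' hS hn

end pgroup

/-! ### coordinates -/

section coord

/-- the permutation of `α` induced by a permutation of the eleven labels -/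
noncomputable def Lab (ι : Fin 11 ↪ α) : Perm (Fin 11) →* Perm α := Perm.viaEmbeddingHom ι

variable (ι : Fin 11 ↪ α)

theorem lab_apply (σ : Perm (Fin 11)) (i : Fin 11) : Lab ι σ (ι i) = ι (σ i) :=
  Perm.viaEmbedding_apply σ ι i

theorem lab_of_notMem (σ : Perm (Fin 11)) {x : α} (hx : x ∉ Set.range ι) : Lab ι σ x = x :=
  Perm.viaEmbedding_apply_of_notMem σ ι x hx

theorem lab_fix_iff (σ : Perm (Fin 11)) (i : Fin 11) : Lab ι σ (ι i) = ι i ↔ σ i = i := by
  rw [lab_apply]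
  exact ι.injective.eq_iff

theorem lab_mono {σ τ : Perm (Fin 11)} (h : ∀ i, σ i = i → τ i = i) {x : α} (hx : Lab ι σ x = x) :
    Lab ι τ x = x := by
  by_cases hr : x ∈ Set.range ι
  · obtain ⟨i, rfl⟩ := hr
    rw [lab_fix_iff] at hx ⊢
    exact h i hx
  · exact lab_of_notMem ι τ hr

theorem lab_support (σ : Perm (Fin 11)) : (Lab ι σ).support = σ.support.map ι := by
  ext x
  rw [mem_support, Finset.mem_map]
  constructor
  · intro hx
    by_cases hr : x ∈ Set.range ι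
    · obtain ⟨i, rfl⟩ := hr
      exact ⟨i, mem_support.mpr fun h => hx ((lab_fix_iff ι σ i).mpr h), rfl⟩
    · exact absurd (lab_of_notMem ι σ hr) hx
  · rintro ⟨i, hi, rfl⟩ h
    exact mem_support.mp hi ((lab_fix_iff ι σ i).mp h)

theorem lab_root {σ : Perm (Fin 11)} (h : IsRoot σ) : IsRoot (Lab ι σ) := by
  refine ⟨?_, ?_⟩
  · rw [← map_mul, h.1, map_one]
  · rw [lab_support, Finset.card_map]
    exact h.2

theorem lab_swap (i j : Fin 11) : Lab ι (swap i j) = swap (ι i) (ι j) := by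
  ext x
  by_cases hr : x ∈ Set.range ι
  · obtain ⟨k, rfl⟩ := hr
    rw [lab_apply]
    rcases eq_or_ne k i with rfl | h1
    · rw [swap_apply_left, swap_apply_left]
    rcases eq_or_ne k j with rfl | h2
    · rw [swap_apply_right, swap_apply_right]
    rw [swap_apply_of_ne_of_ne h1 h2, swap_apply_of_ne_of_ne (fun h => h1 (ι.injective h))
      (fun h => h2 (ι.injective h))]
  · rw [lab_of_notMem ι _ hr, swap_apply_of_ne_of_ne]
    · rintro rfl; exact hr ⟨_, rfl⟩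
    · rintro rfl; exact hr ⟨_, rfl⟩

theorem lab_mem_alt {Ω : Finset α} (hΩ : ∀ i, ι i ∈ Ω) {σ : Perm (Fin 11)} (h : IsRoot σ) :
    Lab ι σ ∈ alt Ω := by
  refine ⟨even_of_isRoot (lab_root ι h), fun x hx => lab_of_notMem ι σ ?_⟩
  rintro ⟨i, rfl⟩
  exact hx (hΩ i)

variable {L : Subgroup G} {Ω : Finset α} {M : Mod L Ω}

/-- coordinates for two disjoint roots -/
theorem exists_coord (h11 : Ω.card = 11) {v w : G} (hv : M.Rt v) (hw : M.Rt w)
    (hd : Disjoint (M.φ v).support (M.φ w).support) : ∃ ι : Fin 11 ↪ α, (∀ i, ι i ∈ Ω) ∧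
      M.φ v = Lab ι (swap 0 1 * swap 2 3) ∧ M.φ w = Lab ι (swap 4 5 * swap 6 7) := by
  obtain ⟨a, b, c, d, hnd, hT, hφ⟩ := hv.root.exists_swap
  obtain ⟨a', b', c', d', hnd', hT', hφ'⟩ := hw.root.exists_swap
  obtain ⟨T, hTd⟩ : ∃ T, T = (M.φ v).support := ⟨_, rfl⟩
  obtain ⟨T', hTd'⟩ : ∃ T', T' = (M.φ w).support := ⟨_, rfl⟩
  have hTs : T ⊆ Ω := hTd ▸ hv.root.sub
  have hTs' : T' ⊆ Ω := hTd' ▸ hw.root.sub
  have hTc : T.card = 4 := hTd ▸ hv.root.card
  have hTc' : T'.card = 4 := hTd' ▸ hw.root.card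
  rw [← hTd] at hT hd
  rw [← hTd'] at hT' hd
  have h3 : (Ω \ (T ∪ T')).card = 3 := by
    rw [Finset.card_sdiff_of_subset (Finset.union_subset hTs hTs'), Finset.card_union_of_disjoint hd, h11,
      hTc, hTc']
  obtain ⟨e₁, e₂, e₃, h12, h13, h23, hF⟩ := Finset.card_eq_three.mp h3
  have hmem : ∀ x, x ∈ [a, b, c, d] → x ∈ T := by
    intro x hx
    rw [hT]
    simpa [four4] using hx
  have hmem' : ∀ x, x ∈ [a', b', c', d'] → x ∈ T' := by
    intro x hx
    rw [hT']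
    simpa [four4] using hx
  have hmem3 : ∀ x, x ∈ [e₁, e₂, e₃] → x ∈ Ω \ (T ∪ T') := by
    intro x hx
    rw [hF]
    simpa using hx
  have hl : ([a, b, c, d] ++ ([a', b', c', d'] ++ [e₁, e₂, e₃])).Nodup := by
    rw [List.nodup_append]
    refine ⟨hnd, ?_, ?_⟩
    · rw [List.nodup_append]
      refine ⟨hnd', by simp [h12, h13, h23], ?_⟩
      rintro x hx y hy rfl
      have h4 := (Finset.mem_sdiff.mp (hmem3 x hy)).2
      exact h4 (Finset.mem_union_right _ (hmem' x hx))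
    · rintro x hx y hy rfl
      rw [List.mem_append] at hy
      rcases hy with hy | hy
      · exact Finset.disjoint_left.mp hd (hmem x hx) (hmem' x hy)
      · have h4 := (Finset.mem_sdiff.mp (hmem3 x hy)).2
        exact h4 (Finset.mem_union_left _ (hmem x hx))
  have hinj := List.nodup_iff_injective_get.mp hl
  let ι : Fin 11 ↪ α := ⟨fun i => ([a, b, c, d] ++ ([a', b', c', d'] ++ [e₁, e₂, e₃])).get i, hinj⟩
  refine ⟨ι, fun i => ?_, ?_, ?_⟩
  · have h5 : ι i ∈ [a, b, c, d] ++ ([a', b', c', d'] ++ [e₁, e₂, e₃]) := List.get_mem _ _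
    rw [List.mem_append, List.mem_append] at h5
    rcases h5 with h | h | h
    · exact hTs (hmem _ h)
    · exact hTs' (hmem' _ h)
    · exact (Finset.mem_sdiff.mp (hmem3 _ h)).1
  · rw [map_mul, lab_swap, lab_swap, hφ]; rfl
  · rw [map_mul, lab_swap, lab_swap, hφ']; rfl

end coord

/-! ### the label groups -/

section label

/-- `⟨v, u⟩ × ⟨w, t⟩` and `⟨h, k⟩` -/
def PS : Set (Perm (Fin 11)) :=
  ({swap 0 1 * swap 2 3, swap 0 2 * swap 1 3} ∪ {swap 4 5 * swap 6 7, swap 4 6 * swap 5 7}) ∪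
    {swap 0 1 * swap 8 9, swap 4 5 * swap 8 9}

/-- `⟨v, w⟩ × ⟨h, k⟩` and `⟨u₁, t₁⟩` -/
def PS' : Set (Perm (Fin 11)) :=
  ({swap 0 1 * swap 2 3, swap 4 5 * swap 6 7} ∪ {swap 0 1 * swap 8 9, swap 4 5 * swap 8 9}) ∪
    {swap 2 4 * swap 3 5, swap 0 6 * swap 1 7}

theorem root_PS : ∀ σ ∈ PS, IsRoot σ := by
  rintro σ (((rfl | rfl) | (rfl | rfl)) | (rfl | rfl)) <;> exact ⟨by decide, by decide⟩

theorem root_PS' : ∀ σ ∈ PS', IsRoot σ := by
  rintro σ (((rfl | rfl) | (rfl | rfl)) | (rfl | rfl)) <;> exact ⟨by decide, by decide⟩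

theorem isPGroup_PS : IsPGroup 2 (closure PS) := by
  refine isPGroup_union (isPGroup_union (ClSys.isPGroup_pair (by decide) (by decide) (by decide))
    (ClSys.isPGroup_pair (by decide) (by decide) (by decide)) ?_ ?_)
    (ClSys.isPGroup_pair (by decide) (by decide) (by decide)) ?_ ?_
  · rintro x (rfl | rfl) <;> decide
  · rintro x (rfl | rfl) s (rfl | rfl)
    · exact subset_closure (Or.inl (by decide))
    · exact subset_closure (Or.inr (by decide))
    · exact subset_closure (Or.inl (by decide))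
    · exact subset_closure (Or.inr (by decide))
  · rintro x (rfl | rfl) <;> decide
  · have e1 : (swap 0 1 * swap 8 9 * (swap 0 2 * swap 1 3) * (swap 0 1 * swap 8 9) : Perm (Fin 11)) =
        (swap 0 1 * swap 2 3) * (swap 0 2 * swap 1 3) := by decide
    have e2 : (swap 4 5 * swap 8 9 * (swap 4 6 * swap 5 7) * (swap 4 5 * swap 8 9) : Perm (Fin 11)) =
        (swap 4 5 * swap 6 7) * (swap 4 6 * swap 5 7) := by decide
    rintro x (rfl | rfl) s ((rfl | rfl) | (rfl | rfl))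
    · exact subset_closure (Or.inl (Or.inl (by decide)))
    · rw [e1]
      exact mul_mem (subset_closure (Or.inl (Or.inl rfl))) (subset_closure (Or.inl (Or.inr rfl)))
    · exact subset_closure (Or.inr (Or.inl (by decide)))
    · exact subset_closure (Or.inr (Or.inr (by decide)))
    · exact subset_closure (Or.inl (Or.inl (by decide)))
    · exact subset_closure (Or.inl (Or.inr (by decide)))
    · exact subset_closure (Or.inr (Or.inl (by decide)))
    · rw [e2]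
      exact mul_mem (subset_closure (Or.inr (Or.inl rfl))) (subset_closure (Or.inr (Or.inr rfl)))

theorem isPGroup_PS' : IsPGroup 2 (closure PS') := by
  refine isPGroup_union (isPGroup_union (ClSys.isPGroup_pair (by decide) (by decide) (by decide))
    (ClSys.isPGroup_pair (by decide) (by decide) (by decide)) ?_ ?_)
    (ClSys.isPGroup_pair (by decide) (by decide) (by decide)) ?_ ?_
  · rintro x (rfl | rfl) <;> decide
  · rintro x (rfl | rfl) s (rfl | rfl)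
    · exact subset_closure (Or.inl (by decide))
    · exact subset_closure (Or.inr (by decide))
    · exact subset_closure (Or.inl (by decide))
    · exact subset_closure (Or.inr (by decide))
  · rintro x (rfl | rfl) <;> decide
  · obtain ⟨v, hv⟩ : ∃ v : Perm (Fin 11), v = swap 0 1 * swap 2 3 := ⟨_, rfl⟩
    obtain ⟨w, hw⟩ : ∃ v : Perm (Fin 11), v = swap 4 5 * swap 6 7 := ⟨_, rfl⟩
    obtain ⟨h, hh⟩ : ∃ v : Perm (Fin 11), v = swap 0 1 * swap 8 9 := ⟨_, rfl⟩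
    obtain ⟨k, hk⟩ : ∃ v : Perm (Fin 11), v = swap 4 5 * swap 8 9 := ⟨_, rfl⟩
    have mv : v ∈ closure (({swap 0 1 * swap 2 3, swap 4 5 * swap 6 7} ∪
      {swap 0 1 * swap 8 9, swap 4 5 * swap 8 9} : Set (Perm (Fin 11)))) :=
      subset_closure (Or.inl (Or.inl hv))
    have mw : w ∈ closure (({swap 0 1 * swap 2 3, swap 4 5 * swap 6 7} ∪
      {swap 0 1 * swap 8 9, swap 4 5 * swap 8 9} : Set (Perm (Fin 11)))) :=
      subset_closure (Or.inl (Or.inr hw))
    have mh : h ∈ closure (({swap 0 1 * swap 2 3, swap 4 5 * swap 6 7} ∪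
      {swap 0 1 * swap 8 9, swap 4 5 * swap 8 9} : Set (Perm (Fin 11)))) :=
      subset_closure (Or.inr (Or.inl hh))
    have mk : k ∈ closure (({swap 0 1 * swap 2 3, swap 4 5 * swap 6 7} ∪
      {swap 0 1 * swap 8 9, swap 4 5 * swap 8 9} : Set (Perm (Fin 11)))) :=
      subset_closure (Or.inr (Or.inr hk))
    -- `u₁ = (2 4)(3 5)`, `t₁ = (0 6)(1 7)`
    have e1 : (swap 2 4 * swap 3 5 * (swap 0 1 * swap 2 3) * (swap 2 4 * swap 3 5) : Perm (Fin 11)) =
        h * k := by subst hh hk; decide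
    have e2 : (swap 2 4 * swap 3 5 * (swap 4 5 * swap 6 7) * (swap 2 4 * swap 3 5) : Perm (Fin 11)) =
        v * w * h * k := by subst hh hk hv hw; decide
    have e3 : (swap 2 4 * swap 3 5 * (swap 0 1 * swap 8 9) * (swap 2 4 * swap 3 5) : Perm (Fin 11)) =
        h := by subst hh; decide
    have e4 : (swap 2 4 * swap 3 5 * (swap 4 5 * swap 8 9) * (swap 2 4 * swap 3 5) : Perm (Fin 11)) =
        v * h := by subst hh hv; decide
    have e5 : (swap 0 6 * swap 1 7 * (swap 0 1 * swap 2 3) * (swap 0 6 * swap 1 7) : Perm (Fin 11)) =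
        v * w * h * k := by subst hh hk hv hw; decide
    have e6 : (swap 0 6 * swap 1 7 * (swap 4 5 * swap 6 7) * (swap 0 6 * swap 1 7) : Perm (Fin 11)) =
        h * k := by subst hh hk; decide
    have e7 : (swap 0 6 * swap 1 7 * (swap 0 1 * swap 8 9) * (swap 0 6 * swap 1 7) : Perm (Fin 11)) =
        w * k := by subst hw hk; decide
    have e8 : (swap 0 6 * swap 1 7 * (swap 4 5 * swap 8 9) * (swap 0 6 * swap 1 7) : Perm (Fin 11)) =
        k := by subst hk; decide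
    rintro x (rfl | rfl) s ((rfl | rfl) | (rfl | rfl))
    · rw [e1]; exact mul_mem mh mk
    · rw [e2]; exact mul_mem (mul_mem (mul_mem mv mw) mh) mk
    · rw [e3]; exact mh
    · rw [e4]; exact mul_mem mv mh
    · rw [e5]; exact mul_mem (mul_mem (mul_mem mv mw) mh) mk
    · rw [e6]; exact mul_mem mh mk
    · rw [e7]; exact mul_mem mw mk
    · rw [e8]; exact mk

end label

/-! ### existence -/

section exist

variable [Finite G] {L : Subgroup G} {Ω : Finset α} {M : Mod L Ω} (ι : Fin 11 ↪ α)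

theorem labS_le (hΩ : ∀ i, ι i ∈ Ω) {S : Set (Perm (Fin 11))} (hS : ∀ σ ∈ S, IsRoot σ) :
    (closure S).map (Lab ι) ≤ alt Ω := by
  rw [Subgroup.map_le_iff_le_comap, closure_le]
  exact fun σ hσ => lab_mem_alt ι hΩ (hS σ hσ)

/-- the labels on the 2-group `P ≤ L`, as an injective homomorphism -/
theorem exists_hom {P : Subgroup G} (hPL : P ≤ L) (hP : ∀ q ∈ P, M.φ q = 1 → q = 1) :
    ∃ ψ : ↥P →* Perm α, Function.Injective ψ ∧ ∀ p : ↥P, ψ p = M.φ p := by
  let ψ : ↥P →* Perm α := M.hom.comp (Subgroup.inclusion (hPL.trans le_normalizer))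
  have h1 : ∀ p : ↥P, ψ p = M.φ p := fun p => rfl
  refine ⟨ψ, ?_, h1⟩
  rw [injective_iff_map_eq_one]
  intro p hp
  rw [h1] at hp
  exact Subtype.ext (hP p p.2 hp)

theorem rt_of_lab {P : Subgroup G} (hPL : P ≤ L) {ψ : ↥P →* Perm α} (hψ : Function.Injective ψ)
    (hφ : ∀ p : ↥P, ψ p = M.φ p) {p : ↥P} {σ : Perm (Fin 11)} (hp : ψ p = Lab ι σ) (hσ : IsRoot σ) :
    M.Rt (p : G) := by
  refine ⟨hPL p.2, ?_, ?_⟩
  · have h1 : p * p = 1 := hψ (by rw [map_mul, map_one, hp, ← map_mul, hσ.1, map_one])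
    exact congrArg Subtype.val h1
  · rw [← hφ, hp]
    exact lab_root ι hσ

/-- **existence of the two pairs of dihedral groups of roots** -/
theorem exists_dduo (h11 : Ω.card = 11) {V V' : Subgroup G} {T T' : Finset α} (hV : RF M V T)
    (hV' : RF M V' T') (hd : Disjoint T T') (hc : Cm V V') {v w : G} (hv : v ∈ V) (hv1 : v ≠ 1)
    (hw : w ∈ V') (hw1 : w ≠ 1) :
    ∃ u ∈ V, ∃ t ∈ V', ∃ h k u₁ t₁ : G, u ≠ 1 ∧ u ≠ v ∧ t ≠ 1 ∧ t ≠ w ∧
      DDuo M (v * w) v u h w t k ∧ DDuo M (v * w) (v * h * k) u₁ (h * v) (w * h * k) t₁ h := by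
  have rv := hV.rt hv hv1
  have rw' := hV'.rt hw hw1
  have hTv : (M.φ v).support = T := (hV.root hv hv1).supp_eq
  have hTw : (M.φ w).support = T' := (hV'.root hw hw1).supp_eq
  obtain ⟨ι, hΩ, lv, lw⟩ := exists_coord h11 rv rw' (by rw [hTv, hTw]; exact hd)
  -- `u`, `t`
  have hu0 : IsRoot (swap 0 2 * swap 1 3 : Perm (Fin 11)) := ⟨by decide, by decide⟩
  have ht0 : IsRoot (swap 4 6 * swap 5 7 : Perm (Fin 11)) := ⟨by decide, by decide⟩
  obtain ⟨u, hu, lu⟩ := hV.lift (Lab ι (swap 0 2 * swap 1 3))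
    ⟨even_of_isRoot (lab_root ι hu0), fun x hx => by
      rw [← hTv, notMem_support, lv] at hx
      exact lab_mono ι (by decide) hx⟩ (lab_root ι hu0).1
  obtain ⟨t, ht, lt⟩ := hV'.lift (Lab ι (swap 4 6 * swap 5 7))
    ⟨even_of_isRoot (lab_root ι ht0), fun x hx => by
      rw [← hTw, notMem_support, lw] at hx
      exact lab_mono ι (by decide) hx⟩ (lab_root ι ht0).1
  have hvu : v * u = u * v := hV.comm hv hu
  have hwt : w * t = t * w := hV'.comm hw ht
  have hvv := hV.sq v hv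
  have huu := hV.sq u hu
  have hww := hV'.sq w hw
  have htt := hV'.sq t ht
  have hinv : ∀ {x : G}, x * x = 1 → x⁻¹ = x := fun h => inv_eq_of_mul_eq_one_left h
  -- `P`
  have hQ : IsPGroup 2 (closure ({v, u} ∪ {w, t} : Set G)) := by
    refine isPGroup_union (ClSys.isPGroup_pair hvv huu hvu) (ClSys.isPGroup_pair hww htt hwt) ?_ ?_
    · rintro x (rfl | rfl)
      exacts [hww, htt]
    · have key : ∀ x s : G, x * x = 1 → s * x = x * s → x * s * x = s := by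
        intro x s h1 h2
        rw [mul_assoc, h2, ← mul_assoc, h1, one_mul]
      rintro x (rfl | rfl) s (rfl | rfl)
      · rw [key _ _ hww (hc _ hv _ hw)]; exact subset_closure (Or.inl rfl)
      · rw [key _ _ hww (hc _ hu _ hw)]; exact subset_closure (Or.inr rfl)
      · rw [key _ _ htt (hc _ hv _ ht)]; exact subset_closure (Or.inl rfl)
      · rw [key _ _ htt (hc _ hu _ ht)]; exact subset_closure (Or.inr rfl)
  have hm : closure ({v, u} ∪ {w, t} : Set G) ≤ M.above ((closure PS).map (Lab ι)) := by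
    rw [closure_le]
    rintro x ((rfl | rfl) | (rfl | rfl))
    · exact ⟨hV.le hv, _, subset_closure (Or.inl (Or.inl (Or.inl rfl))), lv.symm⟩
    · exact ⟨hV.le hu, _, subset_closure (Or.inl (Or.inl (Or.inr rfl))), lu.symm⟩
    · exact ⟨hV'.le hw, _, subset_closure (Or.inl (Or.inr (Or.inl rfl))), lw.symm⟩
    · exact ⟨hV'.le ht, _, subset_closure (Or.inl (Or.inr (Or.inr rfl))), lt.symm⟩
  obtain ⟨P, hQP, hPL, hP2, hPl, hP1⟩ := M.exists_two_ge hQ (isPGroup_PS.map (Lab ι))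
    (labS_le ι hΩ root_PS) hm
  obtain ⟨ψ, hψ, hφ⟩ := exists_hom (M := M) hPL hP1
  obtain ⟨h, hhP, lh⟩ := hPl _ ⟨_, subset_closure (Or.inr (Or.inl rfl)), rfl⟩
  obtain ⟨k, hkP, lk⟩ := hPl _ ⟨_, subset_closure (Or.inr (Or.inr rfl)), rfl⟩
  have hvP : v ∈ P := hQP (subset_closure (Or.inl (Or.inl rfl)))
  have huP : u ∈ P := hQP (subset_closure (Or.inl (Or.inr rfl)))
  have hwP : w ∈ P := hQP (subset_closure (Or.inr (Or.inl rfl)))
  have htP : t ∈ P := hQP (subset_closure (Or.inr (Or.inr rfl)))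
  obtain ⟨v', hv'⟩ : ∃ v' : ↥P, v' = ⟨v, hvP⟩ := ⟨_, rfl⟩
  obtain ⟨u', hu'⟩ : ∃ u' : ↥P, u' = ⟨u, huP⟩ := ⟨_, rfl⟩
  obtain ⟨w', hw'⟩ : ∃ w' : ↥P, w' = ⟨w, hwP⟩ := ⟨_, rfl⟩
  obtain ⟨t', ht'⟩ : ∃ t' : ↥P, t' = ⟨t, htP⟩ := ⟨_, rfl⟩
  obtain ⟨h', hh'⟩ : ∃ h' : ↥P, h' = ⟨h, hhP⟩ := ⟨_, rfl⟩
  obtain ⟨k', hk'⟩ : ∃ k' : ↥P, k' = ⟨k, hkP⟩ := ⟨_, rfl⟩
  have pv : ψ v' = Lab ι (swap 0 1 * swap 2 3) := by rw [hφ, hv']; exact lv
  have pu : ψ u' = Lab ι (swap 0 2 * swap 1 3) := by rw [hφ, hu']; exact lu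
  have pw : ψ w' = Lab ι (swap 4 5 * swap 6 7) := by rw [hφ, hw']; exact lw
  have pt : ψ t' = Lab ι (swap 4 6 * swap 5 7) := by rw [hφ, ht']; exact lt
  have ph : ψ h' = Lab ι (swap 0 1 * swap 8 9) := by rw [hφ, hh']; exact lh
  have pk : ψ k' = Lab ι (swap 4 5 * swap 8 9) := by rw [hφ, hk']; exact lk
  have ev : (v' : G) = v := by rw [hv']
  have eu : (u' : G) = u := by rw [hu']
  have ew : (w' : G) = w := by rw [hw']
  have et : (t' : G) = t := by rw [ht']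
  have eh : (h' : G) = h := by rw [hh']
  have ek : (k' : G) = k := by rw [hk']
  have rt : ∀ (p : ↥P) (σ : Perm (Fin 11)), ψ p = Lab ι σ → IsRoot σ → M.Rt (p : G) :=
    fun p σ h1 h2 => rt_of_lab ι hPL hψ hφ h1 h2
  have rel : ∀ (p q : ↥P) (σ τ : Perm (Fin 11)), ψ p = Lab ι σ → ψ q = Lab ι τ → σ = τ →
      (p : G) = q := by
    rintro p q σ _ h1 h2 rfl
    exact congrArg Subtype.val (hψ (h1.trans h2.symm))
  have D : DDuo M (v * w) v u h w t k := by
    refine ⟨⟨rv, ?_, ?_, ?_, ?_, ?_⟩, ⟨rw', ?_, ?_, ?_, ?_, ?_⟩, ?_, ?_, ?_, ?_, rfl⟩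
    · exact eu ▸ rt u' _ pu hu0
    · exact eh ▸ rt h' _ ph ⟨by decide, by decide⟩
    · have := rt (u' * v') (swap 0 2 * swap 1 3 * (swap 0 1 * swap 2 3)) (by rw [map_mul, pu, pv, ← map_mul])
        ⟨by decide, by decide⟩
      rwa [Subgroup.coe_mul, eu, ev] at this
    · have := rt (h' * v') (swap 0 1 * swap 8 9 * (swap 0 1 * swap 2 3)) (by rw [map_mul, ph, pv, ← map_mul])
        ⟨by decide, by decide⟩
      rwa [Subgroup.coe_mul, eh, ev] at this
    · have := rel (u' * h' * (u' * h')) v' _ _ (by rw [map_mul, map_mul, pu, ph, ← map_mul, ← map_mul]) pv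
        (by decide)
      rwa [Subgroup.coe_mul, Subgroup.coe_mul, eu, eh, ev] at this
    · exact et ▸ rt t' _ pt ht0
    · exact ek ▸ rt k' _ pk ⟨by decide, by decide⟩
    · have := rt (t' * w') (swap 4 6 * swap 5 7 * (swap 4 5 * swap 6 7)) (by rw [map_mul, pt, pw, ← map_mul])
        ⟨by decide, by decide⟩
      rwa [Subgroup.coe_mul, et, ew] at this
    · have := rt (k' * w') (swap 4 5 * swap 8 9 * (swap 4 5 * swap 6 7)) (by rw [map_mul, pk, pw, ← map_mul])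
        ⟨by decide, by decide⟩
      rwa [Subgroup.coe_mul, ek, ew] at this
    · have := rel (t' * k' * (t' * k')) w' _ _ (by rw [map_mul, map_mul, pt, pk, ← map_mul, ← map_mul]) pw
        (by decide)
      rwa [Subgroup.coe_mul, Subgroup.coe_mul, et, ek, ew] at this
    · exact hc u hu t ht
    · have := rel (u' * k') (k' * u') _ _ (by rw [map_mul, pu, pk, ← map_mul])
        (by rw [map_mul, pu, pk, ← map_mul]) (by decide)
      rwa [Subgroup.coe_mul, Subgroup.coe_mul, eu, ek] at this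
    · have := rel (h' * t') (t' * h') _ _ (by rw [map_mul, ph, pt, ← map_mul])
        (by rw [map_mul, ph, pt, ← map_mul]) (by decide)
      rwa [Subgroup.coe_mul, Subgroup.coe_mul, eh, et] at this
    · have := rel (h' * k') (k' * h') _ _ (by rw [map_mul, ph, pk, ← map_mul])
        (by rw [map_mul, ph, pk, ← map_mul]) (by decide)
      rwa [Subgroup.coe_mul, Subgroup.coe_mul, eh, ek] at this
  -- `P'`
  have hQ' : IsPGroup 2 (closure ({v, w} ∪ {h, k} : Set G)) := by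
    refine hP2.to_le ?_
    rw [closure_le]
    rintro x ((rfl | rfl) | (rfl | rfl)) <;> assumption
  have hm' : closure ({v, w} ∪ {h, k} : Set G) ≤ M.above ((closure PS').map (Lab ι)) := by
    rw [closure_le]
    rintro x ((rfl | rfl) | (rfl | rfl))
    · exact ⟨hV.le hv, _, subset_closure (Or.inl (Or.inl (Or.inl rfl))), lv.symm⟩
    · exact ⟨hV'.le hw, _, subset_closure (Or.inl (Or.inl (Or.inr rfl))), lw.symm⟩
    · exact ⟨hPL hhP, _, subset_closure (Or.inl (Or.inr (Or.inl rfl))), lh.symm⟩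
    · exact ⟨hPL hkP, _, subset_closure (Or.inl (Or.inr (Or.inr rfl))), lk.symm⟩
  obtain ⟨R, hQR, hRL, hR2, hRl, hR1⟩ := M.exists_two_ge hQ' (isPGroup_PS'.map (Lab ι))
    (labS_le ι hΩ root_PS') hm'
  obtain ⟨χ, hχ, hχφ⟩ := exists_hom (M := M) hRL hR1
  obtain ⟨u₁, hu₁R, lu₁⟩ := hRl _ ⟨_, subset_closure (Or.inr (Or.inl rfl)), rfl⟩
  obtain ⟨t₁, ht₁R, lt₁⟩ := hRl _ ⟨_, subset_closure (Or.inr (Or.inr rfl)), rfl⟩
  have hvR : v ∈ R := hQR (subset_closure (Or.inl (Or.inl rfl)))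
  have hwR : w ∈ R := hQR (subset_closure (Or.inl (Or.inr rfl)))
  have hhR : h ∈ R := hQR (subset_closure (Or.inr (Or.inl rfl)))
  have hkR : k ∈ R := hQR (subset_closure (Or.inr (Or.inr rfl)))
  obtain ⟨V₀, hV₀⟩ : ∃ x : ↥R, x = ⟨v, hvR⟩ := ⟨_, rfl⟩
  obtain ⟨W₀, hW₀⟩ : ∃ x : ↥R, x = ⟨w, hwR⟩ := ⟨_, rfl⟩
  obtain ⟨H₀, hH₀⟩ : ∃ x : ↥R, x = ⟨h, hhR⟩ := ⟨_, rfl⟩
  obtain ⟨K₀, hK₀⟩ : ∃ x : ↥R, x = ⟨k, hkR⟩ := ⟨_, rfl⟩
  obtain ⟨U₀, hU₀⟩ : ∃ x : ↥R, x = ⟨u₁, hu₁R⟩ := ⟨_, rfl⟩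
  obtain ⟨T₀, hT₀⟩ : ∃ x : ↥R, x = ⟨t₁, ht₁R⟩ := ⟨_, rfl⟩
  have qv : χ V₀ = Lab ι (swap 0 1 * swap 2 3) := by rw [hχφ, hV₀]; exact lv
  have qw : χ W₀ = Lab ι (swap 4 5 * swap 6 7) := by rw [hχφ, hW₀]; exact lw
  have qh : χ H₀ = Lab ι (swap 0 1 * swap 8 9) := by rw [hχφ, hH₀]; exact lh
  have qk : χ K₀ = Lab ι (swap 4 5 * swap 8 9) := by rw [hχφ, hK₀]; exact lk
  have qu : χ U₀ = Lab ι (swap 2 4 * swap 3 5) := by rw [hχφ, hU₀]; exact lu₁
  have qt : χ T₀ = Lab ι (swap 0 6 * swap 1 7) := by rw [hχφ, hT₀]; exact lt₁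
  have fv : (V₀ : G) = v := by rw [hV₀]
  have fw : (W₀ : G) = w := by rw [hW₀]
  have fh : (H₀ : G) = h := by rw [hH₀]
  have fk : (K₀ : G) = k := by rw [hK₀]
  have fu : (U₀ : G) = u₁ := by rw [hU₀]
  have ft : (T₀ : G) = t₁ := by rw [hT₀]
  have rt' : ∀ (p : ↥R) (σ : Perm (Fin 11)), χ p = Lab ι σ → IsRoot σ → M.Rt (p : G) :=
    fun p σ h1 h2 => rt_of_lab ι hRL hχ hχφ h1 h2
  have rel' : ∀ (p q : ↥R) (σ τ : Perm (Fin 11)), χ p = Lab ι σ → χ q = Lab ι τ → σ = τ →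
      (p : G) = q := by
    rintro p q σ _ h1 h2 rfl
    exact congrArg Subtype.val (hχ (h1.trans h2.symm))
  have D' : DDuo M (v * w) (v * h * k) u₁ (h * v) (w * h * k) t₁ h := by
    have qvhk : χ (V₀ * H₀ * K₀) = Lab ι (swap 2 3 * swap 4 5) := by
      rw [map_mul, map_mul, qv, qh, qk, ← map_mul, ← map_mul]
      exact congrArg _ (by decide)
    have qwhk : χ (W₀ * H₀ * K₀) = Lab ι (swap 6 7 * swap 0 1) := by
      rw [map_mul, map_mul, qw, qh, qk, ← map_mul, ← map_mul]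
      exact congrArg _ (by decide)
    have qhv : χ (H₀ * V₀) = Lab ι (swap 2 3 * swap 8 9) := by
      rw [map_mul, qh, qv, ← map_mul]
      exact congrArg _ (by decide)
    have fvhk : ((V₀ * H₀ * K₀ : ↥R) : G) = v * h * k := by rw [Subgroup.coe_mul, Subgroup.coe_mul, fv, fh, fk]
    have fwhk : ((W₀ * H₀ * K₀ : ↥R) : G) = w * h * k := by rw [Subgroup.coe_mul, Subgroup.coe_mul, fw, fh, fk]
    have fhv : ((H₀ * V₀ : ↥R) : G) = h * v := by rw [Subgroup.coe_mul, fh, fv]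
    refine ⟨⟨?_, ?_, ?_, ?_, ?_, ?_⟩, ⟨?_, ?_, ?_, ?_, ?_, ?_⟩, ?_, ?_, ?_, ?_, ?_⟩
    · exact fvhk ▸ rt' _ _ qvhk ⟨by decide, by decide⟩
    · exact fu ▸ rt' _ _ qu ⟨by decide, by decide⟩
    · exact fhv ▸ rt' _ _ qhv ⟨by decide, by decide⟩
    · have := rt' (U₀ * (V₀ * H₀ * K₀)) _ (by rw [map_mul, qu, qvhk, ← map_mul]) ⟨by decide, by decide⟩
      rwa [Subgroup.coe_mul, fvhk, fu] at this
    · have := rt' (H₀ * V₀ * (V₀ * H₀ * K₀)) _ (by rw [map_mul, qhv, qvhk, ← map_mul])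
        ⟨by decide, by decide⟩
      rwa [Subgroup.coe_mul, fvhk, fhv] at this
    · have := rel' (U₀ * (H₀ * V₀) * (U₀ * (H₀ * V₀))) (V₀ * H₀ * K₀) _ _
        (by rw [map_mul, map_mul, qu, qhv, ← map_mul, ← map_mul]) qvhk (by decide)
      rwa [Subgroup.coe_mul, Subgroup.coe_mul, fvhk, fhv, fu] at this
    · exact fwhk ▸ rt' _ _ qwhk ⟨by decide, by decide⟩
    · exact ft ▸ rt' _ _ qt ⟨by decide, by decide⟩
    · exact D.d1.rh
    · have := rt' (T₀ * (W₀ * H₀ * K₀)) _ (by rw [map_mul, qt, qwhk, ← map_mul]) ⟨by decide, by decide⟩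
      rwa [Subgroup.coe_mul, fwhk, ft] at this
    · have := rt' (H₀ * (W₀ * H₀ * K₀)) _ (by rw [map_mul, qh, qwhk, ← map_mul]) ⟨by decide, by decide⟩
      rwa [Subgroup.coe_mul, fwhk, fh] at this
    · have := rel' (T₀ * H₀ * (T₀ * H₀)) (W₀ * H₀ * K₀) _ _
        (by rw [map_mul, map_mul, qt, qh, ← map_mul, ← map_mul]) qwhk (by decide)
      rwa [Subgroup.coe_mul, Subgroup.coe_mul, fwhk, fh, ft] at this
    · have := rel' (U₀ * T₀) (T₀ * U₀) _ _ (by rw [map_mul, qu, qt, ← map_mul])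
        (by rw [map_mul, qu, qt, ← map_mul]) (by decide)
      rwa [Subgroup.coe_mul, Subgroup.coe_mul, fu, ft] at this
    · have := rel' (U₀ * H₀) (H₀ * U₀) _ _ (by rw [map_mul, qu, qh, ← map_mul])
        (by rw [map_mul, qu, qh, ← map_mul]) (by decide)
      rwa [Subgroup.coe_mul, Subgroup.coe_mul, fu, fh] at this
    · have := rel' (H₀ * V₀ * T₀) (T₀ * (H₀ * V₀)) _ _ (by rw [map_mul, qhv, qt, ← map_mul])
        (by rw [map_mul, qhv, qt, ← map_mul]) (by decide)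
      simp only [Subgroup.coe_mul, fh, fv, ft] at this
      exact this
    · have := rel' (H₀ * V₀ * H₀) (H₀ * (H₀ * V₀)) _ _ (by rw [map_mul, qhv, qh, ← map_mul])
        (by rw [map_mul, qhv, qh, ← map_mul]) (by decide)
      simp only [Subgroup.coe_mul, fh, fv] at this
      exact this
    · have := rel' (V₀ * W₀) (V₀ * H₀ * K₀ * (W₀ * H₀ * K₀)) _ _ (by rw [map_mul, qv, qw, ← map_mul])
        (by rw [map_mul, qvhk, qwhk, ← map_mul]) (by decide)
      rwa [Subgroup.coe_mul, Subgroup.coe_mul, fvhk, fwhk, fv, fw] at this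
  refine ⟨u, hu, t, ht, h, k, u₁, t₁, ?_, ?_, ?_, ?_, D, D'⟩
  · exact D.d1.ru.ne_one
  · rintro rfl
    exact D.d1.ruv.ne_one (hV.sq _ hu)
  · exact D.d2.ru.ne_one
  · rintro rfl
    exact D.d2.ruv.ne_one (hV'.sq _ ht)

end exist

end Cfsg.Agent.UAlt
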