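import Cfsg.Agent.UAlt.Eleven.DuoSwap
import Cfsg.Agent.UAlt.Eleven.Func
import Cfsg.Agent.UGT.N2S.Base
import Cfsg.Agent.UGT.N2S.KF34

/-!
# `n = 11`, `xi = 0`: (3.4), type `L₃(4)`

`Iso.not_l34`: an active 2-component `J` of `C(z)`, `z = v w`, is not the 2-component of a triple `(e, z, J)` of
type `L₃(4)`, `e ∈ V × V*`.

`e` acts on `J / O(J) = L₃(4)` as a unitary polarity, `C(e) = 3² : Q₈`. `v = (u h)²` and `u t = (u r)²` act as inner
automorphisms, because the Sylow 2-subgroups of `Out L₃(4)` are elementary abelian, and commute with `e`.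
-/

set_option autoImplicit false
set_option linter.unusedSectionVars false

open Cfsg Equiv Equiv.Perm Subgroup
open Cfsg.Agent.Intrinsic.Basic
open Cfsg.Agent.SignalizersComponents Cfsg.Agent.Lib
open Cfsg.Agent.SignalizersComponents.IntrinsicBasic
open Cfsg.Agent.McLLyComp.Act
open Cfsg.Agent.UGT.Triple
open Cfsg.Agent.UGT.LTF.Basics (img_ne)
open scoped commutatorElement

namespace Cfsg.Agent.UAlt

universe u

/-- two commuting involutory squares of automorphisms commuting with `ξ` -/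
theorem false_of_squares {D : Type*} [Group D] {ξ a b c : MulAut D} (F : UGT.ThEL34.Facts2 ξ)
    (h1 : (a * b) * (a * b) * ((a * b) * (a * b)) = 1) (h2 : (a * c) * (a * c) * ((a * c) * (a * c)) = 1)
    (n1 : a * b * (a * b) ≠ 1) (n2 : a * c * (a * c) ≠ 1) (n3 : a * b * (a * b) ≠ a * c * (a * c))
    (hc : a * b * (a * b) * (a * c * (a * c)) = a * c * (a * c) * (a * b * (a * b)))
    (c1 : ξ * (a * b * (a * b)) = a * b * (a * b) * ξ) (c2 : ξ * (a * c * (a * c)) = a * c * (a * c) * ξ) :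
    False := by
  obtain ⟨l, hl⟩ := F.out4 (a * b) (by
    rw [show (4 : ℕ) = 2 + 2 from rfl, pow_add, pow_two]
    exact h1)
  obtain ⟨m, hm⟩ := F.out4 (a * c) (by
    rw [show (4 : ℕ) = 2 + 2 from rfl, pow_add, pow_two]
    exact h2)
  have hinj : ∀ {x y : D}, MulAut.conj x = MulAut.conj y → x = y := fun h => F.conj_inj h
  rw [hl] at h1 n1 n3 hc c1
  rw [hm] at h2 n2 n3 hc c2
  have e1 : l * l = 1 := hinj (by rw [map_mul, map_one]; exact h1)
  have e2 : m * m = 1 := hinj (by rw [map_mul, map_one]; exact h2)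
  have e3 : l * m = m * l := hinj (by rw [map_mul, map_mul]; exact hc)
  refine n3 (congrArg _ (F.comm l m e1 e2 ?_ ?_ ((F.comm_conj_iff ξ l).mp c1)
    ((F.comm_conj_iff ξ m).mp c2) e3))
  · rintro rfl
    exact n1 (map_one _)
  · rintro rfl
    exact n2 (map_one _)

variable {G : Type u} [Group G] [Finite G] {α : Type*} [Fintype α] [DecidableEq α]
  {L : Subgroup G} {Ω : Finset α} {M : Mod L Ω} {a : G}

/-- `V ∩ V* = 1` -/
theorem RF.eq_one_of_mul {V V' : Subgroup G} {T T' : Finset α} (hV : RF M V T) (hV' : RF M V' T')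
    (hd : Disjoint T T') {x y : G} (hx : x ∈ V) (hy : y ∈ V') (h : x * y = 1) : x = 1 := by
  by_contra h1
  have h2 : x = y⁻¹ := eq_inv_of_mul_eq_one_left h
  have h3 : (M.φ x).support = T := (hV.root hx h1).supp_eq
  have hx' : x ∈ V' := by rw [h2]; exact inv_mem hy
  have h4 : (M.φ x).support = T' := (hV'.root hx' h1).supp_eq
  have h5 : T = T' := h3.symm.trans h4
  rw [← h5, disjoint_self] at hd
  have h6 := hV.card
  rw [hd] at h6
  simp at h6

/-- **(3.4)**, type `L₃(4)` -/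
theorem Iso.not_l34 (H : Iso M a) {V V' : Subgroup G} {T T' : Finset α} (hV : RF M V T)
    (hV' : RF M V' T') (hd : Disjoint T T') (hc : Cm V V') {e v w : G} (he : e ∈ V ⊔ V') (hv : v ∈ V)
    (hv1 : v ≠ 1) (hw : w ∈ V') (hw1 : w ≠ 1) (h5 : (fixIn Ω (M.φ (v * w))).card < 5) {J : Subgroup G}
    (TJ : IsTriple e (v * w) J) (hact : ¬ Fixes v J) : ¬ UGT.Iface.IsL34 (↥J ⧸ oddCore ↥J) := by
  intro h34
  obtain ⟨u, hu, t, ht, h, k, r₁, r₂, hu1, huv, ht1, htw, D, D', hru, hrr⟩ :=
    exists_dduo_swap H.h11 hV hV' hd hc hv hv1 hw hw1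
  obtain ⟨n1, n2, -, -⟩ := D.active H h5 TJ.comp hact
  have mu : u ∈ closure ({u, h, t, k} : Set G) := subset_closure (by simp)
  have mh : h ∈ closure ({u, h, t, k} : Set G) := subset_closure (by simp)
  have mt : t ∈ closure ({u, h, t, k} : Set G) := subset_closure (by simp)
  have mk : k ∈ closure ({u, h, t, k} : Set G) := subset_closure (by simp)
  have mv : v ∈ closure ({u, h, t, k} : Set G) := by
    rw [← D.d1.rel]; exact mul_mem (mul_mem mu mh) (mul_mem mu mh)
  have hvv := hV.sq v hv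
  have huu := hV.sq u hu
  have htt := hV'.sq t ht
  have hzz := D.zz
  have hhk : ¬ Fixes (h * k) J := by
    intro hf
    rcases n2 _ (mul_mem mh mk) hf with e1 | e1
    · exact D'.d1.rv.ne_one e1
    · apply D'.d2.rv.ne_one
      rw [mul_assoc (v * w), e1]
      exact hzz
  obtain ⟨m1, -, -, -⟩ := D'.active H h5 TJ.comp hhk
  obtain ⟨r, hr⟩ : ∃ r, r = r₁ * r₂ := ⟨_, rfl⟩
  rw [← hr] at hru hrr
  have nr : r ∈ normalizer (J : Set G) := by
    rw [hr]
    exact mul_mem (m1 (subset_closure (by simp))) (m1 (subset_closure (by simp)))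
  -- `u t`
  have hCm := hc.sup hV.cm hV'.cm
  have hvu : v * u = u * v := hV.comm hv hu
  have hut : u * t = t * u := D.ut
  have hur : u * r * (u * r) = u * t := by
    have h1 : r⁻¹ = r := inv_eq_of_mul_eq_one_left hrr
    calc u * r * (u * r) = u * (r * u) * r := by group
      _ = u * (t * r) * r := by rw [hru]
      _ = u * t * (r * r) := by group
      _ = u * t := by rw [hrr, mul_one]
  have hutut : u * t * (u * t) = 1 := by
    calc u * t * (u * t) = u * (t * u) * t := by group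
      _ = (u * u) * (t * t) := by rw [← hut]; group
      _ = 1 := by rw [huu, htt, mul_one]
  have f2 : ¬ Fixes (u * t) J := by
    intro hf
    rcases n2 _ (mul_mem mu mt) hf with e1 | e1
    · exact hu1 (hV.eq_one_of_mul hV' hd hu ht e1)
    · have e2 : v⁻¹ * u * (t * w⁻¹) = 1 := by
        calc v⁻¹ * u * (t * w⁻¹) = v⁻¹ * (u * t) * w⁻¹ := by group
          _ = 1 := by rw [e1]; group
      have e3 := hV.eq_one_of_mul hV' hd (mul_mem (inv_mem hv) hu) (mul_mem ht (inv_mem hw)) e2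
      exact huv (inv_mul_eq_one.mp e3).symm
  have f3 : ¬ Fixes (v * (u * t)) J := by
    intro hf
    rcases n2 _ (mul_mem mv (mul_mem mu mt)) hf with e1 | e1
    · rw [← mul_assoc] at e1
      have e3 := hV.eq_one_of_mul hV' hd (mul_mem hv hu) ht e1
      apply huv
      have e4 : v⁻¹ = v := inv_eq_of_mul_eq_one_left hvv
      rw [mul_eq_one_iff_inv_eq, e4] at e3
      exact e3.symm
    · have e2 : u * t = w := mul_left_cancel e1
      have e3 : u * (t * w⁻¹) = 1 := by rw [← mul_assoc, e2, mul_inv_cancel]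
      exact hu1 (hV.eq_one_of_mul hV' hd hu (mul_mem ht (inv_mem hw)) e3)
  have nu := n1 mu
  have nh := n1 mh
  have nv := n1 mv
  have nt := n1 mt
  have F := (UGT.N2S.k34 _ h34 _ (UGT.Res.KFacts.act_sq TJ) _ (UGT.N2S.oddC' TJ) (img_ne TJ)).2.toFacts2
  obtain ⟨A, hA⟩ : ∃ A : ∀ x : G, x ∈ normalizer (J : Set G) → MulAut (↥J ⧸ oddCore ↥J),
      A = fun x hx => act J ⟨x, hx⟩ := ⟨_, rfl⟩
  have A1 : ∀ {x y : G} (hx : x ∈ normalizer (J : Set G)) (hy : y ∈ normalizer (J : Set G)),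
      A x hx * A y hy = A (x * y) (mul_mem hx hy) := by
    intro x y hx hy
    rw [hA]
    exact (act_mul hx hy).symm
  have A2 : ∀ {x y : G} (hx : x ∈ normalizer (J : Set G)) (hy : y ∈ normalizer (J : Set G)), x = y →
      A x hx = A y hy := by
    rintro x y hx hy rfl
    rfl
  have A3 : ∀ {x : G} (hx : x ∈ normalizer (J : Set G)), A x hx = 1 → Fixes x J := by
    intro x hx h1
    rw [hA] at h1
    exact (act_eq_one_iff hx).mp h1
  have A4 : ∀ {x : G} (hx : x ∈ normalizer (J : Set G)), x = 1 → A x hx = 1 := by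
    rintro x hx rfl
    rw [hA]
    exact map_one _
  have hξ : act J ⟨e, TJ.x_mem⟩ = A e TJ.x_mem := by rw [hA]
  rw [hξ] at F
  have E1 : A u nu * A h nh * (A u nu * A h nh) = A v nv := by
    rw [A1, A1]
    exact A2 _ _ D.d1.rel
  have E2 : A u nu * A r nr * (A u nu * A r nr) = A (u * t) (mul_mem nu nt) := by
    rw [A1, A1]
    exact A2 _ _ hur
  have heut : e * (u * t) = u * t * e := hCm _ he _ (mul_mem (mem_sup_left hu) (mem_sup_right ht))
  have hev : e * v = v * e := hCm _ he _ (mem_sup_left hv)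
  have hvut : v * (u * t) = u * t * v :=
    hCm _ (mem_sup_left hv) _ (mul_mem (mem_sup_left hu) (mem_sup_right ht))
  refine false_of_squares F (a := A u nu) (b := A h nh) (c := A r nr) ?_ ?_ ?_ ?_ ?_ ?_ ?_ ?_
  · rw [E1, A1]
    exact A4 _ hvv
  · rw [E2, A1]
    exact A4 _ hutut
  · rw [E1]
    exact fun h1 => hact (A3 _ h1)
  · rw [E2]
    exact fun h1 => f2 (A3 _ h1)
  · rw [E1, E2]
    intro h1
    apply f3
    apply A3 (mul_mem nv (mul_mem nu nt))
    rw [← A1 nv (mul_mem nu nt), ← h1, A1]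
    exact A4 _ hvv
  · rw [E1, E2, A1, A1]
    exact A2 _ _ hvut
  · rw [E1, A1, A1]
    exact A2 _ _ hev
  · rw [E2, A1, A1]
    exact A2 _ _ heut

end Cfsg.Agent.UAlt
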