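import Cfsg.Agent.UAlt.Eleven.FactXL2
import Cfsg.Agent.UAlt.Eleven.Duo
import Cfsg.Agent.UAlt.Eleven.Func
import Cfsg.Agent.UAlt.Eleven.NotL34

/-!
# `n = 11`, `xi = 0`: (3.4)

`DDuo.not_triple`: a 2-component `J` of `C(z)`, `z = v w`, on which `v` is not trivial, is not the 2-component of a
triple.
`Iso.h34`: (3.4), the hypothesis of `Iso.functor`.
-/

set_option autoImplicit false
set_option linter.unusedSectionVars false

open Cfsg Equiv Equiv.Perm Subgroup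
open Cfsg.Agent.Intrinsic.Basic
open Cfsg.Agent.SignalizersComponents Cfsg.Agent.Lib
open Cfsg.Agent.SignalizersComponents.IntrinsicBasic
open Cfsg.Agent.McLLyComp.Act
open Cfsg.Agent.UGT.Triple
open scoped commutatorElement

namespace Cfsg.Agent.UAlt.Eleven

variable {G : Type*} [Group G]

/-- an active 2-component `J`: two pairs of commuting dihedral groups acting on `J` -/
structure ActP (a s₁ s₂ s₃ s₄ v v' t₁ t₂ t₃ t₄ u u' : G) (J : Subgroup G) : Prop where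
  dih : Dih2 s₁ s₂ s₃ s₄ v v'
  dih' : Dih2 t₁ t₂ t₃ t₄ u u'
  n₁ : s₁ ∈ normalizer (J : Set G)
  n₂ : s₂ ∈ normalizer (J : Set G)
  n₃ : s₃ ∈ normalizer (J : Set G)
  n₄ : s₄ ∈ normalizer (J : Set G)
  m₁ : t₁ ∈ normalizer (J : Set G)
  m₂ : t₂ ∈ normalizer (J : Set G)
  m₃ : t₃ ∈ normalizer (J : Set G)
  m₄ : t₄ ∈ normalizer (J : Set G)
  z : Fixes (v * v') J
  z' : Fixes (u * u') J
  hu : u = v * s₂ * s₄
  v_ne : ¬ Fixes v J
  u_ne : ¬ Fixes u J
  aa : a * a = 1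
  na : a ∈ normalizer (J : Set G)
  a₁ : a * s₁ = s₁ * a
  a₂ : a * s₂ = s₂ * a
  a₃ : a * s₃ = s₃ * a
  a₄ : a * s₄ = s₄ * a
  b₁ : a * t₁ = t₁ * a
  b₂ : a * t₂ = t₂ * a
  b₃ : a * t₃ = t₃ * a
  b₄ : a * t₄ = t₄ * a
  star : ∀ Z, IsComp (J ⊓ centralizer ({a} : Set G)) Z → Fixes v Z

section

variable {α : Type*} [Fintype α] [DecidableEq α] {J : Subgroup G} {S : Finset α}
  {s₁ s₂ s₃ s₄ v v' t₁ t₂ t₃ t₄ u u' a : G}

/-- **(3.4)**, type `A_m` -/
theorem ActP.not_alt [Finite G] (h : ActP a s₁ s₂ s₃ s₄ v v' t₁ t₂ t₃ t₄ u u' J) (M : Mod J S)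
    (h11 : S.card ≤ 11) : False := by
  have D := h.dih
  have D' := h.dih'
  have hvN : v ∈ normalizer (J : Set G) := by
    rw [← D.g]; exact mul_mem (mul_mem h.n₁ h.n₂) (mul_mem h.n₁ h.n₂)
  have huN : u ∈ normalizer (J : Set G) := by
    rw [← D'.g]; exact mul_mem (mul_mem h.m₁ h.m₂) (mul_mem h.m₁ h.m₂)
  have E := D.ext M h.n₁ h.n₂ h.n₃ h.n₄ h.z
  have E' := D'.ext M h.m₁ h.m₂ h.m₃ h.m₄ h.z'
  obtain ⟨y, hy, hvy⟩ := Mod.exists_moved M hvN h.v_ne
  obtain ⟨y', hy', hvy'⟩ := Mod.exists_moved M huN h.u_ne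
  have hu : M.φ u = M.φ s₂ * M.φ s₄ * M.φ v := by
    have c1 : M.φ v * M.φ s₂ = M.φ s₂ * M.φ v := E.c₂
    have c2 : M.φ v * M.φ s₄ = M.φ s₄ * M.φ v := E.c₄
    rw [h.hu, M.mul _ _ (mul_mem hvN h.n₂) h.n₄, M.mul _ _ hvN h.n₂, c1, mul_assoc, c2, ← mul_assoc]
  obtain ⟨p1, -, p3⟩ := Ext.pair E E' (Mod.inv_of M h.n₁ h.n₂ h.n₃ h.n₄)
    (Mod.inv_of M h.m₁ h.m₂ h.m₃ h.m₄) h11 (Or.inr hu) ⟨y, hy, hvy⟩ ⟨y', hy', hvy'⟩ (a := M.φ a)
    (fun y hy => mem_of_mem_sym (M.mem_sym _ h.na) hy) (M.sq h.na h.aa) (M.comm h.na h.n₁ h.a₁)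
    (M.comm h.na h.n₂ h.a₂) (M.comm h.na h.n₃ h.a₃) (M.comm h.na h.n₄ h.a₄)
    (M.comm h.na h.m₁ h.b₁) (M.comm h.na h.m₂ h.b₂) (M.comm h.na h.m₃ h.b₃)
    (M.comm h.na h.m₄ h.b₄)
  -- `a` fixes the eight points moved by `v`, so it has at least eight fixed points
  have hsub : Ext.mv (M.φ v) S ⊆ fixIn S (M.φ a) := by
    intro t ht
    exact mem_fixIn.mpr ⟨(Ext.mem_mv.mp ht).1, p3 t ht⟩
  have h8 := Finset.card_le_card hsub
  have hZ := M.isComp_cmp h.na h.aa (by omega)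
  have hf := h.star _ hZ
  exact hvy (M.apply_of_fixes_cmp h.na h.aa (by omega) hvN hf (hsub (Ext.mem_mv.mpr ⟨hy, hvy⟩)))

/-- **(3.4)**: an active 2-component is not unbalanced -/
theorem ActP.not_triple [Finite G] (H : Hyp11 G) (X : FactX G) {e f : G}
    (h : ActP a s₁ s₂ s₃ s₄ v v' t₁ t₂ t₃ t₄ u u' J) (T : IsTriple e f J)
    (h34 : ¬ UGT.Iface.IsL34 (↥J ⧸ oddCore ↥J)) : False := by
  rcases H.types T with ⟨m, -, h7, h11, hA⟩ | hL | hL
  · obtain ⟨M⟩ := hA.mod_of_card (α := Fin m) (S := Finset.univ) (by simp) h7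
    exact h.not_alt M (by simpa using h11)
  · exact X h.dih h.n₁ h.n₂ h.n₃ h.n₄ h.z h.v_ne hL
  · exact h34 hL

end

end Cfsg.Agent.UAlt.Eleven

namespace Cfsg.Agent.UAlt

open Cfsg.Agent.UAlt.Eleven

variable {G : Type*} [Group G] [Finite G] {α : Type*} [Fintype α] [DecidableEq α]
  {L : Subgroup G} {Ω : Finset α} {M : Mod L Ω} {a z v u h w t k u₁ t₁ : G}

theorem DDuo.dih2 (D : DDuo M z v u h w t k) : Dih2 u h t k v w :=
  ⟨D.d1.ru.2.1, D.d1.rh.2.1, D.d2.ru.2.1, D.d2.rh.2.1, D.d1.rv.2.1, D.d2.rv.2.1, D.d1.rel, D.d2.rel,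
    D.ut, D.uk, D.ht, D.hk⟩

/-- `v h k ∉ {1, z}` -/
theorem DDuo.prod_ne (D : DDuo M z v u h w t k) : v * h * k ≠ z := by
  intro e
  rw [D.eq, mul_assoc] at e
  have e1 : h * k = w := mul_left_cancel e
  have h1 : t * k = k * t := by
    have h2 : Commute t (h * k) := by rw [e1]; exact D.d2.uv
    have h3 : Commute t h := D.ht.symm
    have h4 : Commute t (h⁻¹ * (h * k)) := h3.inv_right.mul_right h2
    rwa [inv_mul_cancel_left] at h4
  apply D.d2.rv.ne_one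
  rw [← D.d2.rel, mul_assoc, ← mul_assoc k, ← h1, mul_assoc, D.d2.rh.2.1, mul_one, D.d2.ru.2.1]

/-- **(3.4)** -/
theorem DDuo.not_triple (H : Hyp11 G) (X : FactX G) (I : Iso M a) (D : DDuo M z v u h w t k)
    (D' : DDuo M z (v * h * k) u₁ (h * v) (w * h * k) t₁ h) (h5 : (fixIn Ω (M.φ z)).card < 5)
    {J : Subgroup G} (hJ : IsComp (centralizer ({z} : Set G)) J) (hv : ¬ Fixes v J) {e f : G}
    (T : IsTriple e f J) (h34 : ¬ UGT.Iface.IsL34 (↥J ⧸ oddCore ↥J)) : False := by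
  obtain ⟨n1, n2, n3, -⟩ := D.active I h5 hJ hv
  have mu : u ∈ closure ({u, h, t, k} : Set G) := subset_closure (by simp)
  have mh : h ∈ closure ({u, h, t, k} : Set G) := subset_closure (by simp)
  have mt : t ∈ closure ({u, h, t, k} : Set G) := subset_closure (by simp)
  have mk : k ∈ closure ({u, h, t, k} : Set G) := subset_closure (by simp)
  have mv : v ∈ closure ({u, h, t, k} : Set G) := by
    rw [← D.d1.rel]; exact mul_mem (mul_mem mu mh) (mul_mem mu mh)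
  have hv' : ¬ Fixes (v * h * k) J := by
    intro hf
    rcases n2 _ (mul_mem (mul_mem mv mh) mk) hf with e1 | e1
    · exact D'.d1.rv.ne_one e1
    · exact D.prod_ne e1
  obtain ⟨n1', -, -, -⟩ := D'.active I h5 hJ hv'
  have hz : Fixes z J := by
    have hc : ∀ y ∈ J, z * y = y * z := fun y hy => (mem_centralizer_singleton_iff.mp (hJ.le hy)).symm
    have hzC : z ∈ centralizer (J : Set G) := mem_centralizer_iff.mpr fun y hy => (hc y hy).symm
    refine ⟨centralizer_le_normalizer _ hzC, fun y hy => ?_⟩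
    rw [commutatorElement_def, hc y hy]
    simp
  have act : ActP a u h t k v w u₁ (h * v) t₁ h (v * h * k) (w * h * k) J :=
    { dih := D.dih2
      dih' := D'.dih2
      n₁ := n1 mu
      n₂ := n1 mh
      n₃ := n1 mt
      n₄ := n1 mk
      m₁ := n1' (subset_closure (by simp))
      m₂ := n1' (subset_closure (by simp))
      m₃ := n1' (subset_closure (by simp))
      m₄ := n1' (subset_closure (by simp))
      z := by rw [← D.eq]; exact hz
      z' := by rw [← D'.eq]; exact hz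
      hu := rfl
      v_ne := hv
      u_ne := hv'
      aa := I.aa
      na := n3
      a₁ := (I.comm_a D.d1.ru.1).symm
      a₂ := (I.comm_a D.d1.rh.1).symm
      a₃ := (I.comm_a D.d2.ru.1).symm
      a₄ := (I.comm_a D.d2.rh.1).symm
      b₁ := (I.comm_a D'.d1.ru.1).symm
      b₂ := (I.comm_a D'.d1.rh.1).symm
      b₃ := (I.comm_a D'.d2.ru.1).symm
      b₄ := (I.comm_a D'.d2.rh.1).symm
      star := fun Z hZ => I.fixes_za D.z_mem D.zz h5 D.d1.rv.1 D.vz
        (Cfsg.Agent.UGT.PumpGen.isComp_of_inf hJ hZ) }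
  exact act.not_triple H X T h34

/-- `v w` has at most three fixed points -/
theorem RF.card_fix_mul {V V' : Subgroup G} {T T' : Finset α} (h11 : Ω.card = 11) (hV : RF M V T)
    (hV' : RF M V' T') (hd : Disjoint T T') {v w : G} (hv : v ∈ V) (hv1 : v ≠ 1) (hw : w ∈ V')
    (hw1 : w ≠ 1) : (fixIn Ω (M.φ (v * w))).card < 5 := by
  have hTv : (M.φ v).support = T := (hV.root hv hv1).supp_eq
  have hTw : (M.φ w).support = T' := (hV'.root hw hw1).supp_eq
  have hmul : M.φ (v * w) = M.φ v * M.φ w := M.mul _ _ (Subgroup.le_normalizer (hV.le hv))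
    (Subgroup.le_normalizer (hV'.le hw))
  have hsub : fixIn Ω (M.φ (v * w)) ⊆ Ω \ (T ∪ T') := by
    intro p hp
    rw [mem_fixIn, hmul, Perm.mul_apply] at hp
    rw [Finset.mem_sdiff, Finset.mem_union, not_or]
    refine ⟨hp.1, fun h => ?_, fun h => ?_⟩
    · have h1 : M.φ w p = p := by
        by_contra h2
        exact Finset.disjoint_left.mp hd h (hTw ▸ mem_support.mpr h2)
      rw [h1] at hp
      rw [← hTv, mem_support] at h
      exact h hp.2
    · have h1 : M.φ w p ∈ T' := by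
        rw [← hTw, apply_mem_support, hTw]; exact h
      have h2 : M.φ v (M.φ w p) = M.φ w p := by
        by_contra h2
        exact Finset.disjoint_left.mp hd (hTv ▸ mem_support.mpr h2) h1
      rw [h2] at hp
      rw [← hTw, mem_support] at h
      exact h hp.2
  have h1 := Finset.card_le_card hsub
  rw [Finset.card_sdiff_of_subset (Finset.union_subset hV.sub hV'.sub), Finset.card_union_of_disjoint hd,
    hV.card, hV'.card, h11] at h1
  omega

/-- **(3.4)** -/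
theorem Iso.h34 (H11 : Hyp11 G) (H : Iso M a) {V V' : Subgroup G} {T T' : Finset α} (hV : RF M V T)
    (hV' : RF M V' T') (hd : Disjoint T T') (hc : Cm V V') : ∀ e ∈ V ⊔ V', e ≠ 1 → ∀ v ∈ V, v ≠ 1 →
      ∀ w ∈ V', w ≠ 1 → core (centralizer ({e} : Set G)) ⊓ centralizer ({v * w} : Set G) ≤
        core (centralizer ({v * w} : Set G)) := by
  intro e he he1 v hv hv1 w hw hw1 d hdd
  by_contra hn
  have hCm := hc.sup hV.cm hV'.cm
  have hvwE : v * w ∈ V ⊔ V' := mul_mem (mem_sup_left hv) (mem_sup_right hw)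
  have hee := hc.sq_sup hV.sq hV'.sq he
  have hzz := hc.sq_sup hV.sq hV'.sq hvwE
  obtain ⟨u, hu, t, ht, h, k, u₁, t₁, -, -, -, -, D, D'⟩ := exists_dduo H.h11 hV hV' hd hc hv hv1 hw hw1
  have h5 : (fixIn Ω (M.φ (v * w))).card < 5 := hV.card_fix_mul H.h11 hV' hd hv hv1 hw hw1
  have hvw1 : v * w ≠ 1 := by
    intro h1
    rw [h1, M.one] at h5
    have h2 : fixIn Ω (1 : Perm α) = Ω := by
      ext p
      rw [mem_fixIn]
      exact ⟨fun h => h.1, fun h => ⟨h, rfl⟩⟩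
    rw [h2, H.h11] at h5
    omega
  obtain ⟨J, TJ⟩ := exists_triple (orderOf_eq_prime (by rw [pow_two]; exact hee) he1)
    (orderOf_eq_prime (by rw [pow_two]; exact hzz) hvw1) (hCm _ hvwE _ he) hdd.1 hdd.2 hn
  have hact : ¬ Fixes v J := by
    intro hf
    apply TJ.not_fixes
    have rv := hV.rt hv hv1
    have hvz : v * (v * w) = v * w * v := hCm _ (mem_sup_left hv) _ hvwE
    have key : ∀ r ∈ V ⊔ V', M.Rt r → Fixes r J := fun r hrE hr =>
      H.inactive D.z_mem hzz h5 TJ.comp rv hr hvz (hCm _ hrE _ hvwE) (hCm _ hrE _ (mem_sup_left hv)) hf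
    obtain ⟨x, hx, y, hy, rfl⟩ := hc.mem_sup.mp he
    refine fixes_mul ?_ ?_
    · by_cases h1 : x = 1
      · rw [h1]; exact fixes_one J
      · exact key x (mem_sup_left hx) (hV.rt hx h1)
    · by_cases h1 : y = 1
      · rw [h1]; exact fixes_one J
      · exact key y (mem_sup_right hy) (hV'.rt hy h1)
  exact D.not_triple H11 (FactXL2.factX G) H D' h5 TJ.comp hact TJ
    (H.not_l34 hV hV' hd hc he hv hv1 hw hw1 h5 TJ hact)

end Cfsg.Agent.UAlt
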