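import Cfsg.Agent.UAlt.Supply
import Cfsg.Agent.UAlt.Eleven.Frame

/-!
# Supply of `Hyp11`

* `big_of_l2_seven`: no subgroup `E` of `J`, `J / O(J) = PSL(2,q)`, has `E / O(E) = Alt(S)`, `|S| ≥ 7`.
* `hyp11`: `Hyp11 G` from the list of the types.
-/

set_option autoImplicit false

open Cfsg Equiv Equiv.Perm Subgroup
open Cfsg.Agent.Intrinsic.Basic Cfsg.Agent.Intrinsic.Diag Cfsg.Agent.Intrinsic.Cen
open Cfsg.Agent.SignalizersComponents Cfsg.Agent.Lib
open Cfsg.Agent.SignalizersComponents.IntrinsicBasic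
open Cfsg.Agent.McLLyComp.Act
open Cfsg.Agent.UGT.Triple Cfsg.Agent.UGT.PumpGen Cfsg.Agent.UGT.Iface
open Cfsg.Agent.GH.L2Aut
open Cfsg.Agent.UAlt.Supply
open scoped commutatorElement

namespace Cfsg.Agent.UAlt.Eleven.Supply

section l2

variable {G : Type*} [Group G] [Finite G] {α : Type*} [Fintype α] [DecidableEq α]

theorem core_inf_le_core {J E : Subgroup G} (hE : E ≤ J) : core J ⊓ E ≤ core E := by
  refine le_core inf_le_right ?_ (Odd.of_dvd_nat (odd_card_core J) (card_dvd_of_le inf_le_left))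
  intro g hg
  have h4 := mem_normalizer_iff_cj.mp (le_normalizer_core J (hE hg))
  have h5 := mem_normalizer_iff_cj.mp (le_normalizer hg)
  rw [mem_normalizer_iff_cj, cj_inf, h4, h5]

/-- **big**, type `PSL(2,q)`, degree at least seven -/
theorem big_of_l2_seven {F : Type*} [Field F] [Finite F] {J E : Subgroup G}
    (R : Cfsg.Agent.GH.L2Aut.Rep F (↥J ⧸ oddCore ↥J)) (hE : E ≤ J) {S : Finset α} (M : Mod E S)
    (h7 : 7 ≤ S.card) : False := by
  obtain ⟨T, hT, hT4⟩ := Finset.exists_subset_card_eq (s := S) (n := 4) (by omega)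
  obtain ⟨T', hT', hT3⟩ := Finset.exists_subset_card_eq (s := S \ T) (n := 3) (by
    rw [Finset.card_sdiff_of_subset hT, hT4]; omega)
  obtain ⟨i, j, l, hij, hil, hjl, rfl⟩ := Finset.card_eq_three.mp hT3
  have hi : i ∈ S \ T := hT' (by simp)
  have hj : j ∈ S \ T := hT' (by simp)
  have hl : l ∈ S \ T := hT' (by simp)
  rw [Finset.mem_sdiff] at hi hj hl
  obtain ⟨σ, hσd⟩ : ∃ σ : Perm α, σ = swap i j * swap i l := ⟨_, rfl⟩
  have hσfix : ∀ x, x ≠ i → x ≠ j → x ≠ l → σ x = x := by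
    intro x h1 h2 h3
    rw [hσd, Perm.mul_apply, swap_apply_of_ne_of_ne h1 h3, swap_apply_of_ne_of_ne h1 h2]
  have hσl : σ l = j := by
    rw [hσd, Perm.mul_apply, swap_apply_right, swap_apply_left]
  have hσ : σ ∈ alt S := by
    have h1 : σ ∈ alternatingGroup α := by
      rw [mem_alternatingGroup, hσd, Perm.sign_mul, sign_swap hij, sign_swap hil]
      decide
    exact ⟨h1, fun x hx => hσfix x (fun e => hx (e ▸ hi.1)) (fun e => hx (e ▸ hj.1))
      (fun e => hx (e ▸ hl.1))⟩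
  have hσT : ∀ x ∈ T, σ x = x := fun x hx => hσfix x (fun e => hi.2 (e ▸ hx)) (fun e => hj.2 (e ▸ hx))
    (fun e => hl.2 (e ▸ hx))
  obtain ⟨V, hV⟩ := exists_RF' M hT hT4
  obtain ⟨y, hy, hyc, hyσ⟩ := M.exists_fix_lift hV.isPGroup (fun v hv => hV.memN hv) hσ (by
    intro p hp
    exact (comm_of_fix hσT (alt_le_sym _ (hV.mem p hp))).symm)
  obtain ⟨v, hv, hv1⟩ := hV.exists_ne
  obtain ⟨w, hw, hw1, hvw⟩ : ∃ w ∈ V, w ≠ 1 ∧ v ≠ w := by
    by_contra hno
    push Not at hno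
    have h1 : V ≤ zpowers v := by
      intro w hw
      by_cases hw1 : w = 1
      · rw [hw1]
        exact one_mem _
      · rw [← hno w hw hw1]
        exact mem_zpowers v
    have h2 := Subgroup.card_dvd_of_le h1
    rw [Nat.card_zpowers, hV.natCard] at h2
    have h3 : orderOf v ∣ 2 := orderOf_dvd_of_pow_eq_one (by rw [pow_two]; exact hV.sq v hv)
    have h4 := Nat.le_of_dvd (by norm_num) (h2.trans h3)
    omega
  have hJv := hE (hV.le hv)
  have hJw := hE (hV.le hw)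
  have hJy := hE hy
  have hodd := odd_card_core J
  obtain ⟨a, ha⟩ : ∃ a : ↥J ⧸ oddCore ↥J, a = QuotientGroup.mk ⟨v, hJv⟩ := ⟨_, rfl⟩
  obtain ⟨b, hb⟩ : ∃ a : ↥J ⧸ oddCore ↥J, a = QuotientGroup.mk ⟨w, hJw⟩ := ⟨_, rfl⟩
  obtain ⟨c, hcc⟩ : ∃ a : ↥J ⧸ oddCore ↥J, a = QuotientGroup.mk ⟨y, hJy⟩ := ⟨_, rfl⟩
  have key : ∀ (x y : G) (hx : x ∈ J) (hy : y ∈ J), (QuotientGroup.mk (⟨x, hx⟩ : ↥J) : ↥J ⧸ oddCore ↥J) *
      QuotientGroup.mk (⟨y, hy⟩ : ↥J) = QuotientGroup.mk ⟨x * y, mul_mem hx hy⟩ := fun x y hx hy => rfl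
  have hFour : Four a b := by
    refine ⟨?_, ?_, ?_, ?_, ?_, ?_⟩
    · rw [ha, key, mk_eq_one_iff, hV.sq v hv]
      exact one_mem _
    · rw [hb, key, mk_eq_one_iff, hV.sq w hw]
      exact one_mem _
    · rw [ha, Ne, mk_eq_one_iff]
      exact fun h => hv1 (one_of_odd hodd h (hV.sq v hv))
    · rw [hb, Ne, mk_eq_one_iff]
      exact fun h => hw1 (one_of_odd hodd h (hV.sq w hw))
    · rw [ha, hb, Ne, mk_eq_iff]
      intro h
      have h1 := one_of_odd hodd h (hV.sq _ (mul_mem (inv_mem hv) hw))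
      exact hvw (inv_mul_eq_one.mp h1)
    · rw [ha, hb, key, key]
      congr 1
      exact Subtype.ext (hV.comm hv hw)
  have hca : ∀ (x : G) (hx : x ∈ V), MulAut.conj c (QuotientGroup.mk (⟨x, hE (hV.le hx)⟩ : ↥J)) =
      QuotientGroup.mk (⟨x, hE (hV.le hx)⟩ : ↥J) := by
    intro x hx
    rw [MulAut.conj_apply, mul_inv_eq_iff_eq_mul, hcc, key, key]
    congr 1
    exact Subtype.ext (hyc x hx)
  have h1 := R.fix_four hFour (R.conj_mem_PGL c) (by rw [ha]; exact hca v hv)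
    (by rw [hb]; exact hca w hw)
  obtain ⟨v₀, hv₀, h2⟩ : ∃ v₀, ∃ h : v₀ ∈ V, c = QuotientGroup.mk (⟨v₀, hE (hV.le h)⟩ : ↥J) := by
    rcases h1 with h1 | h1 | h1 | h1
    · exact ⟨1, one_mem _, R.conj_injective (by rw [h1]; exact (map_one _).symm)⟩
    · exact ⟨v, hv, by rw [← ha]; exact R.conj_injective h1⟩
    · exact ⟨w, hw, by rw [← hb]; exact R.conj_injective h1⟩
    · refine ⟨v * w, mul_mem hv hw, ?_⟩
      rw [R.conj_injective h1, ha, hb, key]
  rw [hcc, mk_eq_iff] at h2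
  have h3 : y⁻¹ * v₀ ∈ core E := core_inf_le_core hE
    (mem_inf.mpr ⟨h2, mul_mem (inv_mem hy) (hV.le hv₀)⟩)
  have h4 : M.φ y = M.φ v₀ := (M.eq_iff hy (hV.le hv₀)).mpr h3
  have h5 := (hV.mem v₀ hv₀).2 l hl.2
  rw [← h4, hyσ, hσl] at h5
  exact hjl h5

end l2

section types

universe u

variable {G : Type u} [Group G] [Finite G]

theorem one_lt_card_alt {k : ℕ} (h7 : 7 ≤ k) : Nat.card (alternatingGroup (Fin k)) ≠ 1 := by
  have : Nontrivial (Fin k) := Fin.nontrivial_iff_two_le.mpr (by omega)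
  have h3 := two_mul_nat_card_alternatingGroup (α := Fin k)
  rw [Nat.card_perm, Nat.card_eq_fintype_card (α := Fin k), Fintype.card_fin] at h3
  have h4 : k ≤ k.factorial := Nat.self_le_factorial k
  omega

/-- **`Hyp11` from the list of the types** -/
theorem hyp11_of_types (h : ∀ (x a : G) (L : Subgroup G), IsTriple x a L → IsL2 (Bar L) ∨
      (∃ m, Odd m ∧ 7 ≤ m ∧ m ≤ 11 ∧ IsAlt m (Bar L))) : Hyp11 G where
  types := by
    intro x f J hT
    rcases h x f J hT with h1 | h1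
    · exact Or.inr (Or.inl h1)
    · exact Or.inl h1
  simple := by
    intro x f J hT k h7' g hg hk
    rcases h x f J hT with ⟨F, _, _, ho, -, ⟨e⟩⟩ | ⟨m, -, h7, -, ⟨e⟩⟩
    · have R := Rep.ofEquiv (two_ne_zero_of_odd ho) e
      rw [R.center_eq_bot, le_bot_iff] at hk
      exact ⟨MulEquiv.ofBijective g ⟨(MonoidHom.ker_eq_bot_iff g).mp hk, hg⟩⟩
    · have hs : IsSimpleGroup (alternatingGroup (Fin m)) :=
        alternatingGroup.isSimpleGroup (by rw [Nat.card_eq_fintype_card, Fintype.card_fin]; omega)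
      have hs' : IsSimpleGroup (↥J ⧸ oddCore ↥J) := by
        have : Nontrivial (↥J ⧸ oddCore ↥J) := e.symm.injective.nontrivial
        exact IsSimpleGroup.isSimpleGroup_of_surjective e.symm.toMonoidHom e.symm.surjective
      rcases g.normal_ker.eq_bot_or_eq_top with h1 | h1
      · exact ⟨MulEquiv.ofBijective g ⟨(MonoidHom.ker_eq_bot_iff g).mp h1, hg⟩⟩
      · exfalso
        refine one_lt_card_alt h7' ?_
        have : Subsingleton (alternatingGroup (Fin k)) := by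
          refine ⟨fun a b => ?_⟩
          obtain ⟨a, rfl⟩ := hg a
          obtain ⟨b, rfl⟩ := hg b
          have e1 : a ∈ g.ker := h1 ▸ mem_top a
          have e2 : b ∈ g.ker := h1 ▸ mem_top b
          rw [MonoidHom.mem_ker.mp e1, MonoidHom.mem_ker.mp e2]
        exact Nat.card_of_subsingleton 1
  big := by
    intro x f J hT t ht htt E hE k h7 hA
    have hEJ : E ≤ J := hE.le.trans inf_le_left
    rcases h x f J hT with ⟨F, _, _, ho, -, ⟨e⟩⟩ | h1
    · obtain ⟨M⟩ := hA.mod_of_card (S := (Finset.univ : Finset (Fin k))) (by simp) (by omega)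
      exact (big_of_l2_seven (Rep.ofEquiv (two_ne_zero_of_odd ho) e) hEJ M (by simp; omega)).elim
    · exact h1
  small := by
    intro x f J hT
    rcases h x f J hT with ⟨F, _, _, ho, -, ⟨e⟩⟩ | ⟨m, -, h7, -, h1⟩
    · right
      intro t ht htJ htt E hE k h5 hA hx U hU hsq h4 hu
      exact small_of_l2 (Rep.ofEquiv (two_ne_zero_of_odd ho) e) hT.comp hE hU hsq h4
        fun u hu' => ⟨(hu u hu').1, (hu u hu').2.1, (hu u hu').2.2.2⟩
    · exact Or.inl ⟨m, h7, h1⟩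

/-- **`Hyp11`** if all types are `A_m`, `m < 13`, or `PSL(2,q)` -/
theorem hyp11 (hT : ∀ (x a : G) (L : Subgroup G), IsTriple x a L → IsL2 (Bar L) ∨ IsAltOdd (Bar L))
    (h13 : ∀ (x a : G) (L : Subgroup G), IsTriple x a L → ∀ n, Odd n → 13 ≤ n → ¬ IsAlt n (Bar L)) :
    Hyp11 G := by
  refine hyp11_of_types fun x a L hL => ?_
  rcases hT x a L hL with h7 | ⟨k, h7, h8, h9⟩
  · exact Or.inl h7
  · refine Or.inr ⟨k, h7, h8, ?_, h9⟩
    by_contra hlt
    refine h13 x a L hL k h7 ?_ h9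
    obtain ⟨r, hr⟩ := h7
    omega

/-- **N3 of FRAME v4** (`UGT.Nodes.NodeAn'`) from the contradictions in the two frames -/
theorem nodeAn_of (h13 : ∀ (G : Type u) [Group G] [Finite G], MinCex G → ∀ n, Hyp G n →
      ∀ (x a : G) (L : Subgroup G), IsTriple x a L → ¬ AltType L n)
    (h11 : ∀ (G : Type u) [Group G] [Finite G], MinCex G → Hyp11 G →
      ∀ (x a : G) (L : Subgroup G), IsTriple x a L → ¬ AltType L 11) : UGT.Nodes.NodeAn'.{u} := by
  intro G _ _ hG hT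
  have key : ∀ (x a : G) (L : Subgroup G), IsTriple x a L → ∀ n, Odd n → 13 ≤ n →
      ¬ IsAlt n (Bar L) := by
    intro x a L ht m hm h13' hA
    obtain ⟨n, -, hH, y, b, K, h1, h2⟩ := exists_hyp' hT hm h13' ht hA
    exact h13 G hG n hH y b K h1 h2
  intro x a L ht m hm hm11 hA
  rcases lt_or_ge m 13 with h1 | h1
  · have h2 : m = 11 := by
      obtain ⟨r, hr⟩ := hm
      omega
    subst h2
    exact h11 G hG (hyp11 hT key) x a L ht hA
  · exact key x a L ht m hm h1 hA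

end types

end Cfsg.Agent.UAlt.Eleven.Supply
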