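import Cfsg.Agent.UAlt.Final
import Cfsg.Agent.UAlt.Eleven.Final
import Cfsg.Agent.UAlt.Eleven.NotTriple
import Cfsg.Agent.UAlt.Eleven.Supply

/-!
# Node N3 of S1311 from the solvability of groups of odd order

* `Eleven.Final.final`: no triple of type `A₁₁`.
* `nodeAn_of_ft`: `UGT.Nodes.NodeAn'`.
-/

set_option autoImplicit false

open Cfsg Subgroup
open Cfsg.Agent.Intrinsic.Basic
open Cfsg.Agent.Intrinsic
open Cfsg.Agent.UGT.Triple Cfsg.Agent.UGT.Iface

namespace Cfsg.Agent.UAlt

universe u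

/-- **the contradiction in the frame**, `n = 11` -/
theorem Eleven.Final.final {G : Type u} [Group G] [Finite G] (FT : Functor.OddSol G) (hG : MinCex G)
    (H : Hyp11 G) {x a : G} {L : Subgroup G} (T : IsTriple x a L) : ¬ AltType L 11 :=
  Eleven.Final.final_of FT hG H (fun _ _ _ _ hI _ _ _ _ hV hV' hd hc => hI.h34 H hV hV' hd hc) T

/-- **node N3** -/
theorem nodeAn_of_ft (FT : ∀ (G : Type u) [Group G] [Finite G], Functor.OddSol G) : UGT.Nodes.NodeAn'.{u} :=
  Eleven.Supply.nodeAn_of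
    (fun G _ _ hG _ H _ _ _ T => Final.final (FT G) hG H T)
    (fun G _ _ hG H _ _ _ T => Eleven.Final.final (FT G) hG H T)

end Cfsg.Agent.UAlt
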