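import Cfsg.Agent.UAlt.NodeAnL34
import Cfsg.Agent.UAlt.Eleven.NodeAnFT
import Cfsg.Agent.UGT.NodesL34w

/-!
# No unbalancing triple of type `Aₙ`, `n ≥ 11`, in the world with `L₃(4)`

* `big_of_l34`: no subgroup `E` of `J`, `J / O(J) = L₃(4)`, has `E / O(E) = Alt(S)`, `|S| ≥ 7`.
* `hyp11`: `Hyp11 G` if all types are `A_m`, `PSL(2,q)` or `L₃(4)`.
* `nodeAnL_of_ft`: `UGT.Nodes.NodeAnL`.
-/

set_option autoImplicit false

open Cfsg Equiv Equiv.Perm Subgroup
open Cfsg.Agent.Intrinsic.Basic Cfsg.Agent.Intrinsic.Diag Cfsg.Agent.Intrinsic.Cen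
open Cfsg.Agent.Intrinsic
open Cfsg.Agent.SignalizersComponents Cfsg.Agent.Lib
open Cfsg.Agent.SignalizersComponents.IntrinsicBasic
open Cfsg.Agent.McLLyComp.Act
open Cfsg.Agent.UGT.Triple Cfsg.Agent.UGT.PumpGen Cfsg.Agent.UGT.Iface
open Cfsg.Agent.UGT.LTF.Defs (FT)
open Cfsg.Agent.UGT.LTF.Basics (img_ne)
open Cfsg.Agent.GH.L2Aut
open Cfsg.Agent.UAlt.Supply
open scoped commutatorElement

namespace Cfsg.Agent.UAlt.Eleven.NodeAnL

universe u

variable {G : Type u} [Group G] [Finite G]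

theorem ft {x f : G} {J : Subgroup G} (T : IsTriple x f J) (h34 : IsL34 (↥J ⧸ oddCore ↥J)) :
    FT (act J ⟨x, T.x_mem⟩) :=
  (UGT.N2S.k34 _ h34 _ (UGT.Res.KFacts.act_sq T) _ (UGT.N2S.oddC' T) (img_ne T)).1

/-- **big**, type `L₃(4)` -/
theorem big_of_l34 {α : Type*} [Fintype α] [DecidableEq α] {x f : G} {J E : Subgroup G}
    (T : IsTriple x f J) (h34 : IsL34 (↥J ⧸ oddCore ↥J)) (hE : E ≤ J) {S : Finset α} (M : Mod E S)
    (h7 : 7 ≤ S.card) : False := by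
  obtain ⟨T₀, hT, hT4⟩ := Finset.exists_subset_card_eq (s := S) (n := 4) (by omega)
  obtain ⟨T', hT', hT3⟩ := Finset.exists_subset_card_eq (s := S \ T₀) (n := 3) (by
    rw [Finset.card_sdiff_of_subset hT, hT4]; omega)
  obtain ⟨i, j, l, hij, hil, hjl, rfl⟩ := Finset.card_eq_three.mp hT3
  have hi : i ∈ S \ T₀ := hT' (by simp)
  have hj : j ∈ S \ T₀ := hT' (by simp)
  have hl : l ∈ S \ T₀ := hT' (by simp)
  rw [Finset.mem_sdiff] at hi hj hl
  obtain ⟨σ, hσd⟩ : ∃ σ : Perm α, σ = swap i j * swap i l := ⟨_, rfl⟩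
  have hσfix : ∀ x, x ≠ i → x ≠ j → x ≠ l → σ x = x := by
    intro x h1 h2 h3
    rw [hσd, Perm.mul_apply, swap_apply_of_ne_of_ne h1 h3, swap_apply_of_ne_of_ne h1 h2]
  have hσl : σ l = j := by
    rw [hσd, Perm.mul_apply, swap_apply_right, swap_apply_left]
  have hσi : σ i = l := by
    rw [hσd, Perm.mul_apply, swap_apply_left, swap_apply_of_ne_of_ne hil.symm hjl.symm]
  have hσj : σ j = i := by
    rw [hσd, Perm.mul_apply, swap_apply_of_ne_of_ne hij.symm hjl, swap_apply_right]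
  have hσ3 : σ ^ 3 = 1 := by
    ext p
    rw [pow_succ, pow_two, Perm.mul_apply, Perm.mul_apply, Perm.one_apply]
    by_cases h1 : p = i
    · rw [h1, hσi, hσl, hσj]
    by_cases h2 : p = j
    · rw [h2, hσj, hσi, hσl]
    by_cases h3 : p = l
    · rw [h3, hσl, hσj, hσi]
    rw [hσfix p h1 h2 h3, hσfix p h1 h2 h3, hσfix p h1 h2 h3]
  have hσ : σ ∈ alt S := by
    have h1 : σ ∈ alternatingGroup α := by
      rw [mem_alternatingGroup, hσd, Perm.sign_mul, sign_swap hij, sign_swap hil]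
      decide
    exact ⟨h1, fun x hx => hσfix x (fun e => hx (e ▸ hi.1)) (fun e => hx (e ▸ hj.1))
      (fun e => hx (e ▸ hl.1))⟩
  have hσT : ∀ x ∈ T₀, σ x = x := fun x hx => hσfix x (fun e => hi.2 (e ▸ hx)) (fun e => hj.2 (e ▸ hx))
    (fun e => hl.2 (e ▸ hx))
  obtain ⟨V, hV⟩ := exists_RF' M hT hT4
  obtain ⟨y, hy, hyc, hyσ⟩ := M.exists_fix_lift hV.isPGroup (fun v hv => hV.memN hv) hσ (by
    intro p hp
    exact (comm_of_fix hσT (alt_le_sym _ (hV.mem p hp))).symm)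
  obtain ⟨v, hv, hv1⟩ := hV.exists_ne
  have hJv := hE (hV.le hv)
  have hJy := hE hy
  have hodd := odd_card_core J
  obtain ⟨a, ha⟩ : ∃ a : ↥J ⧸ oddCore ↥J, a = QuotientGroup.mk ⟨v, hJv⟩ := ⟨_, rfl⟩
  obtain ⟨c, hcc⟩ : ∃ a : ↥J ⧸ oddCore ↥J, a = QuotientGroup.mk ⟨y, hJy⟩ := ⟨_, rfl⟩
  have key : ∀ (x y : G) (hx : x ∈ J) (hy : y ∈ J), (QuotientGroup.mk (⟨x, hx⟩ : ↥J) : ↥J ⧸ oddCore ↥J) *
      QuotientGroup.mk (⟨y, hy⟩ : ↥J) = QuotientGroup.mk ⟨x * y, mul_mem hx hy⟩ := fun x y hx hy => rfl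
  have haa : a * a = 1 := by
    rw [ha, key, mk_eq_one_iff, hV.sq v hv]
    exact one_mem _
  have ha1 : a ≠ 1 := by
    rw [ha, Ne, mk_eq_one_iff]
    exact fun h => hv1 (one_of_odd hodd h (hV.sq v hv))
  have hca : c * a = a * c := by
    rw [hcc, ha, key, key]
    congr 1
    exact Subtype.ext (hyc v hv)
  obtain ⟨n, hn⟩ := (ft T h34).c2 a haa ha1 c hca
  have hyn : y ^ 2 ^ n ∈ core J := by
    rw [← mk_eq_one_iff (pow_mem hJy _), ← hn, hcc]
    rfl
  have h3 : y ^ 2 ^ n ∈ core E := Supply.core_inf_le_core hE (mem_inf.mpr ⟨hyn, pow_mem hy _⟩)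
  have h4 : M.φ (y ^ 2 ^ n) = 1 := (M.core_iff _ (pow_mem hy _)).mpr h3
  have h5 : ∀ m : ℕ, M.φ (y ^ m) = σ ^ m := by
    intro m
    induction m with
    | zero => rw [pow_zero, pow_zero, M.one]
    | succ m ih =>
      rw [pow_succ, pow_succ, M.mul _ _ (pow_mem (le_normalizer hy) _) (le_normalizer hy), ih, hyσ]
  rw [h5] at h4
  have h6 : orderOf σ ∣ Nat.gcd 3 (2 ^ n) :=
    Nat.dvd_gcd (orderOf_dvd_of_pow_eq_one hσ3) (orderOf_dvd_of_pow_eq_one h4)
  have h7' : Nat.gcd 3 (2 ^ n) = 1 := Nat.Coprime.pow_right n (by norm_num)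
  rw [h7', Nat.dvd_one, orderOf_eq_one_iff] at h6
  rw [h6] at hσl
  exact hjl hσl.symm

/-- **`Hyp11` from the list of the types** -/
theorem hyp11_of_types (h : ∀ (x a : G) (L : Subgroup G), IsTriple x a L → IsL2 (Bar L) ∨
      (∃ m, Odd m ∧ 7 ≤ m ∧ m ≤ 11 ∧ IsAlt m (Bar L)) ∨ IsL34 (Bar L)) : Hyp11 G where
  types := by
    intro x f J hT
    rcases h x f J hT with h1 | h1 | h1
    · exact Or.inr (Or.inl h1)
    · exact Or.inl h1
    · exact Or.inr (Or.inr h1)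
  simple := by
    intro x f J hT k h7' g hg hk
    rcases h x f J hT with ⟨F, _, _, ho, -, ⟨e⟩⟩ | ⟨m, -, h7, -, ⟨e⟩⟩ | h34
    · have R := Rep.ofEquiv (two_ne_zero_of_odd ho) e
      rw [R.center_eq_bot, le_bot_iff] at hk
      exact ⟨MulEquiv.ofBijective g ⟨(MonoidHom.ker_eq_bot_iff g).mp hk, hg⟩⟩
    · have hs : IsSimpleGroup (alternatingGroup (Fin m)) :=
        alternatingGroup.isSimpleGroup (by rw [Nat.card_eq_fintype_card, Fintype.card_fin]; omega)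
      have hs' : IsSimpleGroup (↥J ⧸ oddCore ↥J) := by
        have : Nontrivial (↥J ⧸ oddCore ↥J) := e.symm.injective.nontrivial
        exact IsSimpleGroup.isSimpleGroup_of_surjective e.symm.toMonoidHom e.symm.surjective
      rcases g.normal_ker.eq_bot_or_eq_top with h1 | h1
      · exact ⟨MulEquiv.ofBijective g ⟨(MonoidHom.ker_eq_bot_iff g).mp h1, hg⟩⟩
      · exfalso
        refine Supply.one_lt_card_alt h7' ?_
        have : Subsingleton (alternatingGroup (Fin k)) := by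
          refine ⟨fun a b => ?_⟩
          obtain ⟨a, rfl⟩ := hg a
          obtain ⟨b, rfl⟩ := hg b
          have e1 : a ∈ g.ker := h1 ▸ mem_top a
          have e2 : b ∈ g.ker := h1 ▸ mem_top b
          rw [MonoidHom.mem_ker.mp e1, MonoidHom.mem_ker.mp e2]
        exact Nat.card_of_subsingleton 1
    · rw [UGT.NodeHeG.center_of_L34 h34, le_bot_iff] at hk
      exact ⟨MulEquiv.ofBijective g ⟨(MonoidHom.ker_eq_bot_iff g).mp hk, hg⟩⟩
  big := by
    intro x f J hT t ht htt E hE k h7 hA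
    have hEJ : E ≤ J := hE.le.trans inf_le_left
    rcases h x f J hT with ⟨F, _, _, ho, -, ⟨e⟩⟩ | h1 | h34
    · obtain ⟨M⟩ := hA.mod_of_card (α := Fin k) (S := (Finset.univ : Finset (Fin k))) (by simp) (by omega)
      exact (Supply.big_of_l2_seven (Rep.ofEquiv (two_ne_zero_of_odd ho) e) hEJ M (by simp; omega)).elim
    · exact h1
    · obtain ⟨M⟩ := hA.mod_of_card (α := Fin k) (S := (Finset.univ : Finset (Fin k))) (by simp) (by omega)
      exact (big_of_l34 hT h34 hEJ M (by simp; omega)).elim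
  small := by
    intro x f J hT
    rcases h x f J hT with ⟨F, _, _, ho, -, ⟨e⟩⟩ | ⟨m, -, h7, -, h1⟩ | h34
    · right
      intro t ht htJ htt E hE k h5 hA hx U hU hsq h4 hu
      exact small_of_l2 (Rep.ofEquiv (two_ne_zero_of_odd ho) e) hT.comp hE hU hsq h4
        fun u hu' => ⟨(hu u hu').1, (hu u hu').2.1, (hu u hu').2.2.2⟩
    · exact Or.inl ⟨m, h7, h1⟩
    · exact Or.inr (SmallLThree.small_of_l34 hT (NodeAnL34.isL34_quot h34))

/-- **node `NodeAnL`**: no triple of type `Aₙ`, `n ≥ 11`, in the world of `PSL₂(q)`, `Aₘ`, `L₃(4)` -/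
theorem nodeAnL_of_ft (FT : ∀ (G : Type u) [Group G] [Finite G], Functor.OddSol G) :
    UGT.Nodes.NodeAnL.{u} := by
  intro G _ _ hG hT x a L T n hn h11 hA
  have key : ∀ (x a : G) (L : Subgroup G), IsTriple x a L → ∀ n, Odd n → 13 ≤ n →
      ¬ IsAlt n (Bar L) :=
    fun x a L t n hn h13 => NodeAnL34.not_alt_of_ft (FT G) hG hT t hn h13
  rcases lt_or_ge n 13 with h1 | h1
  · have h2 : n = 11 := by
      obtain ⟨r, hr⟩ := hn
      omega
    subst h2
    refine Eleven.Final.final (FT G) hG (hyp11_of_types fun x a L t => ?_) T hA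
    rcases hT x a L t with h7 | ⟨k, h7, h8, h9⟩ | h7
    · exact Or.inl h7
    · refine Or.inr (Or.inl ⟨k, h7, h8, ?_, h9⟩)
      by_contra hlt
      refine key x a L t k h7 ?_ h9
      obtain ⟨r, hr⟩ := h7
      omega
    · exact Or.inr (Or.inr h7)
  · exact key x a L T n hn h1 hA

end Cfsg.Agent.UAlt.Eleven.NodeAnL
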