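import Cfsg.Agent.UAlt.Eleven.PermPart
import Cfsg.Agent.UAlt.Eleven.Frame
import Cfsg.Agent.UAlt.Rig

/-!
# Active 2-components, `n = 11`, (3.4) of #9985

* `Dih2`: two commuting dihedral groups of order 8.
* `ActJ`: an active 2-component `J` of `C(z)`, `z = v v'`.
* `ActJ.not_alt`: `J / O(J)` is not alternating of degree at most 11.
-/

set_option autoImplicit false
set_option linter.unusedSectionVars false

open Cfsg Equiv Equiv.Perm Subgroup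
open Cfsg.Agent.Intrinsic.Basic
open Cfsg.Agent.SignalizersComponents Cfsg.Agent.Lib
open Cfsg.Agent.SignalizersComponents.IntrinsicBasic
open Cfsg.Agent.UGT.Triple
open scoped commutatorElement

namespace Cfsg.Agent.UAlt.Eleven

/-- two commuting dihedral groups of order 8, with centres `⟨v⟩` and `⟨v'⟩` -/
structure Dih2 {H : Type*} [Group H] (s₁ s₂ s₃ s₄ v v' : H) : Prop where
  q₁ : s₁ * s₁ = 1
  q₂ : s₂ * s₂ = 1
  q₃ : s₃ * s₃ = 1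
  q₄ : s₄ * s₄ = 1
  qv : v * v = 1
  qv' : v' * v' = 1
  g : s₁ * s₂ * (s₁ * s₂) = v
  h : s₃ * s₄ * (s₃ * s₄) = v'
  c₁₃ : s₁ * s₃ = s₃ * s₁
  c₁₄ : s₁ * s₄ = s₄ * s₁
  c₂₃ : s₂ * s₃ = s₃ * s₂
  c₂₄ : s₂ * s₄ = s₄ * s₂

theorem Dih2.conj {H : Type*} [Group H] {s₁ s₂ s₃ s₄ v v' : H} (D : Dih2 s₁ s₂ s₃ s₄ v v') (r : H) :
    Dih2 (r * s₁ * r⁻¹) (r * s₂ * r⁻¹) (r * s₃ * r⁻¹) (r * s₄ * r⁻¹) (r * v * r⁻¹) (r * v' * r⁻¹) := by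
  have key : ∀ {x y : H}, x * y = y * x → r * x * r⁻¹ * (r * y * r⁻¹) = r * y * r⁻¹ * (r * x * r⁻¹) := by
    intro x y h
    rw [show r * x * r⁻¹ * (r * y * r⁻¹) = r * (x * y) * r⁻¹ by group, h]; group
  have key1 : ∀ {x : H}, x * x = 1 → r * x * r⁻¹ * (r * x * r⁻¹) = 1 := by
    intro x h
    rw [show r * x * r⁻¹ * (r * x * r⁻¹) = r * (x * x) * r⁻¹ by group, h]; group
  refine ⟨key1 D.q₁, key1 D.q₂, key1 D.q₃, key1 D.q₄, key1 D.qv, key1 D.qv', ?_, ?_, key D.c₁₃,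
    key D.c₁₄, key D.c₂₃, key D.c₂₄⟩
  · rw [← D.g]; group
  · rw [← D.h]; group

variable {G : Type*} [Group G]

/-- an active 2-component `J` -/
structure ActJ (a ρ s₁ s₂ s₃ s₄ v v' : G) (J : Subgroup G) : Prop where
  dih : Dih2 s₁ s₂ s₃ s₄ v v'
  n₁ : s₁ ∈ normalizer (J : Set G)
  n₂ : s₂ ∈ normalizer (J : Set G)
  n₃ : s₃ ∈ normalizer (J : Set G)
  n₄ : s₄ ∈ normalizer (J : Set G)
  m₁ : ρ * s₁ * ρ⁻¹ ∈ normalizer (J : Set G)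
  m₂ : ρ * s₂ * ρ⁻¹ ∈ normalizer (J : Set G)
  m₃ : ρ * s₃ * ρ⁻¹ ∈ normalizer (J : Set G)
  m₄ : ρ * s₄ * ρ⁻¹ ∈ normalizer (J : Set G)
  z : Fixes (v * v') J
  comm : ρ * (v * v') = v * v' * ρ
  hu : ρ * v * ρ⁻¹ = s₁ * s₂ * s₁ * s₄
  v_ne : ¬ Fixes v J
  v_ne' : ¬ Fixes (ρ * v * ρ⁻¹) J
  aa : a * a = 1
  na : a ∈ normalizer (J : Set G)
  a₁ : a * s₁ = s₁ * a
  a₂ : a * s₂ = s₂ * a
  a₃ : a * s₃ = s₃ * a
  a₄ : a * s₄ = s₄ * a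
  aρ : a * ρ = ρ * a
  star : ∀ Z, IsComp (J ⊓ centralizer ({a} : Set G)) Z → Fixes v Z

section

variable {α : Type*} [Fintype α] [DecidableEq α] {J : Subgroup G} {S : Finset α}
  {s₁ s₂ s₃ s₄ v v' : G}

/-- the labels on `J` of two commuting dihedral groups normalising `J`, `v v'` trivial on `J` -/
theorem Dih2.ext (D : Dih2 s₁ s₂ s₃ s₄ v v') (M : Mod J S) (n₁ : s₁ ∈ normalizer (J : Set G))
    (n₂ : s₂ ∈ normalizer (J : Set G)) (n₃ : s₃ ∈ normalizer (J : Set G))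
    (n₄ : s₄ ∈ normalizer (J : Set G)) (z : Fixes (v * v') J) :
    Ext (M.φ s₁) (M.φ s₂) (M.φ s₃) (M.φ s₄) (M.φ v) := by
  have hv : v ∈ normalizer (J : Set G) := by
    rw [← D.g]; exact mul_mem (mul_mem n₁ n₂) (mul_mem n₁ n₂)
  have hv' : v' ∈ normalizer (J : Set G) := by
    rw [← D.h]; exact mul_mem (mul_mem n₃ n₄) (mul_mem n₃ n₄)
  have e : M.φ v' = M.φ v := by
    have h1 := (M.fixes_iff z.1).mpr z
    rw [M.mul _ _ hv hv'] at h1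
    have h2 := M.sq hv D.qv
    exact (mul_left_cancel (h2.trans h1.symm)).symm
  refine ⟨M.sq n₁ D.q₁, M.sq n₂ D.q₂, M.sq n₃ D.q₃, M.sq n₄ D.q₄, M.sq hv D.qv, ?_, ?_,
    M.comm n₁ n₃ D.c₁₃, M.comm n₁ n₄ D.c₁₄, M.comm n₂ n₃ D.c₂₃, M.comm n₂ n₄ D.c₂₄⟩
  · rw [← M.mul _ _ n₁ n₂, ← M.mul _ _ (mul_mem n₁ n₂) (mul_mem n₁ n₂), D.g]
  · rw [← M.mul _ _ n₃ n₄, ← M.mul _ _ (mul_mem n₃ n₄) (mul_mem n₃ n₄), D.h, e]

theorem Mod.inv_of (M : Mod J S) (n₁ : s₁ ∈ normalizer (J : Set G))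
    (n₂ : s₂ ∈ normalizer (J : Set G)) (n₃ : s₃ ∈ normalizer (J : Set G))
    (n₄ : s₄ ∈ normalizer (J : Set G)) :
    Ext.Inv (M.φ s₁) (M.φ s₂) (M.φ s₃) (M.φ s₄) S := fun _ hy =>
  ⟨mem_of_mem_sym (M.mem_sym _ n₁) hy, mem_of_mem_sym (M.mem_sym _ n₂) hy,
    mem_of_mem_sym (M.mem_sym _ n₃) hy, mem_of_mem_sym (M.mem_sym _ n₄) hy⟩

/-- a nontrivial label moves a point -/
theorem Mod.exists_moved (M : Mod J S) {x : G} (hx : x ∈ normalizer (J : Set G)) (h : ¬ Fixes x J) :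
    ∃ y ∈ S, M.φ x y ≠ y := by
  by_contra hcon
  push Not at hcon
  apply h
  rw [← M.fixes_iff hx]
  ext y
  by_cases hy : y ∈ S
  · exact hcon y hy
  · exact M.mem_sym x hx y hy

/-- **FACT X for `Sym(7)`** and (3.4), `m = 7` -/
theorem Dih2.eight_le (D : Dih2 s₁ s₂ s₃ s₄ v v') (M : Mod J S) (n₁ : s₁ ∈ normalizer (J : Set G))
    (n₂ : s₂ ∈ normalizer (J : Set G)) (n₃ : s₃ ∈ normalizer (J : Set G))
    (n₄ : s₄ ∈ normalizer (J : Set G)) (z : Fixes (v * v') J) (hv : ¬ Fixes v J) : 8 ≤ S.card := by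
  have hvN : v ∈ normalizer (J : Set G) := by
    rw [← D.g]; exact mul_mem (mul_mem n₁ n₂) (mul_mem n₁ n₂)
  obtain ⟨y, hy, hvy⟩ := Mod.exists_moved M hvN hv
  exact ((D.ext M n₁ n₂ n₃ n₄ z).eight_le (Mod.inv_of M n₁ n₂ n₃ n₄) hy hvy).trans
    (Finset.card_le_card (Finset.filter_subset _ _))

/-- **(3.4)**, type `A_m` -/
theorem ActJ.not_alt [Finite G] {a ρ : G} (h : ActJ a ρ s₁ s₂ s₃ s₄ v v' J) (M : Mod J S)
    (h11 : S.card ≤ 11) : False := by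
  have D := h.dih
  have hvN : v ∈ normalizer (J : Set G) := by
    rw [← D.g]; exact mul_mem (mul_mem h.n₁ h.n₂) (mul_mem h.n₁ h.n₂)
  have D' := D.conj ρ
  have hwN : ρ * v * ρ⁻¹ ∈ normalizer (J : Set G) := by
    rw [← D'.g]; exact mul_mem (mul_mem h.m₁ h.m₂) (mul_mem h.m₁ h.m₂)
  have hz' : Fixes (ρ * v * ρ⁻¹ * (ρ * v' * ρ⁻¹)) J := by
    have e : ρ * v * ρ⁻¹ * (ρ * v' * ρ⁻¹) = v * v' := by
      rw [show ρ * v * ρ⁻¹ * (ρ * v' * ρ⁻¹) = ρ * (v * v') * ρ⁻¹ by group, h.comm]; group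
    rw [e]; exact h.z
  have E := D.ext M h.n₁ h.n₂ h.n₃ h.n₄ h.z
  have E' := D'.ext M h.m₁ h.m₂ h.m₃ h.m₄ hz'
  obtain ⟨y, hy, hvy⟩ := Mod.exists_moved M hvN h.v_ne
  obtain ⟨y', hy', hvy'⟩ := Mod.exists_moved M hwN h.v_ne'
  have hu : M.φ (ρ * v * ρ⁻¹) = M.φ s₂ * M.φ s₄ * M.φ v := by
    rw [h.hu, M.mul _ _ (mul_mem (mul_mem h.n₁ h.n₂) h.n₁) h.n₄,
      M.mul _ _ (mul_mem h.n₁ h.n₂) h.n₁, M.mul _ _ h.n₁ h.n₂]
    have h1 : M.φ s₁ * M.φ s₂ * M.φ s₁ = M.φ s₂ * M.φ v := by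
      have h2 := E.g
      calc M.φ s₁ * M.φ s₂ * M.φ s₁ = (M.φ s₁ * M.φ s₂ * (M.φ s₁ * M.φ s₂)) * M.φ s₂ := by
            rw [← mul_assoc, mul_assoc _ (M.φ s₂) (M.φ s₂), E.q₂, mul_one]
        _ = M.φ v * M.φ s₂ := by rw [h2]
        _ = M.φ s₂ * M.φ v := E.c₂
    rw [h1, mul_assoc, E.c₄, mul_assoc]
  have hac : ∀ s : G, a * s = s * a → a * (ρ * s * ρ⁻¹) = ρ * s * ρ⁻¹ * a := by
    intro s hs
    have h1 : Commute a ρ := h.aρ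
    have h2 : Commute a s := hs
    exact ((h1.mul_right h2).mul_right h1.inv_right)
  obtain ⟨p1, -, p3⟩ := Ext.pair E E' (Mod.inv_of M h.n₁ h.n₂ h.n₃ h.n₄)
    (Mod.inv_of M h.m₁ h.m₂ h.m₃ h.m₄) h11 (Or.inr hu) ⟨y, hy, hvy⟩ ⟨y', hy', hvy'⟩ (a := M.φ a)
    (fun y hy => mem_of_mem_sym (M.mem_sym _ h.na) hy) (M.sq h.na h.aa) (M.comm h.na h.n₁ h.a₁)
    (M.comm h.na h.n₂ h.a₂) (M.comm h.na h.n₃ h.a₃) (M.comm h.na h.n₄ h.a₄)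
    (M.comm h.na h.m₁ (hac _ h.a₁)) (M.comm h.na h.m₂ (hac _ h.a₂)) (M.comm h.na h.m₃ (hac _ h.a₃))
    (M.comm h.na h.m₄ (hac _ h.a₄))
  -- `a` fixes the eight points moved by `v`, so it has at least eight fixed points
  have hsub : Ext.mv (M.φ v) S ⊆ fixIn S (M.φ a) := by
    intro t ht
    exact mem_fixIn.mpr ⟨(Ext.mem_mv.mp ht).1, p3 t ht⟩
  have h8 := Finset.card_le_card hsub
  have hZ := M.isComp_cmp h.na h.aa (by omega)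
  have hf := h.star _ hZ
  exact hvy (M.apply_of_fixes_cmp h.na h.aa (by omega) hvN hf (hsub (Ext.mem_mv.mpr ⟨hy, hvy⟩)))

/-- FACT X for `L₂(q)`: `D8 ∘ D8` does not act faithfully on `L₂(q)`, `q` odd -/
def FactX (G : Type*) [Group G] : Prop :=
  ∀ {J : Subgroup G} {s₁ s₂ s₃ s₄ v v' : G}, Dih2 s₁ s₂ s₃ s₄ v v' → s₁ ∈ normalizer (J : Set G) →
    s₂ ∈ normalizer (J : Set G) → s₃ ∈ normalizer (J : Set G) → s₄ ∈ normalizer (J : Set G) →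
      Fixes (v * v') J → ¬ Fixes v J → UGT.Iface.IsL2 (↥J ⧸ oddCore ↥J) → False

/-- **(3.4)**: an active 2-component is not unbalanced -/
theorem ActJ.not_triple [Finite G] (H : Hyp11 G) (X : FactX G) {a ρ e f : G}
    (h : ActJ a ρ s₁ s₂ s₃ s₄ v v' J) (T : IsTriple e f J)
    (h34 : ¬ UGT.Iface.IsL34 (↥J ⧸ oddCore ↥J)) : False := by
  rcases H.types T with ⟨m, -, h7, h11, hA⟩ | hL | hL
  · obtain ⟨M⟩ := hA.mod_of_card (α := Fin m) (S := Finset.univ) (by simp) h7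
    exact h.not_alt M (by simpa using h11)
  · exact X h.dih h.n₁ h.n₂ h.n₃ h.n₄ h.z h.v_ne hL
  · exact h34 hL

end

end Cfsg.Agent.UAlt.Eleven
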