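import Cfsg.Agent.UAlt.Eleven.Iso

/-!
# `n = 11`, `xi = 0`: the 2-components of `C(z)`, `z = v v*`

`z` an involution of `L` with at most four fixed points.

* `Iso.fixes_zf` : (**) commuting roots `e`, `f` in `C_L(z)`: `e` is trivial on the 2-components of `C(z) ∩ C(f)`.
* `Iso.fixes_za` : the members of `C_L(z)` are trivial on the 2-components of `C(z) ∩ C(a)`.
* `D8r`, `DDuo` : dihedral groups of order 8 and pairs of commuting dihedral groups of order 8, generated by roots.
* `DDuo.active` : a 2-component `J` of `C(z)` on which `v` is not trivial is active.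
-/

set_option autoImplicit false
set_option linter.unusedSectionVars false

namespace Cfsg.Agent.UAlt

open Cfsg Equiv Equiv.Perm Subgroup
open Cfsg.Agent.Intrinsic.Basic Cfsg.Agent.Intrinsic Cfsg.Agent.Intrinsic.Cen Cfsg.Agent.Intrinsic.Diag
open Cfsg.Agent.SignalizersComponents Cfsg.Agent.Lib
open Cfsg.Agent.SignalizersComponents.IntrinsicBasic
open Cfsg.Agent.McLLyComp.Act
open Cfsg.Agent.UGT.Triple Cfsg.Agent.UGT.LemG Cfsg.Agent.UGT.PumpGen
open scoped commutatorElement

variable {G : Type*} [Group G] {α : Type*} [Fintype α] [DecidableEq α]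

section general

variable [Finite G]

/-- `e` fixing the 2-components of `C_X(f)` fixes the 2-components of `X` fixed by `f` -/
theorem fixes_al {X J : Subgroup G} {e f : G} (hJ : IsComp X J) (hf : f ∈ X) (hff : f * f = 1) (he : e ∈ X)
    (H : ∀ Z, IsComp (X ⊓ centralizer ({f} : Set G)) Z → Fixes e Z) (hfJ : Fixes f J) : Fixes e J :=
  fixes_of_cen hJ hf hff hfJ he (H _ (isComp_cen hJ hf hff hfJ).1)

/-- `e` fixing the 2-components of `C_X(f)`: on a 2-component `J` of `X` moved by `f`, `e` is trivial or acts like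
`f` -/
theorem fixes_be {X J : Subgroup G} {e f : G} (hJ : IsComp X J) (hf : f ∈ X) (hff : f * f = 1) (he : e ∈ X)
    (hef : e * f = f * e) (H : ∀ Z, IsComp (X ⊓ centralizer ({f} : Set G)) Z → Fixes e Z)
    (hne : IntrinsicBasic.cj f J ≠ J) :
    IntrinsicBasic.cj e J = IntrinsicBasic.cj f J ∨ Fixes e J := by
  obtain ⟨h1, -, -, h4, -⟩ := exists_diag hJ hf hff hne
  have h5 := H _ h1
  have hcomm : IntrinsicBasic.cj e (IntrinsicBasic.cj f J) = IntrinsicBasic.cj f (IntrinsicBasic.cj e J) := by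
    rw [← IntrinsicBasic.cj_mul, hef, IntrinsicBasic.cj_mul]
  by_cases h6 : IntrinsicBasic.cj e J = J
  · right
    refine fixes_of_comm_diag hJ hf hff hne he (mem_normalizer_iff_cj.mpr h6)
      (mem_normalizer_iff_cj.mpr (by rw [hcomm, h6])) fun m hm => ?_
    have h7 := h5.2 m hm
    rw [h4] at h7
    exact h7.2
  by_cases h7 : IntrinsicBasic.cj e J = IntrinsicBasic.cj f J
  · exact Or.inl h7
  · exfalso
    have h8 : IntrinsicBasic.cj f (IntrinsicBasic.cj e J) ≠ IntrinsicBasic.cj e J := by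
      rw [← hcomm]
      exact fun h => hne (cj_injective e h)
    apply diag_ne hJ hf hff hne (isComp_cj_of_mem hJ he) h8 h6 h7
    have h9 := cj_diag e X J f
    rw [hef, mul_inv_cancel_right, cj_eq_self_of_mem he, mem_normalizer_iff_cj.mp h5.1] at h9
    exact h9.symm

end general

section

variable [Finite G] {L : Subgroup G} {Ω : Finset α} {M : Mod L Ω} {a : G}

/-- **(**)** -/
theorem Iso.fixes_zf (h : Iso M a) {z e f : G} (hz : z ∈ L) (hzz : z * z = 1)
    (h5 : (fixIn Ω (M.φ z)).card < 5) (he : M.Rt e) (hf : M.Rt f) (hef : e * f = f * e)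
    (hez : e * z = z * e) (hfz : f * z = z * f) {Z : Subgroup G}
    (hZ : IsComp (centralizer ({z} : Set G) ⊓ centralizer ({f} : Set G)) Z) : Fixes e Z := by
  obtain ⟨K, hK⟩ := h.exists_K hf
  rw [inf_comm] at hZ
  obtain ⟨I, hI, -, hor⟩ := McLLyComp.PumpT.exists_pump (mem_c hfz.symm) hzz hZ
  have hne : I ≠ K := by
    rintro rfl
    rcases hor with ⟨-, hle⟩ | ⟨h1, -⟩
    · refine hK.no_comp h hf hz hzz hfz.symm (lt_of_le_of_lt (Finset.card_le_card ?_) h5)
        (isComp_inf hZ hI hle)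
      intro p hp
      rw [mem_fixIn, mem_fixIn] at hp
      exact mem_fixIn.mpr ⟨hp.1.1, hp.2⟩
    · exact h1 (mem_normalizer_iff_cj.mp (hK.mem_norm h hf hz hfz.symm))
  have h1 : Fixes e I := h.fixes_other hf he hef.symm hK hI hne
  exact fixes_of_pump hzz hfz hZ hI (mem_c hef) (mem_c hez) h1 (hor.imp (fun h => h.2) id)

/-- the members of `C_L(z)` are trivial on the 2-components of `C(z) ∩ C(a)` -/
theorem Iso.fixes_za (h : Iso M a) {z e : G} (hz : z ∈ L) (hzz : z * z = 1)
    (h5 : (fixIn Ω (M.φ z)).card < 5) (he : e ∈ L) (hez : e * z = z * e) {Z : Subgroup G}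
    (hZ : IsComp (centralizer ({z} : Set G) ⊓ centralizer ({a} : Set G)) Z) : Fixes e Z := by
  rw [inf_comm] at hZ
  obtain ⟨I, hI, -, hor⟩ := McLLyComp.PumpT.exists_pump (mem_c (h.comm_a hz)) hzz hZ
  have hne : I ≠ L := by
    rintro rfl
    rcases hor with ⟨-, hle⟩ | ⟨h1, -⟩
    · have h1 := ((M.isComp_iff_cmp (le_normalizer hz) hzz).mp (isComp_inf hZ hI hle)).2
      omega
    · exact h1 (cj_eq_self_of_mem hz)
  have h1 : Fixes e I := hI.fixes_of_mem h.comp hne he
  exact fixes_of_pump hzz (h.comm_a hz).symm hZ hI (mem_c (h.comm_a he)) (mem_c hez) h1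
    (hor.imp (fun h => h.2) id)

end

/-! ### dihedral groups generated by roots -/

section duo

variable {L : Subgroup G} {Ω : Finset α}

/-- `⟨u, h⟩` is a dihedral group of order 8 with centre `⟨v⟩`, all of whose involutions are roots -/
structure D8r (M : Mod L Ω) (v u h : G) : Prop where
  rv : M.Rt v
  ru : M.Rt u
  rh : M.Rt h
  ruv : M.Rt (u * v)
  rhv : M.Rt (h * v)
  rel : u * h * (u * h) = v

/-- `⟨u, h⟩`, `⟨t, k⟩` are commuting dihedral groups generated by roots, `z = v w` -/
structure DDuo (M : Mod L Ω) (z v u h w t k : G) : Prop where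
  d1 : D8r M v u h
  d2 : D8r M w t k
  ut : u * t = t * u
  uk : u * k = k * u
  ht : h * t = t * h
  hk : h * k = k * h
  eq : z = v * w

variable {M : Mod L Ω} {z v u h w t k : G}

namespace D8r

theorem hu (D : D8r M v u h) : h * u = u * (h * v) := by
  have h1 : u * h * (u * h) = v := D.rel
  have huu : u * u = 1 := D.ru.2.1
  have hhh : h * h = 1 := D.rh.2.1
  have hvv : v * v = 1 := D.rv.2.1
  have hui : u⁻¹ = u := inv_eq_of_mul_eq_one_left huu
  have hhi : h⁻¹ = h := inv_eq_of_mul_eq_one_left hhh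
  have hvi : v⁻¹ = v := inv_eq_of_mul_eq_one_left hvv
  -- `v = (uh)²`, `v⁻¹ = (hu)²`
  have h2 : h * u * (h * u) = v := by
    have h3 : (u * h * (u * h))⁻¹ = v := by rw [h1, hvi]
    simp only [mul_inv_rev, hui, hhi] at h3
    simpa only [mul_assoc] using h3
  calc h * u = u * (u * h) * u := by rw [← mul_assoc, huu, one_mul]
    _ = u * (h * (h * u * (h * u))) := by
      simp only [← mul_assoc]
      rw [mul_assoc u h h, hhh, mul_one]
    _ = u * (h * v) := by rw [h2]

theorem uv (D : D8r M v u h) : u * v = v * u := by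
  have h1 : u * v * (u * v) = 1 := D.ruv.2.1
  have huu : u * u = 1 := D.ru.2.1
  have hvv : v * v = 1 := D.rv.2.1
  calc u * v = u * v * (u * v) * (v * u) := by
        simp only [mul_assoc]
        rw [← mul_assoc v v u, hvv, one_mul, huu, mul_one]
    _ = v * u := by rw [h1, one_mul]

theorem hv (D : D8r M v u h) : h * v = v * h := by
  have h1 : h * v * (h * v) = 1 := D.rhv.2.1
  have hhh : h * h = 1 := D.rh.2.1
  have hvv : v * v = 1 := D.rv.2.1
  calc h * v = h * v * (h * v) * (v * h) := by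
        simp only [mul_assoc]
        rw [← mul_assoc v v h, hvv, one_mul, hhh, mul_one]
    _ = v * h := by rw [h1, one_mul]

/-- the members of `⟨u, h⟩` -/
theorem cases (D : D8r M v u h) {g : G} (hg : g ∈ closure ({u, h} : Set G)) :
    (g = 1 ∨ g = v) ∨ (g = u ∨ g = u * v) ∨ ((g = h ∨ g = h * v) ∨ (g = u * h ∨ g = u * h * v)) := by
  have huu : u * u = 1 := D.ru.2.1
  have hhh : h * h = 1 := D.rh.2.1
  have hvv : v * v = 1 := D.rv.2.1
  have hhu := D.hu
  have huv := D.uv
  have hhv := D.hv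
  have key : ∀ x, x = u ∨ x = h → ∀ y, ((y = 1 ∨ y = v) ∨ (y = u ∨ y = u * v) ∨
      ((y = h ∨ y = h * v) ∨ (y = u * h ∨ y = u * h * v))) → ((x * y = 1 ∨ x * y = v) ∨
      (x * y = u ∨ x * y = u * v) ∨ ((x * y = h ∨ x * y = h * v) ∨ (x * y = u * h ∨ x * y = u * h * v))) := by
    rintro x (rfl | rfl) y ((rfl | rfl) | (rfl | rfl) | ((rfl | rfl) | (rfl | rfl)))
    · right; left; left; rw [mul_one]
    · right; left; right; rfl
    · left; left; exact huu
    · left; right; rw [← mul_assoc, huu, one_mul]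
    · right; right; right; left; rfl
    · right; right; right; right; rw [mul_assoc]
    · right; right; left; left; rw [← mul_assoc, huu, one_mul]
    · right; right; left; right; rw [mul_assoc, ← mul_assoc, huu, one_mul]
    · right; right; left; left; rw [mul_one]
    · right; right; left; right; rfl
    · right; right; right; right; rw [hhu, mul_assoc]
    · right; right; right; left
      rw [← mul_assoc, hhu, mul_assoc, mul_assoc, hvv, mul_one]
    · left; left; exact hhh
    · left; right; rw [← mul_assoc, hhh, one_mul]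
    · right; left; right
      rw [← mul_assoc, hhu, mul_assoc, mul_assoc, ← hhv, ← mul_assoc x x v, hhh, one_mul]
    · right; left; left
      rw [← mul_assoc, ← mul_assoc, hhu, mul_assoc, mul_assoc, mul_assoc x v, ← mul_assoc v x v, ← hhv,
        mul_assoc x v v, hvv, mul_one, hhh, mul_one]
  refine closure_induction_left (p := fun g _ => (g = 1 ∨ g = v) ∨ (g = u ∨ g = u * v) ∨
    ((g = h ∨ g = h * v) ∨ (g = u * h ∨ g = u * h * v))) ?_ ?_ ?_ hg
  · exact Or.inl (Or.inl rfl)
  · intro x hx y _ hy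
    exact key x hx y hy
  · intro x hx y _ hy
    have h1 : x⁻¹ = x := by
      rcases hx with rfl | rfl
      · exact inv_eq_of_mul_eq_one_left huu
      · exact inv_eq_of_mul_eq_one_left hhh
    rw [h1]
    exact key x hx y hy

/-- a member of `⟨u, h⟩` different from `1`, `v` does not commute with `u` or does not commute with `h` -/
theorem comm_ne (D : D8r M v u h) {g : G} (hg : g ∈ closure ({u, h} : Set G)) :
    (g = 1 ∨ g = v) ∨ ⁅g, u⁆ = v ∨ ⁅g, h⁆ = v := by
  have huu : u * u = 1 := D.ru.2.1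
  have hhh : h * h = 1 := D.rh.2.1
  have hvv : v * v = 1 := D.rv.2.1
  have hhu := D.hu
  have huv := D.uv
  have hhv := D.hv
  have hui : u⁻¹ = u := inv_eq_of_mul_eq_one_left huu
  have hhi : h⁻¹ = h := inv_eq_of_mul_eq_one_left hhh
  have hvi : v⁻¹ = v := inv_eq_of_mul_eq_one_left hvv
  have c1 : ⁅u, h⁆ = v := by
    rw [commutatorElement_def, hui, hhi, mul_assoc]
    exact D.rel
  have c2 : ⁅h, u⁆ = v := by
    rw [← commutatorElement_inv, c1, hvi]
  -- multiplication by the central element `v`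
  have c3 : ∀ {g x : G}, x * v = v * x → ⁅g * v, x⁆ = ⁅g, x⁆ := by
    intro g x hx
    rw [commutatorElement_def, commutatorElement_def, mul_inv_rev]
    calc g * v * x * (v⁻¹ * g⁻¹) * x⁻¹ = g * (v * x) * v⁻¹ * g⁻¹ * x⁻¹ := by group
      _ = g * (x * v) * v⁻¹ * g⁻¹ * x⁻¹ := by rw [hx]
      _ = g * x * g⁻¹ * x⁻¹ := by group
  have c4 : ⁅u * h, u⁆ = v := by
    rw [commutatorElement_def, mul_inv_rev, hui, hhi]
    calc u * h * u * (h * u) * u = u * h * (u * h) * (u * u) := by group
      _ = v := by rw [huu, mul_one, D.rel]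
  rcases D.cases hg with h1 | (rfl | rfl) | ((rfl | rfl) | (rfl | rfl))
  · exact Or.inl h1
  · exact Or.inr (Or.inr c1)
  · exact Or.inr (Or.inr (by rw [c3 hhv, c1]))
  · exact Or.inr (Or.inl c2)
  · exact Or.inr (Or.inl (by rw [c3 huv, c2]))
  · exact Or.inr (Or.inl c4)
  · exact Or.inr (Or.inl (by rw [c3 huv, c4]))

theorem v_mem (D : D8r M v u h) : v ∈ closure ({u, h} : Set G) := by
  rw [← D.rel]
  have h1 : u * h ∈ closure ({u, h} : Set G) :=
    mul_mem (subset_closure (Or.inl rfl)) (subset_closure (Or.inr rfl))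
  exact mul_mem h1 h1

theorem comm_of (D : D8r M v u h) {x : G} (h1 : u * x = x * u) (h2 : h * x = x * h) : v * x = x * v := by
  have h3 : ∀ y ∈ closure ({u, h} : Set G), y * x = x * y := by
    intro y hy
    have h4 : closure ({u, h} : Set G) ≤ centralizer ({x} : Set G) := by
      rw [closure_le]
      rintro y (rfl | rfl)
      · exact mem_c h1
      · exact mem_c h2
    exact comm_c (h4 hy)
  exact h3 v D.v_mem

end D8r

namespace DDuo

variable (D : DDuo M z v u h w t k)

include D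

theorem symm : DDuo M z w t k v u h where
  d1 := D.d2
  d2 := D.d1
  ut := D.ut.symm
  uk := D.ht.symm
  ht := D.uk.symm
  hk := D.hk.symm
  eq := by
    rw [D.eq]
    exact D.d1.comm_of (D.d2.comm_of D.ut.symm D.uk.symm).symm (D.d2.comm_of D.ht.symm D.hk.symm).symm

theorem vt : v * t = t * v := D.d1.comm_of D.ut D.ht

theorem vk : v * k = k * v := D.d1.comm_of D.uk D.hk

theorem vw : v * w = w * v := (D.d2.comm_of D.vt.symm D.vk.symm).symm

theorem uw : u * w = w * u := (D.d2.comm_of D.ut.symm D.uk.symm).symm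

theorem hw : h * w = w * h := (D.d2.comm_of D.ht.symm D.hk.symm).symm

theorem uz : u * z = z * u := by rw [D.eq, ← mul_assoc, D.d1.uv, mul_assoc, D.uw, ← mul_assoc]

theorem hz : h * z = z * h := by rw [D.eq, ← mul_assoc, D.d1.hv, mul_assoc, D.hw, ← mul_assoc]

theorem vz : v * z = z * v := by rw [D.eq, mul_assoc, D.vw]

theorem uvz : u * v * z = z * (u * v) := by rw [mul_assoc, D.vz, ← mul_assoc, D.uz, mul_assoc]

theorem hvz : h * v * z = z * (h * v) := by rw [mul_assoc, D.vz, ← mul_assoc, D.hz, mul_assoc]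

theorem z_mem : z ∈ L := by
  rw [D.eq]
  exact mul_mem D.d1.rv.1 D.d2.rv.1

theorem zz : z * z = 1 := by
  rw [D.eq, mul_assoc, ← mul_assoc w v w, ← D.vw, mul_assoc v w w, D.d2.rv.2.1, mul_one, D.d1.rv.2.1]

end DDuo

end duo

section active

variable [Finite G] {L : Subgroup G} {Ω : Finset α} {M : Mod L Ω} {a : G} {z v u h w t k : G}

/-- one half of `DDuo.active` -/
theorem DDuo.active_aux (H : Iso M a) (D : DDuo M z v u h w t k) (h5 : (fixIn Ω (M.φ z)).card < 5)
    {J : Subgroup G} (hJ : IsComp (centralizer ({z} : Set G)) J) (hv : ¬ Fixes v J) :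
    (¬ Fixes w J ∧ ¬ Fixes u J ∧ ¬ Fixes h J) ∧
      (u ∈ normalizer (J : Set G) ∧ h ∈ normalizer (J : Set G)) ∧
      (∀ r ∈ closure ({u, h} : Set G), ∀ s, s * u = u * s → s * h = h * s → s ∈ normalizer (J : Set G) →
        Fixes (r * s) J → r = 1 ∨ r = v) := by
  have hz := D.z_mem
  have hzz := D.zz
  -- (al) for `v`
  have al : ∀ {e : G}, M.Rt e → e * v = v * e → e * z = z * e → ¬ Fixes e J := by
    intro e he hev hez hf
    exact hv (fixes_al hJ (mem_c hez) he.vv (mem_c D.vz)
      (fun Z hZ => H.fixes_zf hz hzz h5 D.d1.rv he hev.symm D.vz hez hZ) hf)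
  have n1 : ∀ {f : G}, M.Rt f → M.Rt (f * v) → f * v = v * f → f * z = z * f → f * v * z = z * (f * v) →
      f ∈ normalizer (J : Set G) := by
    intro f hf hfv hc hfz hfvz
    rw [mem_normalizer_iff_cj]
    by_contra hne
    have b1 := fixes_be hJ (mem_c hfz) hf.vv (mem_c D.vz) hc.symm
      (fun Z hZ => H.fixes_zf hz hzz h5 D.d1.rv hf hc.symm D.vz hfz hZ) hne
    have hc' : f * v * f = f * (f * v) := by rw [mul_assoc, ← hc]
    have b2 := fixes_be hJ (mem_c hfz) hf.vv (mem_c hfvz) hc'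
      (fun Z hZ => H.fixes_zf hz hzz h5 hfv hf hc' hfvz hfz hZ) hne
    have b1' := b1.resolve_right hv
    have b2' := b2.resolve_right (al hfv (by rw [mul_assoc, D.d1.rv.vv, mul_one, ← mul_assoc, ← hc, mul_assoc,
      D.d1.rv.vv, mul_one]) hfvz)
    rw [IntrinsicBasic.cj_mul, b1', ← IntrinsicBasic.cj_mul, hf.vv, cj_one] at b2'
    exact hne b2'.symm
  have hu := n1 D.d1.ru D.d1.ruv D.d1.uv D.uz D.uvz
  have hh := n1 D.d1.rh D.d1.rhv D.d1.hv D.hz D.hvz
  refine ⟨⟨al D.d2.rv D.vw.symm D.symm.vz, al D.d1.ru D.d1.uv D.uz, al D.d1.rh D.d1.hv D.hz⟩, ⟨hu, hh⟩, ?_⟩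
  intro r hr s hsu hsh hsJ hf
  -- `⁅r s, x⁆ = ⁅r, x⁆`
  have key : ∀ x, x * s = s * x → x ∈ normalizer (J : Set G) → ⁅r, x⁆ ≠ v := by
    intro x hxs hx hrx
    apply hv
    have h1 : ⁅r * s, x⁆ = ⁅r, x⁆ := by
      rw [commutatorElement_def, commutatorElement_def, mul_inv_rev]
      calc r * s * x * (s⁻¹ * r⁻¹) * x⁻¹ = r * (s * x) * s⁻¹ * r⁻¹ * x⁻¹ := by group
        _ = r * (x * s) * s⁻¹ * r⁻¹ * x⁻¹ := by rw [hxs]
        _ = r * x * r⁻¹ * x⁻¹ := by group
    rw [← hrx, ← h1, commutatorElement_def]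
    have h2 : Fixes (x * (r * s)⁻¹ * x⁻¹) J := fixes_conj (fixes_inv hf) hx
    have h3 := fixes_mul hf h2
    have e : r * s * (x * (r * s)⁻¹ * x⁻¹) = r * s * x * (r * s)⁻¹ * x⁻¹ := by group
    rwa [e] at h3
  rcases D.d1.comm_ne hr with h1 | h1 | h1
  · exact h1
  · exact absurd h1 (key u hsu.symm hu)
  · exact absurd h1 (key h hsh.symm hh)

/-- **an active 2-component**: `v` not trivial on `J` -/
theorem DDuo.active (H : Iso M a) (D : DDuo M z v u h w t k) (h5 : (fixIn Ω (M.φ z)).card < 5)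
    {J : Subgroup G} (hJ : IsComp (centralizer ({z} : Set G)) J) (hv : ¬ Fixes v J) :
    closure ({u, h, t, k} : Set G) ≤ normalizer (J : Set G) ∧
      (∀ g ∈ closure ({u, h, t, k} : Set G), Fixes g J → g = 1 ∨ g = z) ∧
      a ∈ normalizer (J : Set G) ∧ ¬ Fixes a J := by
  obtain ⟨⟨a1, a2, a3⟩, ⟨a4, a5⟩, a6⟩ := D.active_aux H h5 hJ hv
  obtain ⟨⟨b1, b2, b3⟩, ⟨b4, b5⟩, b6⟩ := D.symm.active_aux H h5 hJ a1
  have hP : closure ({u, h, t, k} : Set G) = closure ({u, h} : Set G) ⊔ closure ({t, k} : Set G) := by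
    rw [← Subgroup.closure_union]
    congr 1
    ext x
    simp only [Set.mem_insert_iff, Set.mem_singleton_iff, Set.mem_union]
    tauto
  have hn1 : closure ({u, h} : Set G) ≤ normalizer (J : Set G) := by
    rw [closure_le]
    rintro x (rfl | rfl)
    exacts [a4, a5]
  have hn2 : closure ({t, k} : Set G) ≤ normalizer (J : Set G) := by
    rw [closure_le]
    rintro x (rfl | rfl)
    exacts [b4, b5]
  have hvJ : v ∈ normalizer (J : Set G) := hn1 D.d1.v_mem
  -- the two groups commute
  have hc1 : ∀ x ∈ closure ({t, k} : Set G), x * u = u * x ∧ x * h = h * x := by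
    intro x hx
    have h1 : closure ({t, k} : Set G) ≤ centralizer ({u} : Set G) ⊓ centralizer ({h} : Set G) := by
      rw [closure_le]
      rintro x (rfl | rfl)
      · exact ⟨mem_c D.ut.symm, mem_c D.ht.symm⟩
      · exact ⟨mem_c D.uk.symm, mem_c D.hk.symm⟩
    exact ⟨comm_c (h1 hx).1, comm_c (h1 hx).2⟩
  have hc2 : ∀ x ∈ closure ({t, k} : Set G), ∀ y ∈ closure ({u, h} : Set G), x * y = y * x := by
    intro x hx y hy
    have h1 : closure ({u, h} : Set G) ≤ centralizer ({x} : Set G) := by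
      rw [closure_le]
      rintro y (rfl | rfl)
      · exact mem_c (hc1 x hx).1.symm
      · exact mem_c (hc1 x hx).2.symm
    exact (comm_c (h1 hy)).symm
  refine ⟨?_, ?_, ?_⟩
  · rw [hP]
    exact sup_le hn1 hn2
  · intro g hg hf
    rw [hP] at hg
    have hle : closure ({u, h} : Set G) ≤ normalizer (closure ({t, k} : Set G) : Set G) := by
      intro y hy
      rw [mem_normalizer_iff_cj]
      apply le_antisymm
      · rintro x hx
        rw [mem_cj] at hx
        have h1 := hc2 _ hx y hy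
        have h2 : x = y⁻¹ * x * y := by
          have h3 : y * (y⁻¹ * x * y) = (y⁻¹ * x * y) * y := h1.symm
          have h4 : x * y = y⁻¹ * x * y * y := by rw [← h3]; group
          exact mul_right_cancel h4
        rw [h2]; exact hx
      · intro x hx
        rw [mem_cj]
        have h1 := hc2 x hx y hy
        rw [mul_assoc, h1]
        simpa using hx
    have hg' : g ∈ ((closure ({u, h} : Set G) ⊔ closure ({t, k} : Set G) : Subgroup G) : Set G) := hg
    rw [Subgroup.coe_mul_of_left_le_normalizer_right _ _ hle] at hg'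
    obtain ⟨r, hr, s, hs, hrs⟩ := hg'
    have hrs' : r * s = g := hrs
    rw [← hrs'] at hf ⊢
    have h1 := a6 r hr s (hc1 s hs).1 (hc1 s hs).2 (hn2 hs) hf
    have hsr : s * r = r * s := hc2 s hs r hr
    rw [← hsr] at hf
    have hrt : r * t = t * r := (hc2 t (subset_closure (Or.inl rfl)) r hr).symm
    have hrk : r * k = k * r := (hc2 k (subset_closure (Or.inr rfl)) r hr).symm
    have h2 := b6 s hs r hrt hrk (hn1 hr) hf
    rcases h1 with rfl | rfl <;> rcases h2 with rfl | rfl
    · left; rw [mul_one]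
    · rw [mul_one] at hf
      exact absurd hf a1
    · rw [one_mul] at hf
      exact absurd hf hv
    · right; exact D.eq.symm
  · have haz : a * z = z * a := (H.comm_a D.z_mem).symm
    have hva : v * a = a * v := H.comm_a D.d1.rv.1
    have hB : ∀ Z, IsComp (centralizer ({z} : Set G) ⊓ centralizer ({a} : Set G)) Z → Fixes v Z :=
      fun Z hZ => H.fixes_za D.z_mem D.zz h5 D.d1.rv.1 D.vz hZ
    have h1 : ¬ Fixes a J := fun hf => hv (fixes_al hJ (mem_c haz) H.aa (mem_c D.vz) hB hf)
    refine ⟨?_, h1⟩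
    rw [mem_normalizer_iff_cj]
    by_contra hne
    have h2 := (fixes_be hJ (mem_c haz) H.aa (mem_c D.vz) hva hB hne).resolve_right hv
    rw [mem_normalizer_iff_cj.mp hvJ] at h2
    exact hne h2.symm

/-- **the inactive case**: if `v` is trivial on `J`, all roots commuting with `v` and `z` are -/
theorem Iso.inactive (H : Iso M a) {z v e : G} (hz : z ∈ L) (hzz : z * z = 1) (h5 : (fixIn Ω (M.φ z)).card < 5)
    {J : Subgroup G} (hJ : IsComp (centralizer ({z} : Set G)) J) (hv : M.Rt v) (he : M.Rt e)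
    (hvz : v * z = z * v) (hez : e * z = z * e) (hev : e * v = v * e) (hf : Fixes v J) : Fixes e J :=
  fixes_al hJ (mem_c hvz) hv.vv (mem_c hez) (fun _ hZ => H.fixes_zf hz hzz h5 he hv hev hez hvz hZ) hf

end active

end Cfsg.Agent.UAlt
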