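import Cfsg.Agent.UAlt.CaseDE

/-!
# Case D for `n = 11`: permutations of three points
-/

set_option autoImplicit false
set_option linter.unusedSectionVars false

namespace Cfsg.Agent.UAlt

open Equiv Equiv.Perm Subgroup
open Cfsg.Agent.StdAlt.PermTypes (cyc)
open Cfsg.Agent.StdAlt (four4)
open Cfsg.Agent.StdAlt.Roots (IsRoot)

variable {α : Type*} [Fintype α] [DecidableEq α]

namespace Three

theorem fin_inv : ∀ s d : Perm (Fin 3), sign s = -1 → sign d = 1 → s * d * s⁻¹ = d⁻¹ := by decide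

theorem fin_cases : ∀ d e : Perm (Fin 3), sign d = 1 → sign e = 1 → d ≠ 1 →
    e = 1 ∨ e = d ∨ e = d⁻¹ := by decide

theorem fin_comm : ∀ d e : Perm (Fin 3), sign d = 1 → sign e = 1 → d * e = e * d := by decide

theorem fin_cube : ∀ d : Perm (Fin 3), sign d = 1 → d * d * d = 1 := by decide

theorem fin_cent : ∀ d k : Perm (Fin 3), sign d = 1 → d ≠ 1 → k * k = 1 → k * d = d * k → k = 1 := by
  decide

theorem fin_exists : ∃ d : Perm (Fin 3), sign d = 1 ∧ d ≠ 1 := by decide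

/-- the permutations of three points -/
theorem exists_equiv {F : Finset α} (hF : F.card = 3) :
    ∃ e : ↥(sym F) ≃* Perm (Fin 3), ∀ σ : ↥(sym F), sign (e σ) = sign (σ : Perm α) := by
  have e0 : F ≃ Fin 3 := Finset.equivFinOfCardEq hF
  refine ⟨(symEquiv F).symm.trans e0.permCongrHom, fun σ => ?_⟩
  obtain ⟨τ, rfl⟩ := (symEquiv F).surjective σ
  rw [MulEquiv.trans_apply, MulEquiv.symm_apply_apply, symEquiv_coe]
  change sign (e0.permCongr τ) = _
  rw [Equiv.Perm.sign_permCongr]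
  rw [Equiv.Perm.sign_ofSubtype]

variable {F : Finset α}

theorem transfer (hF : F.card = 3) : ∃ f : Perm α → Perm (Fin 3),
    (∀ σ ∈ sym F, ∀ τ ∈ sym F, f σ = f τ → σ = τ) ∧ f 1 = 1 ∧
    (∀ σ ∈ sym F, ∀ τ ∈ sym F, f (σ * τ) = f σ * f τ) ∧ (∀ σ ∈ sym F, f σ⁻¹ = (f σ)⁻¹) ∧
    (∀ σ ∈ sym F, sign (f σ) = sign σ) ∧ ∀ τ, ∃ σ ∈ sym F, f σ = τ := by
  classical
  obtain ⟨e, he⟩ := exists_equiv hF
  refine ⟨fun σ => if h : σ ∈ sym F then e ⟨σ, h⟩ else 1, ?_, ?_, ?_, ?_, ?_, ?_⟩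
  · intro σ hσ τ hτ h
    simp only [hσ, hτ, dif_pos] at h
    exact congrArg Subtype.val (e.injective h)
  · simp only [one_mem, dif_pos]
    exact map_one e
  · intro σ hσ τ hτ
    simp only [hσ, hτ, mul_mem hσ hτ, dif_pos]
    exact map_mul e ⟨σ, hσ⟩ ⟨τ, hτ⟩
  · intro σ hσ
    simp only [hσ, inv_mem hσ, dif_pos]
    exact map_inv e ⟨σ, hσ⟩
  · intro σ hσ
    simp only [hσ, dif_pos]
    exact he ⟨σ, hσ⟩
  · intro τ
    refine ⟨e.symm τ, (e.symm τ).2, ?_⟩
    simp only [SetLike.coe_mem, dif_pos]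
    exact e.apply_symm_apply τ

theorem sign_alt {σ : Perm α} (hσ : σ ∈ alt F) : sign σ = 1 := hσ.1

theorem inv_of_odd (hF : F.card = 3) {s : Perm α} (hs : s ∈ sym F) (hs1 : sign s = -1) {d : Perm α}
    (hd : d ∈ alt F) : s * d * s⁻¹ = d⁻¹ := by
  obtain ⟨f, f1, f2, f3, f4, f5, -⟩ := transfer hF
  have hd' := alt_le_sym _ hd
  apply f1 _ (mul_mem (mul_mem hs hd') (inv_mem hs)) _ (inv_mem hd')
  rw [f3 _ (mul_mem hs hd') _ (inv_mem hs), f3 _ hs _ hd', f4 _ hs, f4 _ hd']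
  exact fin_inv _ _ (by rw [f5 _ hs, hs1]) (by rw [f5 _ hd', sign_alt hd])

theorem cases' (hF : F.card = 3) {d e : Perm α} (hd : d ∈ alt F) (he : e ∈ alt F) (hd1 : d ≠ 1) :
    e = 1 ∨ e = d ∨ e = d⁻¹ := by
  obtain ⟨f, f1, f2, f3, f4, f5, -⟩ := transfer hF
  have hd' := alt_le_sym _ hd
  have he' := alt_le_sym _ he
  rcases fin_cases (f d) (f e) (by rw [f5 _ hd', sign_alt hd]) (by rw [f5 _ he', sign_alt he])
    (fun h => hd1 (f1 _ hd' _ (one_mem _) (by rw [h, f2]))) with h | h | h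
  · exact Or.inl (f1 _ he' _ (one_mem _) (by rw [h, f2]))
  · exact Or.inr (Or.inl (f1 _ he' _ hd' h))
  · exact Or.inr (Or.inr (f1 _ he' _ (inv_mem hd') (by rw [h, f4 _ hd'])))

theorem comm (hF : F.card = 3) {d e : Perm α} (hd : d ∈ alt F) (he : e ∈ alt F) : d * e = e * d := by
  obtain ⟨f, f1, f2, f3, f4, f5, -⟩ := transfer hF
  have hd' := alt_le_sym _ hd
  have he' := alt_le_sym _ he
  apply f1 _ (mul_mem hd' he') _ (mul_mem he' hd')
  rw [f3 _ hd' _ he', f3 _ he' _ hd']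
  exact fin_comm _ _ (by rw [f5 _ hd', sign_alt hd]) (by rw [f5 _ he', sign_alt he])

theorem cube (hF : F.card = 3) {d : Perm α} (hd : d ∈ alt F) : d * d * d = 1 := by
  obtain ⟨f, f1, f2, f3, f4, f5, -⟩ := transfer hF
  have hd' := alt_le_sym _ hd
  apply f1 _ (mul_mem (mul_mem hd' hd') hd') _ (one_mem _)
  rw [f3 _ (mul_mem hd' hd') _ hd', f3 _ hd' _ hd', f2]
  exact fin_cube _ (by rw [f5 _ hd', sign_alt hd])

theorem sq_eq_one (hF : F.card = 3) {d : Perm α} (hd : d ∈ alt F) (h : d * d = 1) : d = 1 := by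
  have h1 := cube hF hd
  rwa [h, one_mul] at h1

theorem inv_eq (hF : F.card = 3) {d : Perm α} (hd : d ∈ alt F) : d⁻¹ * d⁻¹ = d := by
  have h1 := cube hF hd
  have h2 : d * d = d⁻¹ := eq_inv_of_mul_eq_one_left h1
  rw [← mul_inv_rev, h2, inv_inv]

theorem ne_inv (hF : F.card = 3) {d : Perm α} (hd : d ∈ alt F) (h1 : d ≠ 1) : d ≠ d⁻¹ := by
  intro h
  apply h1
  refine sq_eq_one hF hd ?_
  conv_lhs => rw [h]
  nth_rewrite 2 [← h]
  exact inv_mul_cancel d

theorem cent (hF : F.card = 3) {d k : Perm α} (hd : d ∈ alt F) (hd1 : d ≠ 1) (hk : k ∈ sym F)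
    (hkk : k * k = 1) (h : k * d = d * k) : k = 1 := by
  obtain ⟨f, f1, f2, f3, f4, f5, -⟩ := transfer hF
  have hd' := alt_le_sym _ hd
  apply f1 _ hk _ (one_mem _)
  rw [f2]
  refine fin_cent (f d) (f k) (by rw [f5 _ hd', sign_alt hd])
    (fun h => hd1 (f1 _ hd' _ (one_mem _) (by rw [h, f2]))) ?_ ?_
  · rw [← f3 _ hk _ hk, hkk, f2]
  · rw [← f3 _ hk _ hd', ← f3 _ hd' _ hk, h]

theorem exists_ne (hF : F.card = 3) : ∃ d ∈ alt F, d ≠ 1 := by
  obtain ⟨f, f1, f2, f3, f4, f5, f6⟩ := transfer hF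
  obtain ⟨d, hd, hd1⟩ := fin_exists
  obtain ⟨σ, hσ, rfl⟩ := f6 d
  refine ⟨σ, ⟨mem_alternatingGroup.mpr (by rw [← f5 _ hσ, hd]), hσ⟩, ?_⟩
  rintro rfl
  exact hd1 f2

/-- an involution inverting `alt F` and commuting with a root -/
theorem exists_inverting {G : Type*} [Group G] {L : Subgroup G} {Ω S : Finset α} {M : Mod L Ω}
    {v : G} (hF : F.card = 3) (hr : Root M S v) (hd : Disjoint F S) :
    ∃ σ ∈ alt (F ∪ S), σ * σ = 1 ∧ M.φ v * σ = σ * M.φ v ∧ ∀ δ ∈ alt F, σ * δ * σ⁻¹ = δ⁻¹ := by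
  obtain ⟨a, b, c, d, hnd, hS, hφ⟩ := hr.exists_swap
  obtain ⟨⟨m1, m2, m3⟩, ⟨m4, m5⟩, m6⟩ := StdAlt.PermTypes.of_nodup_four hnd
  obtain ⟨p, hp, q, hq, hpq⟩ : ∃ p ∈ F, ∃ q ∈ F, p ≠ q :=
    Finset.one_lt_card.mp (by omega)
  have ha : a ∈ S := by rw [hS]; exact StdAlt.mem_four4.mpr (Or.inl rfl)
  have hb : b ∈ S := by rw [hS]; exact StdAlt.mem_four4.mpr (Or.inr (Or.inl rfl))
  have hc : c ∈ S := by rw [hS]; exact StdAlt.mem_four4.mpr (Or.inr (Or.inr (Or.inl rfl)))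
  have hd' : d ∈ S := by rw [hS]; exact StdAlt.mem_four4.mpr (Or.inr (Or.inr (Or.inr rfl)))
  have hne : ∀ {x y : α}, x ∈ F → y ∈ S → x ≠ y := fun hx hy e =>
    Finset.disjoint_left.mp hd hx (e ▸ hy)
  have hsF : swap p q ∈ sym F := by
    intro x hx
    exact swap_apply_of_ne_of_ne (fun e => hx (e ▸ hp)) (fun e => hx (e ▸ hq))
  have hsS : ∀ {x y : α}, x ∈ S → y ∈ S → swap x y ∈ sym S := by
    intro x y hx hy z hz
    exact swap_apply_of_ne_of_ne (fun e => hz (e ▸ hx)) (fun e => hz (e ▸ hy))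
  have hcomm : ∀ {f g : Perm α}, f ∈ sym F → g ∈ sym S → f * g = g * f := fun {f g} hf hg =>
    comm_of_fix (T := S) (fun x hx => hf x (Finset.disjoint_right.mp hd hx)) hg
  have e1 : swap p q * swap a b = swap a b * swap p q := hcomm hsF (hsS ha hb)
  have e2 : swap p q * swap c d = swap c d * swap p q := hcomm hsF (hsS hc hd')
  have e3 : swap a b * swap c d = swap c d * swap a b := by
    refine comm_of_fix (T := {c, d}) (fun x hx => ?_) (fun x hx => ?_)
    · rcases Finset.mem_insert.mp hx with h | h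
      · rw [h]; exact swap_apply_of_ne_of_ne m2.symm m4.symm
      · rw [Finset.mem_singleton.mp h]; exact swap_apply_of_ne_of_ne m3.symm m5.symm
    · exact swap_apply_of_ne_of_ne (fun e => hx (by rw [e]; simp)) (fun e => hx (by rw [e]; simp))
  refine ⟨swap p q * swap a b, ⟨?_, ?_⟩, ?_, ?_, ?_⟩
  · refine mem_alternatingGroup.mpr ?_
    rw [Perm.sign_mul, sign_swap hpq, sign_swap m1]; rfl
  · exact mul_mem (sym_mono Finset.subset_union_left hsF)
      (sym_mono Finset.subset_union_right (hsS ha hb))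
  · calc swap p q * swap a b * (swap p q * swap a b)
        = swap p q * (swap a b * swap p q) * swap a b := by group
      _ = (swap p q * swap p q) * (swap a b * swap a b) := by rw [← e1]; group
      _ = 1 := by rw [swap_mul_self, swap_mul_self, one_mul]
  · rw [hφ]
    calc swap a b * swap c d * (swap p q * swap a b)
        = swap a b * (swap c d * swap p q) * swap a b := by group
      _ = (swap a b * swap p q) * (swap c d * swap a b) := by rw [← e2]; group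
      _ = swap p q * swap a b * (swap a b * swap c d) := by rw [← e1, ← e3]
  · intro δ hδ
    have e4 : swap a b * δ = δ * swap a b := (hcomm (alt_le_sym _ hδ) (hsS ha hb)).symm
    calc swap p q * swap a b * δ * (swap p q * swap a b)⁻¹
        = swap p q * (swap a b * δ) * (swap a b)⁻¹ * (swap p q)⁻¹ := by group
      _ = swap p q * δ * (swap p q)⁻¹ := by rw [e4]; group
      _ = δ⁻¹ := inv_of_odd hF hsF (sign_swap hpq) hδ

end Three

end Cfsg.Agent.UAlt
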