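import Cfsg.Agent.UAlt.Eleven.CaseDA

/-!
# Case D for `n = 11`: elements of `C(v, w)` acting on `K_v`, `K_v^a`; (4.1)
-/

set_option autoImplicit false
set_option linter.unusedSectionVars false

namespace Cfsg.Agent.UAlt

open Cfsg Equiv Equiv.Perm Subgroup
open Cfsg.Agent.Intrinsic.Basic Cfsg.Agent.Intrinsic
open Cfsg.Agent.Intrinsic.Cen Cfsg.Agent.Intrinsic.Diag
open Cfsg.Agent.SignalizersComponents Cfsg.Agent.Lib
open Cfsg.Agent.SignalizersComponents.IntrinsicBasic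
open Cfsg.Agent.SignalizersComponents.IntrinsicIntr
open Cfsg.Agent.SignalizersComponents.PLayerAut
open Cfsg.Agent.UGT.Triple Cfsg.Agent.UGT.LemG
open scoped commutatorElement

variable {G : Type*} [Group G] {α : Type*} [Fintype α] [DecidableEq α]
variable {L : Subgroup G} {Ω S T F : Finset α}

section

variable [Finite G] {M : Mod L Ω} {a v w : G}

namespace DD

variable {Kv : Subgroup G} {Mv : Mod Kv (Ω \ S)}

/-- members of `C_L(v)^∞` are trivial on the 2-components of `C(v)` other than `K_v`, `K_v^a` -/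
theorem fixes_other (h : DD M a S v Kv Mv) (hL : IsComp (centralizer ({a} : Set G)) L)
    (ha : a * a = 1) {J : Subgroup G} (hJ : IsComp (centralizer ({v} : Set G)) J) (h1 : J ≠ Kv)
    (h2 : J ≠ cj a Kv) {m : G} (hm : m ∈ M.cmp v) : Fixes m J := by
  have haC := h.aC hL
  rw [h.eq] at hm
  obtain ⟨h3, -⟩ := exists_diag h.comp haC ha h.ne
  exact fixes_of_comm_core hJ (h3.le hm).1 fun j hj =>
    comm_diag_of_ne h.comp haC ha h.ne hJ h1 h2 hm hj

/-- elements commuting with `v` and a member of `C_L(v)^∞` which is nontrivial on `L` permute `K_v`, `K_v^a` -/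
theorem pair_cj (h : DD M a S v Kv Mv) (hL : IsComp (centralizer ({a} : Set G)) L)
    (ha : a * a = 1) {m : G} (hm : m ∈ M.cmp v) (hm1 : M.φ m ≠ 1) {g : G} (hgv : g * v = v * g)
    (hgm : g * m = m * g) : cj g Kv = Kv ∨ cj g Kv = cj a Kv := by
  by_contra hcon
  push Not at hcon
  have hJ := isComp_cj_of_mem h.comp (mem_c hgv)
  have h1 := (h.fixes_other hL ha hJ hcon.1 hcon.2 hm).cj g⁻¹
  have e1 : g⁻¹ * m * g⁻¹⁻¹ = m := by
    rw [inv_inv, mul_assoc, ← hgm, inv_mul_cancel_left]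
  rw [e1, cj_inv_cj] at h1
  apply hm1
  rw [← h.agree m hm]
  exact (Mv.fixes_iff h1.1).mpr h1

/-- squares normalize `K_v` -/
theorem cj_sq (h : DD M a S v Kv Mv) (hL : IsComp (centralizer ({a} : Set G)) L)
    (ha : a * a = 1) {m : G} (hm : m ∈ M.cmp v) (hm1 : M.φ m ≠ 1) {g : G} (hgv : g * v = v * g)
    (hgm : g * m = m * g) : g * g ∈ normalizer (Kv : Set G) := by
  rw [mem_normalizer_iff_cj, IntrinsicBasic.cj_mul]
  rcases h.pair_cj hL ha hm hm1 hgv hgm with e | e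
  · rw [e, e]
  · rw [e]
    rcases (h.swap hL ha).pair_cj hL ha hm hm1 hgv hgm with e' | e'
    · exfalso
      rw [← e] at e'
      exact h.ne (e.symm.trans (cj_injective _ e'))
    · rw [e', ← IntrinsicBasic.cj_mul, ha, cj_one]

/-- elements of odd order normalize `K_v` -/
theorem odd_norm (h : DD M a S v Kv Mv) (hL : IsComp (centralizer ({a} : Set G)) L)
    (ha : a * a = 1) {m : G} (hm : m ∈ M.cmp v) (hm1 : M.φ m ≠ 1) {g : G} (hgv : g * v = v * g)
    (hgm : g * m = m * g) (ho : Odd (orderOf g)) : g ∈ normalizer (Kv : Set G) := by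
  obtain ⟨j, hj⟩ := ho
  have h1 : g = (g * g) ^ (j + 1) := by
    have h2 := pow_orderOf_eq_one g
    rw [hj] at h2
    calc g = g ^ (2 * j + 1) * g := by rw [h2, one_mul]
      _ = g ^ (2 * (j + 1)) := by rw [← pow_succ]; congr 1
      _ = (g * g) ^ (j + 1) := by rw [pow_mul, pow_two]
  rw [h1]
  exact pow_mem (h.cj_sq hL ha hm hm1 hgv hgm) _

/-- compatibility of the labels -/
theorem label (h : DD M a S v Kv Mv) (hΩ : 11 ≤ Ω.card) {g : G}
    (hL : IsComp (centralizer ({a} : Set G)) L) (ha : a * a = 1)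
    (hg : g ∈ normalizer (L : Set G)) (hgv : g * v = v * g) (hgK : g ∈ normalizer (Kv : Set G))
    {y : α} (hy : y ∈ Ω \ S) : Mv.φ g y = M.φ g y := by
  have hr := h.root
  have h5 : 5 ≤ (fixIn Ω (M.φ v)).card := by rw [hr.card_fix]; omega
  have hc := M.mem_normalizer_cmp hr.memN hg hgv
  have key : ∀ σ ∈ alt (Ω \ S), ((M.φ g)⁻¹ * Mv.φ g) * σ = σ * ((M.φ g)⁻¹ * Mv.φ g) := by
    intro σ hσ
    obtain ⟨m, hm, rfl⟩ := M.cmp_lift hr.memN hr.sq h5 (by rw [hr.fixIn_eq]; exact hσ)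
    have hmg : g * m * g⁻¹ ∈ M.cmp v := (mem_normalizer_iff.mp hc m).mp hm
    have e1 := h.agree _ hmg
    rw [Mv.conj hgK (h.memN hL ha hm), h.agree m hm, M.conj hg (le_normalizer (M.cmp_le v hm))] at e1
    calc (M.φ g)⁻¹ * Mv.φ g * M.φ m
        = (M.φ g)⁻¹ * (Mv.φ g * M.φ m * (Mv.φ g)⁻¹) * Mv.φ g := by group
      _ = (M.φ g)⁻¹ * (M.φ g * M.φ m * (M.φ g)⁻¹) * Mv.φ g := by rw [e1]
      _ = _ := by group
  have h1 := apply_of_comm_alt (S := Ω \ S) (by rw [hr.card_sdiff]; omega) key hy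
  rw [Perm.mul_apply, Perm.inv_eq_iff_eq] at h1
  exact h1

end DD

/-- the configuration: `v`, `w` commuting roots with disjoint supports `S`, `T`, `F` the other three points -/
structure Two (M : Mod L Ω) (a v w : G) (S T F : Finset α) (Kv Kw : Subgroup G)
    (Mv : Mod Kv (Ω \ S)) (Mw : Mod Kw (Ω \ T)) : Prop where
  card : Ω.card = 11
  comp : IsComp (centralizer ({a} : Set G)) L
  aa : a * a = 1
  dv : DD M a S v Kv Mv
  dw : DD M a T w Kw Mw
  disj : Disjoint S T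
  vw : v * w = w * v
  hF : F = (Ω \ S) \ T

namespace Two

variable {Kv Kw : Subgroup G} {Mv : Mod Kv (Ω \ S)} {Mw : Mod Kw (Ω \ T)}

theorem symm (h : Two M a v w S T F Kv Kw Mv Mw) : Two M a w v T S F Kw Kv Mw Mv where
  card := h.card
  comp := h.comp
  aa := h.aa
  dv := h.dw
  dw := h.dv
  disj := h.disj.symm
  vw := h.vw.symm
  hF := by rw [h.hF]; ext y; simp only [Finset.mem_sdiff]; tauto

theorem swapV (h : Two M a v w S T F Kv Kw Mv Mw) :
    Two M a v w S T F (cj a Kv) Kw (Mv.cj a) Mw :=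
  { h with dv := h.dv.swap h.comp h.aa }

section

variable (h : Two M a v w S T F Kv Kw Mv Mw)

include h

theorem cardF : F.card = 3 := by
  have h1 : T ⊆ Ω \ S := fun y hy => Finset.mem_sdiff.mpr
    ⟨h.dw.root.sub hy, Finset.disjoint_right.mp h.disj hy⟩
  rw [h.hF, Finset.card_sdiff_of_subset h1, Finset.card_sdiff_of_subset h.dv.root.sub, h.card,
    h.dv.root.card, h.dw.root.card]

theorem FS : Disjoint F S := by
  rw [h.hF, Finset.disjoint_left]
  exact fun y hy => (Finset.mem_sdiff.mp (Finset.mem_sdiff.mp hy).1).2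

theorem FT : Disjoint F T := h.symm.FS

theorem sub : F ⊆ Ω \ S := by rw [h.hF]; exact Finset.sdiff_subset

theorem w_mem : w ∈ M.cmp v := h.dv.root.mem_cmp_root h.dw.root h.vw h.disj

theorem w_ne : M.φ w ≠ 1 := h.dw.root.φ_ne_one

theorem wN : w ∈ normalizer (Kv : Set G) := h.dv.memN h.comp h.aa h.w_mem

theorem w_label : Mv.φ w = M.φ w := h.dv.agree w h.w_mem

theorem fixIn_w : fixIn (Ω \ S) (Mv.φ w) = F := by
  rw [h.w_label, h.hF]
  exact fixIn_sdiff h.dw.root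

theorem ww : w * w = 1 := h.dw.root.sq

theorem wa : w * a = a * w := comm_of_comp h.comp h.dw.root.mem

theorem va : v * a = a * v := comm_of_comp h.comp h.dv.root.mem

theorem ai : a⁻¹ = a := inv_eq_of_mul_eq_one_left h.aa

theorem sub_union : F ∪ T ⊆ Ω \ S := by
  refine Finset.union_subset h.sub fun y hy => Finset.mem_sdiff.mpr
    ⟨h.dw.root.sub hy, Finset.disjoint_right.mp h.disj hy⟩

/-- an involution of `K_v` commuting with `w` and inverting `alt F` -/
theorem exists_s : ∃ s ∈ Kv, s * s = 1 ∧ s * w = w * s ∧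
    ∀ δ ∈ alt F, Mv.φ s * δ * (Mv.φ s)⁻¹ = δ⁻¹ := by
  obtain ⟨σ, hσ, hσσ, hσw, hσi⟩ := Three.exists_inverting h.cardF h.dw.root h.FT
  rw [← h.w_label] at hσw
  obtain ⟨s, hs, hss, hws, rfl⟩ := Mv.exists_inv_lift h.wN (n := 1)
    (by rw [pow_one, pow_two]; exact h.ww) (alt_mono h.sub_union hσ) hσσ hσw
  exact ⟨s, hs, hss, hws.symm, hσi⟩

/-- an element of `K_v` commuting with `w` with prescribed label -/
theorem exists_A {δ : Perm α} (hδ : δ ∈ alt F) : ∃ g ∈ Kv, g * w = w * g ∧ Mv.φ g = δ := by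
  obtain ⟨g, hg, hgw, hgδ⟩ := Mv.exists_comm_lift h.wN (n := 1)
    (by rw [pow_one, pow_two]; exact h.ww) (σ := δ) (alt_mono h.sub hδ) (by
      rw [h.w_label]
      exact (comm_of_fix (T := T) (fun y hy => hδ.2 y (Finset.disjoint_right.mp h.FT hy))
        (fun y hy => h.dw.root.apply_eq hy)).symm)
  exact ⟨g, hg, hgw.symm, hgδ⟩

theorem odd_norm {g : G} (hgv : g * v = v * g) (hgw : g * w = w * g) (ho : Odd (orderOf g)) :
    g ∈ normalizer (Kv : Set G) :=
  h.dv.odd_norm h.comp h.aa h.w_mem h.w_ne hgv hgw ho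

/-- odd normal subgroups of `C(v, w)` act on `K_v` inside `alt F` -/
theorem core_le_norm {D : Subgroup G} (ho : Odd (Nat.card D))
    (hDle : D ≤ centralizer ({v} : Set G) ⊓ centralizer ({w} : Set G)) :
    D ≤ normalizer (Kv : Set G) := fun g hg =>
  h.odd_norm (comm_c (hDle hg).1) (comm_c (hDle hg).2)
    (Odd.of_dvd_nat ho (Subgroup.orderOf_dvd_natCard _ hg))

theorem core_alt {D : Subgroup G} (ho : Odd (Nat.card D))
    (hDle : D ≤ centralizer ({v} : Set G) ⊓ centralizer ({w} : Set G))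
    (hn : ∀ g, g * v = v * g → g * w = w * g → ∀ d ∈ D, g * d * g⁻¹ ∈ D) {d : G} (hd : d ∈ D) :
    Mv.φ d ∈ alt F := by
  rw [← h.fixIn_w]
  refine UAlt.core_cent_le (Mv.mem_sym w h.wN) (Mv.sq h.wN h.ww) ?_
  refine Mv.phi_mem_core h.wN h.ww ho (h.core_le_norm ho hDle) (fun e he => comm_c (hDle he).2)
    (fun k hk hkw => hn k (comm_c (h.dv.comp.le hk)) hkw) d hd

/-- **(4.1)** `O(C(w)) ∩ C(v)` is trivial on `K_v` -/
theorem Y_triv {y : G} (hy : y ∈ core (centralizer ({w} : Set G))) (hyv : y * v = v * y) :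
    y ∈ normalizer (Kv : Set G) ∧ Mv.φ y = 1 := by
  have hai := h.ai
  obtain ⟨Y, hY⟩ : ∃ Y, Y = core (centralizer ({w} : Set G)) ⊓ centralizer ({v} : Set G) := ⟨_, rfl⟩
  have hodd : Odd (Nat.card Y) := Odd.of_dvd_nat (odd_card_core (centralizer ({w} : Set G)))
    (by rw [hY]; exact card_dvd_of_le inf_le_left)
  have hYle : Y ≤ centralizer ({v} : Set G) ⊓ centralizer ({w} : Set G) := by
    rw [hY]
    exact le_inf inf_le_right (inf_le_left.trans (core_le _))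
  have hn : ∀ g, g * v = v * g → g * w = w * g → ∀ d ∈ Y, g * d * g⁻¹ ∈ Y := by
    intro g hgv hgw d hd
    rw [hY] at hd ⊢
    exact ⟨conj_core (mem_c hgw) hd.1,
      Subgroup.mul_mem _ (Subgroup.mul_mem _ (mem_c hgv) hd.2) (Subgroup.inv_mem _ (mem_c hgv))⟩
  have hYN := h.core_le_norm hodd hYle
  have hYa : ∀ d ∈ Y, a * d * a⁻¹ ∈ Y := fun d hd => hn a h.va.symm h.wa.symm d hd
  have halt : ∀ d ∈ Y, Mv.φ d ∈ alt F := fun d hd => h.core_alt hodd hYle hn hd
  have hyY : y ∈ Y := by rw [hY]; exact ⟨hy, mem_c hyv⟩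
  refine ⟨hYN hyY, ?_⟩
  -- elements commuting with `a`
  have hCa : ∀ d ∈ Y, d * a = a * d → Mv.φ d = 1 := by
    intro d hd hda
    have hL := h.comp
    have hwr := h.dw.root
    have h5 : 5 ≤ (fixIn Ω (M.φ w)).card := by rw [hwr.card_fix, h.card]; omega
    have hE : IsComp (centralizer ({a} : Set G) ⊓ centralizer ({w} : Set G)) (M.cmp w) :=
      M.isComp_cmp_of hL hwr.memN hwr.sq h5
    have hDN : core (centralizer ({w} : Set G)) ⊓ centralizer ({a} : Set G) ≤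
        normalizer (L : Set G) := by
      rintro e ⟨he, hea⟩
      have h1 := inf_le_core he hea
      have h2 : e ∈ normalizer (M.cmp w : Set G) := (hE.fixes_of_core h1).1
      rw [mem_normalizer_iff_cj]
      refine hE.unique (isComp_cj_of_mem hL hea) hL ?_ (M.cmp_le w)
      rw [← mem_normalizer_iff_cj.mp h2]
      exact cj_mono (M.cmp_le w)
    have hdD : d ∈ core (centralizer ({w} : Set G)) ⊓ centralizer ({a} : Set G) := by
      rw [hY] at hd
      exact ⟨hd.1, mem_c hda⟩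
    have hf : Fixes d L := by
      refine M.fixes_of_odd hwr.memN hwr.sq (by rw [hwr.card_fix, h.card]; omega)
        (Odd.of_dvd_nat (odd_card_core (centralizer ({w} : Set G))) (card_dvd_of_le inf_le_left))
        hDN (fun e he => comm_c ((core_le _) he.1)) (fun k hk hkw e he => ?_) hdD
      have hka : k ∈ centralizer ({a} : Set G) := hL.le hk
      exact ⟨conj_core (mem_c hkw) he.1, Subgroup.mul_mem _ (Subgroup.mul_mem _ hka he.2)
        (Subgroup.inv_mem _ hka)⟩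
    have h1 : M.φ d = 1 := (M.fixes_iff hf.1).mpr hf
    ext z
    by_cases hz : z ∈ Ω \ S
    · rw [h.dv.label (by rw [h.card]) hL h.aa hf.1 (comm_c (hYle hd).1) (hYN hd) hz, h1]
    · exact Mv.mem_sym d (hYN hd) z hz
  -- `φ(y) φ(y^a) = 1`
  have hprod : ∀ d ∈ Y, Mv.φ d * Mv.φ (a * d * a⁻¹) = 1 := by
    intro d hd
    have haad : ∀ e : G, a * (a * e * a⁻¹) * a⁻¹ = e := by
      intro e
      calc a * (a * e * a⁻¹) * a⁻¹ = (a * a) * e * (a * a)⁻¹ := by group
        _ = e := by rw [h.aa]; group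
    let Y₀ : Subgroup G :=
      { carrier := {e | e ∈ Y ∧ Mv.φ e = 1 ∧ Mv.φ (a * e * a⁻¹) = 1}
        mul_mem' := fun {e f} he hf => ⟨mul_mem he.1 hf.1, by
          rw [Mv.mul _ _ (hYN he.1) (hYN hf.1), he.2.1, hf.2.1, one_mul], by
          have e1 : a * (e * f) * a⁻¹ = (a * e * a⁻¹) * (a * f * a⁻¹) := by group
          rw [e1, Mv.mul _ _ (hYN (hYa _ he.1)) (hYN (hYa _ hf.1)), he.2.2, hf.2.2, one_mul]⟩
        one_mem' := ⟨one_mem _, Mv.one, by rw [mul_one, mul_inv_cancel, Mv.one]⟩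
        inv_mem' := fun {e} he => ⟨inv_mem he.1, by rw [Mv.inv (hYN he.1), he.2.1, inv_one], by
          have e1 : a * e⁻¹ * a⁻¹ = (a * e * a⁻¹)⁻¹ := by group
          rw [e1, Mv.inv (hYN (hYa _ he.1)), he.2.2, inv_one]⟩ }
    have hY₀ : Odd (Nat.card Y₀) := Odd.of_dvd_nat hodd (card_dvd_of_le fun e he => he.1)
    have haY₀ : a ∈ normalizer (Y₀ : Set G) := by
      have key : ∀ e ∈ Y₀, a * e * a⁻¹ ∈ Y₀ := fun e he =>
        ⟨hYa e he.1, he.2.2, by rw [haad]; exact he.2.1⟩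
      rw [mem_normalizer_iff]
      refine fun e => ⟨key e, fun h1 => ?_⟩
      have h2 := key _ h1
      rwa [haad] at h2
    have hd' := hYa d hd
    obtain ⟨m, hm⟩ : ∃ m, m = d * (a * d * a⁻¹) := ⟨_, rfl⟩
    have hmY : m ∈ Y := hm ▸ mul_mem hd hd'
    have ham : a * m * a⁻¹ = (a * d * a⁻¹) * d := by
      calc a * m * a⁻¹ = (a * d * a⁻¹) * (a * (a * d * a⁻¹) * a⁻¹) := by rw [hm]; group
        _ = _ := by rw [haad]
    have e1 : Mv.φ m = Mv.φ d * Mv.φ (a * d * a⁻¹) := by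
      rw [hm, Mv.mul _ _ (hYN hd) (hYN hd')]
    have e2 : Mv.φ (a * m * a⁻¹) = Mv.φ (a * d * a⁻¹) * Mv.φ d := by
      rw [ham, Mv.mul _ _ (hYN hd') (hYN hd)]
    have e3 := Three.comm h.cardF (halt d hd) (halt _ hd')
    have hmem : m⁻¹ * (a * m * a⁻¹) ∈ Y₀ := by
      refine ⟨mul_mem (inv_mem hmY) (hYa m hmY), ?_, ?_⟩
      · rw [Mv.mul _ _ (hYN (inv_mem hmY)) (hYN (hYa m hmY)), Mv.inv (hYN hmY), e1, e2, e3,
          inv_mul_cancel]
      · have e4 : a * (m⁻¹ * (a * m * a⁻¹)) * a⁻¹ = (a * m * a⁻¹)⁻¹ * m := by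
          calc a * (m⁻¹ * (a * m * a⁻¹)) * a⁻¹
              = (a * m * a⁻¹)⁻¹ * (a * (a * m * a⁻¹) * a⁻¹) := by group
            _ = _ := by rw [haad]
        rw [e4, Mv.mul _ _ (hYN (inv_mem (hYa m hmY))) (hYN hmY), Mv.inv (hYN (hYa m hmY)), e1, e2,
          e3, inv_mul_cancel]
    obtain ⟨o, ho, hoa⟩ := Lifting.exists_commute (n := 1) hY₀
      (by rw [pow_one, pow_two]; exact h.aa) haY₀ hmem
    have h1 := hCa (m * o) (mul_mem hmY ho.1) hoa.symm
    rw [Mv.mul _ _ (hYN hmY) (hYN ho.1), ho.2.1, mul_one, e1] at h1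
    exact h1
  -- conjugation by `s`
  obtain ⟨s, hs, hss, hsw, hsi⟩ := h.exists_s
  have hsv : s * v = v * s := comm_c (h.dv.comp.le hs)
  have hy₂ := hn s hsv hsw y hyY
  have hsa : Fixes (a * s * a⁻¹) Kv := by
    refine h.dv.comp.fixes_of_mem (isComp_cj_of_mem h.dv.comp (mem_c h.va.symm)) ?_ (conj_mem_cj hs)
    exact h.dv.ne.symm
  have e1 : Mv.φ (s * y * s⁻¹) = (Mv.φ y)⁻¹ := by
    rw [Mv.conj (le_normalizer hs) (hYN hyY)]
    exact hsi _ (halt y hyY)
  have e2 : Mv.φ (a * (s * y * s⁻¹) * a⁻¹) = Mv.φ (a * y * a⁻¹) := by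
    have e3 : a * (s * y * s⁻¹) * a⁻¹ = (a * s * a⁻¹) * (a * y * a⁻¹) * (a * s * a⁻¹)⁻¹ := by group
    rw [e3, Mv.conj hsa.1 (hYN (hYa y hyY)), (Mv.fixes_iff hsa.1).mpr hsa]
    group
  have e3 := hprod _ hy₂
  rw [e1, e2, inv_mul_eq_one] at e3
  have e4 := hprod y hyY
  rw [← e3] at e4
  exact Three.sq_eq_one h.cardF (halt y hyY) e4

end

end Two

end

end Cfsg.Agent.UAlt
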