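import Cfsg.Agent.UAlt.Eleven.CaseDB

/-!
# Case D for `n = 11`: (4.2)
-/

set_option autoImplicit false
set_option linter.unusedSectionVars false

namespace Cfsg.Agent.UAlt

open Cfsg Equiv Equiv.Perm Subgroup
open Cfsg.Agent.Intrinsic.Basic Cfsg.Agent.Intrinsic
open Cfsg.Agent.Intrinsic.Cen Cfsg.Agent.Intrinsic.Diag
open Cfsg.Agent.SignalizersComponents Cfsg.Agent.Lib
open Cfsg.Agent.SignalizersComponents.IntrinsicBasic
open Cfsg.Agent.SignalizersComponents.IntrinsicIntr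
open Cfsg.Agent.SignalizersComponents.PLayerAut
open Cfsg.Agent.UGT.Triple Cfsg.Agent.UGT.LemG
open scoped commutatorElement

variable {G : Type*} [Group G] {α : Type*} [Fintype α] [DecidableEq α]
variable {L : Subgroup G} {Ω S T F : Finset α}

section

variable [Finite G] {M : Mod L Ω} {a v w : G}

theorem core_inf_le_core {X K : Subgroup G} (hK : IsComp X K) (t : G) :
    core (K ⊓ centralizer ({t} : Set G)) ≤ core (X ⊓ centralizer ({t} : Set G)) := by
  rw [core_eq_inf_of_subnormal (H := X ⊓ centralizer ({t} : Set G)) (inf_le_inf_right _ hK.le)]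
  · exact inf_le_right
  · have h1 := hK.2.1.comap (Subgroup.inclusion (inf_le_left : X ⊓ centralizer ({t} : Set G) ≤ X))
    convert h1 using 1
    ext x
    simp only [mem_subgroupOf, mem_comap, mem_inf, coe_inclusion]
    exact ⟨fun h => h.1, fun h => ⟨h, x.2.2⟩⟩

namespace Two

variable {Kv Kw : Subgroup G} {Mv : Mod Kv (Ω \ S)} {Mw : Mod Kw (Ω \ T)}

/-- the linking property: `A` acts on `K_v` and `K_v^a` as `(δ, 1)` -/
def Lk (v a : G) (F : Finset α) (Kv Kw : Subgroup G) (Mv : Mod Kv (Ω \ S))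
    (Mw : Mod Kw (Ω \ T)) : Prop :=
  ∀ g ∈ Kw, g * v = v * g → Mw.φ g ∈ alt F → Mv.φ g = Mw.φ g ∧ Mv.φ (a * g * a⁻¹) = 1

section

variable (h : Two M a v w S T F Kv Kw Mv Mw)

include h

/-- the group `A ≤ K_v` -/
theorem A_core {g : G} (hg : g ∈ Kv) (hgw : g * w = w * g) (hl : Mv.φ g ∈ alt F) :
    g ∈ core (centralizer ({v} : Set G) ⊓ centralizer ({w} : Set G)) := by
  have hle : Mv.pre w ≤ Kv ⊓ centralizer ({w} : Set G) := fun k hk => by
    obtain ⟨h1, h2, -⟩ := Mv.mem_pre.mp hk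
    exact ⟨h1, mem_c h2.symm⟩
  have hA : Mv.pre w ≤ core (Kv ⊓ centralizer ({w} : Set G)) := by
    refine le_core hle ?_ ?_
    · intro g hg
      have key : ∀ g ∈ Kv ⊓ centralizer ({w} : Set G), ∀ k ∈ Mv.pre w, g * k * g⁻¹ ∈ Mv.pre w := by
        intro g hg k hk
        obtain ⟨h1, h2, h3⟩ := Mv.mem_pre.mp hk
        have hgw := comm_c hg.2
        refine Mv.mem_pre.mpr ⟨mul_mem (mul_mem hg.1 h1) (inv_mem hg.1), ?_, ?_⟩
        · have h4 : g * k * g⁻¹ ∈ centralizer ({w} : Set G) :=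
            Subgroup.mul_mem _ (Subgroup.mul_mem _ hg.2 (mem_c h2.symm)) (Subgroup.inv_mem _ hg.2)
          exact (comm_c h4).symm
        · rw [Mv.conj (le_normalizer hg.1) (le_normalizer h1)]
          refine conj_mem_alt (fun x => ?_) h3
          exact apply_mem_fixIn (Mv.map_iff (le_normalizer hg.1))
            (Mv.comm (le_normalizer hg.1) h.wN hgw)
      rw [mem_normalizer_iff]
      intro k
      refine ⟨key g hg k, fun h1 => ?_⟩
      have h2 := key g⁻¹ (inv_mem hg) _ h1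
      convert h2 using 1
      group
    · rw [← Nat.not_even_iff_odd, even_iff_two_dvd]
      intro h2
      obtain ⟨⟨k, hk⟩, hk2⟩ := exists_prime_orderOf_dvd_card' 2 h2
      obtain ⟨h1, -, h3⟩ := Mv.mem_pre.mp hk
      rw [h.fixIn_w] at h3
      rw [Subgroup.orderOf_mk] at hk2
      have hkk : k * k = 1 := sq_of_order hk2
      have h4 := Three.sq_eq_one h.cardF h3 (Mv.sq (le_normalizer h1) hkk)
      have h5 := (Mv.core_iff k h1).mp h4
      have h6 := eq_one_of_mem_core_sq h5 hkk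
      rw [h6, orderOf_one] at hk2
      exact absurd hk2 (by decide)
  refine core_inf_le_core h.dv.comp w (hA (Mv.mem_pre.mpr ⟨hg, hgw.symm, ?_⟩))
  rw [h.fixIn_w]; exact hl

/-- conjugation in `C(v, w)` -/
theorem core_conj {g d : G} (hgv : g * v = v * g) (hgw : g * w = w * g)
    (hd : d ∈ core (centralizer ({v} : Set G) ⊓ centralizer ({w} : Set G))) :
    g * d * g⁻¹ ∈ core (centralizer ({v} : Set G) ⊓ centralizer ({w} : Set G)) :=
  conj_core (H := centralizer ({v} : Set G) ⊓ centralizer ({w} : Set G))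
    ⟨mem_c hgv, mem_c hgw⟩ hd

theorem core_N {d : G} (hd : d ∈ core (centralizer ({v} : Set G) ⊓ centralizer ({w} : Set G))) :
    d ∈ normalizer (Kv : Set G) := h.core_le_norm (odd_card_core _) (core_le _) hd

theorem core_mem_alt {d : G}
    (hd : d ∈ core (centralizer ({v} : Set G) ⊓ centralizer ({w} : Set G))) : Mv.φ d ∈ alt F :=
  h.core_alt (odd_card_core _) (core_le _) (fun _ hgv hgw _ hd => h.core_conj hgv hgw hd) hd

/-- `Y` -/
theorem Y_core {y : G} (hy : y ∈ core (centralizer ({w} : Set G))) (hyv : y * v = v * y) :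
    y ∈ core (centralizer ({v} : Set G) ⊓ centralizer ({w} : Set G)) := inf_le_core hy (mem_c hyv)

theorem Y_triv' {y : G} (hy : y ∈ core (centralizer ({w} : Set G))) (hyv : y * v = v * y) :
    Mv.φ y = 1 := (h.Y_triv hy hyv).2

/-- elements trivial on both -/
theorem triv_conj {g d : G} (hgv : g * v = v * g) (hgw : g * w = w * g)
    (hd : d ∈ core (centralizer ({v} : Set G) ⊓ centralizer ({w} : Set G)))
    (h1 : Mv.φ d = 1) (h2 : Mv.φ (a * d * a⁻¹) = 1) : Mv.φ (g * d * g⁻¹) = 1 := by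
  have hf1 : Fixes d Kv := (Mv.fixes_iff (h.core_N hd)).mp h1
  have hf2 : Fixes d (cj a Kv) := by
    have h3 := h.core_N (h.core_conj h.va.symm h.wa.symm hd)
    have h4 := ((Mv.fixes_iff h3).mp h2).cj a
    have h5 : a * (a * d * a⁻¹) * a⁻¹ = d := by
      calc a * (a * d * a⁻¹) * a⁻¹ = (a * a) * d * (a * a)⁻¹ := by group
        _ = d := by rw [h.aa]; group
    rwa [h5] at h4
  have hf : Fixes (g * d * g⁻¹) Kv := by
    rcases h.dv.pair_cj h.comp h.aa h.w_mem h.w_ne hgv hgw with e | e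
    · have h3 := hf1.cj g
      rwa [e] at h3
    · rcases (h.dv.swap h.comp h.aa).pair_cj h.comp h.aa h.w_mem h.w_ne hgv hgw with e' | e'
      · exfalso
        rw [← e] at e'
        exact h.dv.ne (e.symm.trans (cj_injective _ e'))
      · have h3 := hf2.cj g
        rwa [e', ← IntrinsicBasic.cj_mul, h.aa, cj_one] at h3
  exact (Mv.fixes_iff hf.1).mpr hf

/-- the label on `K_v` of an element of `A* ≤ K_w` depends only on the label on `K_w` -/
theorem ker_A {g g' : G} (hg : g ∈ Kw) (hgv : g * v = v * g) (hl : Mw.φ g ∈ alt F)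
    (hg' : g' ∈ Kw) (hgv' : g' * v = v * g') (he : Mw.φ g = Mw.φ g') :
    Mv.φ g = Mv.φ g' ∧ Mv.φ (a * g * a⁻¹) = Mv.φ (a * g' * a⁻¹) := by
  have hsym : centralizer ({w} : Set G) ⊓ centralizer ({v} : Set G) =
      centralizer ({v} : Set G) ⊓ centralizer ({w} : Set G) := inf_comm _ _
  have hgc := h.symm.A_core hg hgv hl
  have hgc' := h.symm.A_core hg' hgv' (he ▸ hl)
  rw [hsym] at hgc hgc'
  have hac := h.core_conj h.va.symm h.wa.symm hgc
  have hac' := h.core_conj h.va.symm h.wa.symm hgc'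
  have hy : g⁻¹ * g' ∈ core (centralizer ({w} : Set G)) :=
    h.dw.comp.core_le_core ((Mw.eq_iff hg hg').mp he)
  have hyv : g⁻¹ * g' * v = v * (g⁻¹ * g') := by
    have h1 : g⁻¹ * g' ∈ centralizer ({v} : Set G) :=
      Subgroup.mul_mem _ (Subgroup.inv_mem _ (mem_c hgv)) (mem_c hgv')
    exact comm_c h1
  have hya : a * (g⁻¹ * g') * a⁻¹ ∈ core (centralizer ({w} : Set G)) := conj_core (mem_c h.wa.symm) hy
  have hyav : a * (g⁻¹ * g') * a⁻¹ * v = v * (a * (g⁻¹ * g') * a⁻¹) := by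
    have h1 : a * (g⁻¹ * g') * a⁻¹ ∈ centralizer ({v} : Set G) :=
      Subgroup.mul_mem _ (Subgroup.mul_mem _ (mem_c h.va.symm) (mem_c hyv))
        (Subgroup.inv_mem _ (mem_c h.va.symm))
    exact comm_c h1
  constructor
  · have h1 := h.Y_triv' hy hyv
    rw [Mv.mul _ _ (inv_mem (h.core_N hgc)) (h.core_N hgc'), Mv.inv (h.core_N hgc),
      inv_mul_eq_one] at h1
    exact h1
  · have h1 := h.Y_triv' hya hyav
    have h2 : a * (g⁻¹ * g') * a⁻¹ = (a * g * a⁻¹)⁻¹ * (a * g' * a⁻¹) := by group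
    rw [h2, Mv.mul _ _ (inv_mem (h.core_N hac)) (h.core_N hac'), Mv.inv (h.core_N hac),
      inv_mul_eq_one] at h1
    exact h1

/-- `φ_v(α) φ_v(α^a)` is the label of `α ∈ A` -/
theorem prod {g : G} (hg : g ∈ Kw) (hgv : g * v = v * g) (hl : Mw.φ g ∈ alt F) :
    Mv.φ g * Mv.φ (a * g * a⁻¹) = Mw.φ g := by
  have hsym : centralizer ({w} : Set G) ⊓ centralizer ({v} : Set G) =
      centralizer ({v} : Set G) ⊓ centralizer ({w} : Set G) := inf_comm _ _
  obtain ⟨ME, hME⟩ := h.dw.root.exists_mod (by rw [h.card])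
  have hvE : v ∈ M.cmp w := h.symm.w_mem
  have hvL : ME.φ v = M.φ v := hME v hvE
  obtain ⟨δ, hδ⟩ : ∃ δ, δ = Mw.φ g := ⟨_, rfl⟩
  rw [← hδ] at hl ⊢
  -- `d₀`
  obtain ⟨d₀, hd₀, hd₀v, hd₀l⟩ := ME.exists_comm_lift (le_normalizer hvE) (n := 1)
    (by rw [pow_one, pow_two]; exact h.dv.root.sq) (σ := δ⁻¹) (alt_mono h.symm.sub (inv_mem hl)) (by
      rw [hvL]
      exact (comm_of_fix (T := S) (fun y hy => (inv_mem hl).2 y (Finset.disjoint_right.mp h.FS hy))
        (fun y hy => h.dv.root.apply_eq hy)).symm)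
  rw [hME d₀ hd₀] at hd₀l
  have hd₀w : d₀ * w = w * d₀ := (M.cmp_comm hd₀).symm
  have hd₀L : d₀ ∈ L := M.cmp_le w hd₀
  obtain ⟨d, hd⟩ : ∃ d, d = d₀ * d₀ := ⟨_, rfl⟩
  have hdE : d ∈ M.cmp w := hd ▸ mul_mem hd₀ hd₀
  have hdL : d ∈ L := M.cmp_le w hdE
  have hdl : M.φ d = δ := by
    rw [hd, M.mul _ _ (le_normalizer hd₀L) (le_normalizer hd₀L), hd₀l, Three.inv_eq h.cardF hl]
  have hdv : d * v = v * d := by
    rw [hd, mul_assoc, ← hd₀v, ← mul_assoc, ← hd₀v, mul_assoc]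
  have hdw : d * w = w * d := (M.cmp_comm hdE).symm
  have hdN : d ∈ normalizer (Kv : Set G) := by
    rw [hd]
    exact h.dv.cj_sq h.comp h.aa h.w_mem h.w_ne hd₀v.symm hd₀w
  have hdφ : Mv.φ d = δ := by
    ext z
    by_cases hz : z ∈ Ω \ S
    · rw [h.dv.label (by rw [h.card]) h.comp h.aa (le_normalizer hdL) hdv hdN hz, hdl]
    · rw [Mv.mem_sym d hdN z hz]
      exact (hl.2 z fun h' => hz (h.sub h')).symm
  -- the diagonal
  have hdd := hdE
  rw [h.dw.eq] at hdd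
  obtain ⟨k, hk, hkd, hkf, hdNw⟩ := diag_act h.dw.comp (mem_c h.wa.symm) h.aa h.dw.ne hdd
  have hkφ : Mw.φ k = δ := by
    have e1 := (Mw.fixes_iff hkf.1).mpr hkf
    rw [Mw.mul _ _ (inv_mem (le_normalizer hk)) hdNw, Mw.inv (le_normalizer hk), inv_mul_eq_one,
      h.dw.agree d hdE, hdl] at e1
    exact e1
  have hkg : k⁻¹ * g ∈ core (centralizer ({w} : Set G)) :=
    h.dw.comp.core_le_core ((Mw.eq_iff hk hg).mp (by rw [hkφ, hδ]))
  have haw : a ∈ centralizer ({w} : Set G) := mem_c h.wa.symm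
  have hkaC : a * k * a⁻¹ ∈ centralizer ({w} : Set G) :=
    Subgroup.mul_mem _ (Subgroup.mul_mem _ haw (h.dw.comp.le hk)) (Subgroup.inv_mem _ haw)
  have hy : d⁻¹ * (g * (a * g * a⁻¹)) ∈ core (centralizer ({w} : Set G)) := by
    have e1 : d⁻¹ * (g * (a * g * a⁻¹)) = (d⁻¹ * (k * (a * k * a⁻¹))) *
        ((a * k * a⁻¹)⁻¹ * (k⁻¹ * g) * (a * k * a⁻¹)⁻¹⁻¹) * (a * (k⁻¹ * g) * a⁻¹) := by group
    rw [e1]
    exact mul_mem (mul_mem hkd (conj_core (Subgroup.inv_mem _ hkaC) hkg)) (conj_core haw hkg)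
  have hgC : g ∈ centralizer ({v} : Set G) := mem_c hgv
  have haC : a ∈ centralizer ({v} : Set G) := mem_c h.va.symm
  have hyv : d⁻¹ * (g * (a * g * a⁻¹)) * v = v * (d⁻¹ * (g * (a * g * a⁻¹))) := by
    have h1 : d⁻¹ * (g * (a * g * a⁻¹)) ∈ centralizer ({v} : Set G) :=
      Subgroup.mul_mem _ (Subgroup.inv_mem _ (mem_c hdv)) (Subgroup.mul_mem _ hgC
        (Subgroup.mul_mem _ (Subgroup.mul_mem _ haC hgC) (Subgroup.inv_mem _ haC)))
    exact comm_c h1
  have hgc := h.symm.A_core hg hgv (hδ ▸ hl)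
  rw [hsym] at hgc
  have hac := h.core_conj h.va.symm h.wa.symm hgc
  have h1 := h.Y_triv' hy hyv
  rw [Mv.mul _ _ (inv_mem hdN) (mul_mem (h.core_N hgc) (h.core_N hac)), Mv.inv hdN,
    Mv.mul _ _ (h.core_N hgc) (h.core_N hac), inv_mul_eq_one, hdφ] at h1
  exact h1.symm

/-- the dichotomy -/
theorem dich {g : G} (hg : g ∈ Kw) (hgv : g * v = v * g) (hl : Mw.φ g ∈ alt F)
    (h1 : Mw.φ g ≠ 1) : (Mv.φ g = Mw.φ g ∧ Mv.φ (a * g * a⁻¹) = 1) ∨
      (Mv.φ g = 1 ∧ Mv.φ (a * g * a⁻¹) = Mw.φ g) := by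
  have hsym : centralizer ({w} : Set G) ⊓ centralizer ({v} : Set G) =
      centralizer ({v} : Set G) ⊓ centralizer ({w} : Set G) := inf_comm _ _
  have hgc := h.symm.A_core hg hgv hl
  rw [hsym] at hgc
  have hac := h.core_conj h.va.symm h.wa.symm hgc
  have hp := h.prod hg hgv hl
  obtain ⟨δ, hδ⟩ : ∃ δ, δ = Mw.φ g := ⟨_, rfl⟩
  rw [← hδ] at hl hp h1 ⊢
  rcases Three.cases' h.cardF hl (h.core_mem_alt hgc) h1 with e | e | e
  · rw [e, one_mul] at hp
    exact Or.inr ⟨e, hp⟩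
  · rw [e, mul_eq_left] at hp
    exact Or.inl ⟨e, hp⟩
  · exfalso
    have e' : Mv.φ (a * g * a⁻¹) = δ⁻¹ := by
      rw [e, inv_mul_eq_iff_eq_mul] at hp
      rw [hp]
      have := Three.inv_eq h.cardF (inv_mem hl)
      rw [inv_inv] at this
      exact this
    have haag : a * (a * g * a⁻¹) * a⁻¹ = g := by
      calc a * (a * g * a⁻¹) * a⁻¹ = (a * a) * g * (a * a)⁻¹ := by group
        _ = g := by rw [h.aa]; group
    have hgN := h.core_N hgc
    have haN := h.core_N hac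
    -- `β`
    obtain ⟨β, hβ⟩ : ∃ β, β = g⁻¹ * (a * g * a⁻¹) := ⟨_, rfl⟩
    have hβc : β ∈ core (centralizer ({v} : Set G) ⊓ centralizer ({w} : Set G)) :=
      hβ ▸ mul_mem (inv_mem hgc) hac
    have hβ1 : Mv.φ β = 1 := by
      rw [hβ, Mv.mul _ _ (inv_mem hgN) haN, Mv.inv hgN, e, e', inv_mul_cancel]
    have hβ2 : Mv.φ (a * β * a⁻¹) = 1 := by
      have e1 : a * β * a⁻¹ = (a * g * a⁻¹)⁻¹ * g := by
        calc a * β * a⁻¹ = (a * g * a⁻¹)⁻¹ * (a * (a * g * a⁻¹) * a⁻¹) := by rw [hβ]; group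
          _ = _ := by rw [haag]
      rw [e1, Mv.mul _ _ (inv_mem haN) hgN, Mv.inv haN, e, e', inv_mul_cancel]
    obtain ⟨s, hs, hss, hsv, hsi⟩ := h.symm.exists_s
    have hsw : s * w = w * s := comm_c (h.dw.comp.le hs)
    have h3 := h.triv_conj hsv hsw hβc hβ1 hβ2
    -- `s β s⁻¹`
    have e1 : s * β * s⁻¹ = (s * g * s⁻¹)⁻¹ * (s * (a * g * a⁻¹) * s⁻¹) := by rw [hβ]; group
    have hsg := h.core_conj hsv hsw hgc
    have hsa := h.core_conj hsv hsw hac
    have hsgK : s * g * s⁻¹ ∈ Kw := mul_mem (mul_mem hs hg) (inv_mem hs)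
    have hsgv : s * g * s⁻¹ * v = v * (s * g * s⁻¹) := comm_c ((core_le _ hsg).1)
    have e2 : Mv.φ (s * g * s⁻¹) = Mv.φ g⁻¹ := by
      refine (h.ker_A hsgK hsgv ?_ (inv_mem hg) ?_ ?_).1
      · rw [Mw.conj (le_normalizer hs) (le_normalizer hg), ← hδ, hsi δ hl]
        exact inv_mem hl
      · exact comm_c (Subgroup.inv_mem _ (mem_c hgv))
      · rw [Mw.conj (le_normalizer hs) (le_normalizer hg), ← hδ, hsi δ hl,
          Mw.inv (le_normalizer hg), hδ]
    have e3 : Mv.φ (s * (a * g * a⁻¹) * s⁻¹) = Mv.φ (a * g * a⁻¹) := by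
      have h4 : ⁅s, a * g * a⁻¹⁆ ∈ core (centralizer ({w} : Set G)) := by
        have h5 : ⁅s, a * g * a⁻¹⁆ ∈ core Kw ⊓ core (cj a Kw) :=
          h.dw.comp.comm_le_core (isComp_cj_of_mem h.dw.comp (mem_c h.wa.symm)) h.dw.ne.symm
            (commutator_mem_commutator hs (conj_mem_cj hg))
        exact h.dw.comp.core_le_core h5.1
      have h5 : ⁅s, a * g * a⁻¹⁆ * v = v * ⁅s, a * g * a⁻¹⁆ := by
        have h6 : ⁅s, a * g * a⁻¹⁆ ∈ centralizer ({v} : Set G) := by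
          rw [commutatorElement_def]
          exact Subgroup.mul_mem _ (core_le _ hsa).1 (Subgroup.inv_mem _ (core_le _ hac).1)
        exact comm_c h6
      have h6 := h.Y_triv' h4 h5
      rw [commutatorElement_def, Mv.mul _ _ (h.core_N hsa) (inv_mem haN), Mv.inv haN,
        mul_inv_eq_one] at h6
      exact h6
    rw [e1, Mv.mul _ _ (inv_mem (h.core_N hsg)) (h.core_N hsa), Mv.inv (h.core_N hsg), e2, e3,
      Mv.inv hgN, e, e', inv_inv] at h3
    rw [Three.inv_eq h.cardF hl] at h3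
    exact h1 h3

/-- the linking property from one element -/
theorem lk_of {g : G} (hg : g ∈ Kw) (hgv : g * v = v * g) (hl : Mw.φ g ∈ alt F)
    (hne : Mw.φ g ≠ 1) (h1 : Mv.φ g = Mw.φ g) (h2 : Mv.φ (a * g * a⁻¹) = 1) :
    Lk v a F Kv Kw Mv Mw := by
  have hsym : centralizer ({w} : Set G) ⊓ centralizer ({v} : Set G) =
      centralizer ({v} : Set G) ⊓ centralizer ({w} : Set G) := inf_comm _ _
  intro g' hg' hgv' hl'
  have hgc := h.symm.A_core hg hgv hl
  rw [hsym] at hgc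
  have hac := h.core_conj h.va.symm h.wa.symm hgc
  rcases Three.cases' h.cardF hl hl' hne with e | e | e
  · have h3 := h.ker_A hg' hgv' hl' (one_mem Kw) (by rw [one_mul, mul_one]) (by rw [e, Mw.one])
    rw [h3.1, h3.2, mul_one, mul_inv_cancel, Mv.one, e]
    exact ⟨rfl, rfl⟩
  · have h3 := h.ker_A hg' hgv' hl' hg hgv e
    rw [h3.1, h3.2, e, h1, h2]
    exact ⟨rfl, rfl⟩
  · have h3 := h.ker_A hg' hgv' hl' (inv_mem hg) (comm_c (Subgroup.inv_mem _ (mem_c hgv)))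
      (by rw [e, Mw.inv (le_normalizer hg)])
    have e4 : a * g⁻¹ * a⁻¹ = (a * g * a⁻¹)⁻¹ := by group
    rw [h3.1, h3.2, e4, Mv.inv (h.core_N hgc), Mv.inv (h.core_N hac), h1, h2, e, inv_one]
    exact ⟨rfl, rfl⟩

/-- the linking property holds for `K_v` or for `K_v^a` -/
theorem exists_lk : Lk v a F Kv Kw Mv Mw ∨ Lk v a F (cj a Kv) Kw (Mv.cj a) Mw := by
  obtain ⟨δ, hδ, hδ1⟩ := Three.exists_ne h.cardF
  obtain ⟨g, hg, hgv, rfl⟩ := h.symm.exists_A hδ
  rcases h.dich hg hgv hδ hδ1 with ⟨h1, h2⟩ | ⟨h1, h2⟩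
  · exact Or.inl (h.lk_of hg hgv hδ hδ1 h1 h2)
  · refine Or.inr (h.swapV.lk_of hg hgv hδ hδ1 ?_ ?_)
    · rw [Mod.cj_φ]
      have e : a⁻¹ * g * a = a * g * a⁻¹ := by rw [h.ai]
      rw [e, h2]
    · rw [Mod.cj_φ]
      have e : a⁻¹ * (a * g * a⁻¹) * a = g := by group
      rw [e, h1]

variable (lk : Lk v a F Kv Kw Mv Mw)

include lk

/-- the linking property is symmetric -/
theorem lk_symm : Lk w a F Kw Kv Mw Mv := by
  have hsym : centralizer ({w} : Set G) ⊓ centralizer ({v} : Set G) =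
      centralizer ({v} : Set G) ⊓ centralizer ({w} : Set G) := inf_comm _ _
  obtain ⟨δ, hδ, hδ1⟩ := Three.exists_ne h.cardF
  obtain ⟨b, hb, hbw, hbδ⟩ := h.exists_A hδ
  rcases h.symm.dich hb hbw (by rw [hbδ]; exact hδ) (by rw [hbδ]; exact hδ1) with ⟨h1, h2⟩ | ⟨h1, h2⟩
  · exact h.symm.lk_of hb hbw (by rw [hbδ]; exact hδ) (by rw [hbδ]; exact hδ1) h1 h2
  · exfalso
    rw [hbδ] at h2
    obtain ⟨g, hg, hgv, hgδ⟩ := h.symm.exists_A hδ
    have hgl : Mw.φ g ∈ alt F := by rw [hgδ]; exact hδ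
    have hgc := h.symm.A_core hg hgv hgl
    rw [hsym] at hgc
    have hlg := lk g hg hgv hgl
    rw [hgδ] at hlg
    obtain ⟨s, hs, hss, hsv, hsi⟩ := h.symm.exists_s
    have hsw : s * w = w * s := comm_c (h.dw.comp.le hs)
    have hsg := h.core_conj hsv hsw hgc
    have hsgK : s * g * s⁻¹ ∈ Kw := mul_mem (mul_mem hs hg) (inv_mem hs)
    have hsgv : s * g * s⁻¹ * v = v * (s * g * s⁻¹) := comm_c ((core_le _ hsg).1)
    have hsgl : Mw.φ (s * g * s⁻¹) = δ⁻¹ := by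
      rw [Mw.conj (le_normalizer hs) (le_normalizer hg), hgδ, hsi δ hδ]
    have hlsg := lk _ hsgK hsgv (by rw [hsgl]; exact inv_mem hδ)
    rw [hsgl] at hlsg
    -- `s` normalizes `K_v`
    have hsN : s ∈ normalizer (Kv : Set G) := by
      rw [mem_normalizer_iff_cj]
      refine (h.dv.pair_cj h.comp h.aa h.w_mem h.w_ne hsv hsw).resolve_right fun e => ?_
      have h3 := h.core_N (h.core_conj h.va.symm h.wa.symm hsg)
      have h4 := ((Mv.fixes_iff h3).mp hlsg.2).cj a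
      have h5 : a * (a * (s * g * s⁻¹) * a⁻¹) * a⁻¹ = s * g * s⁻¹ := by
        calc a * (a * (s * g * s⁻¹) * a⁻¹) * a⁻¹ = (a * a) * (s * g * s⁻¹) * (a * a)⁻¹ := by group
          _ = s * g * s⁻¹ := by rw [h.aa]; group
      rw [h5, ← e] at h4
      have h6 := h4.cj s⁻¹
      rw [cj_inv_cj, show s⁻¹ * (s * g * s⁻¹) * s⁻¹⁻¹ = g by group] at h6
      have h7 := (Mv.fixes_iff h6.1).mpr h6
      rw [hlg.1] at h7
      exact hδ1 h7
    have hρ : Mv.φ s * δ * (Mv.φ s)⁻¹ = δ⁻¹ := by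
      rw [← hlsg.1, Mv.conj hsN (h.core_N hgc), hlg.1]
    -- `β' = s β s⁻¹`
    have hb' : s * b * s⁻¹ ∈ Kv := (mem_normalizer_iff.mp hsN b).mp hb
    have hb'w : s * b * s⁻¹ * w = w * (s * b * s⁻¹) := by
      have h3 : s * b * s⁻¹ ∈ centralizer ({w} : Set G) :=
        Subgroup.mul_mem _ (Subgroup.mul_mem _ (mem_c hsw) (mem_c hbw)) (Subgroup.inv_mem _ (mem_c hsw))
      exact comm_c h3
    have hb'l : Mv.φ (s * b * s⁻¹) = δ⁻¹ := by
      rw [Mv.conj hsN (le_normalizer hb), hbδ, hρ]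
    have h3 := h.symm.ker_A hb' hb'w (by rw [hb'l]; exact inv_mem hδ) (inv_mem hb)
      (comm_c (Subgroup.inv_mem _ (mem_c hbw))) (by rw [hb'l, Mv.inv (le_normalizer hb), hbδ])
    have hbc := h.A_core hb hbw (by rw [hbδ]; exact hδ)
    rw [← hsym] at hbc
    have hbac := h.symm.core_conj h.wa.symm h.va.symm hbc
    have hbaN := h.symm.core_N hbac
    have e4 : a * b⁻¹ * a⁻¹ = (a * b * a⁻¹)⁻¹ := by group
    have h4 := h3.2
    rw [e4, Mw.inv hbaN, h2] at h4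
    -- the other computation
    have hsa : Fixes (a * s * a⁻¹) Kw := by
      refine h.dw.comp.fixes_of_mem (isComp_cj_of_mem h.dw.comp (mem_c h.wa.symm)) ?_
        (conj_mem_cj hs)
      exact h.dw.ne.symm
    have e5 : a * (s * b * s⁻¹) * a⁻¹ = (a * s * a⁻¹) * (a * b * a⁻¹) * (a * s * a⁻¹)⁻¹ := by group
    rw [e5, Mw.conj hsa.1 hbaN, (Mw.fixes_iff hsa.1).mpr hsa, h2, one_mul, inv_one, mul_one] at h4
    exact Three.ne_inv h.cardF hδ hδ1 h4

/-- **criterion**: `g ∈ C(v, w)` with `[g, α] ∈ O(C(w))` normalizes `K_v` -/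
theorem norm_of_comm {g b : G} (hgv : g * v = v * g) (hgw : g * w = w * g) (hb : b ∈ Kw)
    (hbv : b * v = v * b) (hbl : Mw.φ b ∈ alt F) (hb1 : Mw.φ b ≠ 1)
    (hc : ⁅g, b⁆ ∈ core (centralizer ({w} : Set G))) : g ∈ normalizer (Kv : Set G) := by
  have hsym : centralizer ({w} : Set G) ⊓ centralizer ({v} : Set G) =
      centralizer ({v} : Set G) ⊓ centralizer ({w} : Set G) := inf_comm _ _
  have hbc := h.symm.A_core hb hbv hbl
  rw [hsym] at hbc
  have hlb := lk b hb hbv hbl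
  have hac := h.core_conj h.va.symm h.wa.symm hbc
  have hgb := h.core_conj hgv hgw hbc
  rw [mem_normalizer_iff_cj]
  refine (h.dv.pair_cj h.comp h.aa h.w_mem h.w_ne hgv hgw).resolve_right fun e => ?_
  have hcv : ⁅g, b⁆ * v = v * ⁅g, b⁆ := by
    have h1 : ⁅g, b⁆ ∈ centralizer ({v} : Set G) := by
      rw [commutatorElement_def]
      exact Subgroup.mul_mem _ (core_le _ hgb).1 (Subgroup.inv_mem _ (mem_c hbv))
    exact comm_c h1
  have hya : a * ⁅g, b⁆ * a⁻¹ ∈ core (centralizer ({w} : Set G)) := conj_core (mem_c h.wa.symm) hc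
  have hyav : a * ⁅g, b⁆ * a⁻¹ * v = v * (a * ⁅g, b⁆ * a⁻¹) := by
    have h1 : a * ⁅g, b⁆ * a⁻¹ ∈ centralizer ({v} : Set G) :=
      Subgroup.mul_mem _ (Subgroup.mul_mem _ (mem_c h.va.symm) (mem_c hcv))
        (Subgroup.inv_mem _ (mem_c h.va.symm))
    exact comm_c h1
  have h1 := h.Y_triv' hya hyav
  have h2 : Mv.φ (a * (g * b * g⁻¹) * a⁻¹) = 1 := by
    have e1 : a * (g * b * g⁻¹) * a⁻¹ = (a * ⁅g, b⁆ * a⁻¹) * (a * b * a⁻¹) := by
      rw [commutatorElement_def]; group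
    rw [e1, Mv.mul _ _ (h.Y_triv hya hyav).1 (h.core_N hac), h1, hlb.2, one_mul]
  have h3 := h.core_N (h.core_conj h.va.symm h.wa.symm hgb)
  have h4 := ((Mv.fixes_iff h3).mp h2).cj a
  have h5 : a * (a * (g * b * g⁻¹) * a⁻¹) * a⁻¹ = g * b * g⁻¹ := by
    calc a * (a * (g * b * g⁻¹) * a⁻¹) * a⁻¹ = (a * a) * (g * b * g⁻¹) * (a * a)⁻¹ := by group
      _ = g * b * g⁻¹ := by rw [h.aa]; group
  rw [h5, ← e] at h4
  have h6 := h4.cj g⁻¹
  rw [cj_inv_cj, show g⁻¹ * (g * b * g⁻¹) * g⁻¹⁻¹ = b by group] at h6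
  have h7 := (Mv.fixes_iff h6.1).mpr h6
  rw [hlb.1] at h7
  exact hb1 h7

end

end Two

end

end Cfsg.Agent.UAlt
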