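import Cfsg.Agent.UAlt.Bij
import Cfsg.Agent.UGT.PumpGen

/-!
# Case D, `n = 11`: the interface between (4.1)-(4.5) and (4.6), (4.7) of (E4), #9986

`Eleven.CaseD.Mid`: as `UAlt.CaseD.Mid`, but `11 ≤ |Ω|` and the field `exE` is replaced by `glue` ((4.2): `A` is
nontrivial on `K_v`) and `triv` ((4.1): `O(K_w) ∩ C(v)` is trivial on `K_v`).
-/

set_option autoImplicit false

namespace Cfsg.Agent.UAlt.Eleven.CaseD

open Cfsg Equiv Equiv.Perm Subgroup
open Cfsg.Agent.Intrinsic.Basic Cfsg.Agent.Intrinsic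
open Cfsg.Agent.Intrinsic.Cen Cfsg.Agent.Intrinsic.Diag
open Cfsg.Agent.SignalizersComponents Cfsg.Agent.Lib
open Cfsg.Agent.SignalizersComponents.IntrinsicBasic
open Cfsg.Agent.UGT.Triple Cfsg.Agent.UGT.LemG Cfsg.Agent.UGT.PumpGen
open scoped commutatorElement

variable {G : Type*} [Group G] [Finite G] {α : Type*} [Fintype α] [DecidableEq α]

/-- The output of (4.1)-(4.5): `v ∈ V`, `w ∈ V*`, `K_v`, `K_w` moved by `a`, `k k^a = v`. -/
structure Mid (Ω S T : Finset α) (a x v w k : G) (Kv Kw : Subgroup G) (MV : Mod Kv (Ω \ S))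
    (MW : Mod Kw (Ω \ T)) : Prop where
  card : 11 ≤ Ω.card
  subS : S ⊆ Ω
  subT : T ⊆ Ω
  cardS : S.card = 4
  cardT : T.card = 4
  disj : Disjoint S T
  inva : orderOf a = 2
  invv : orderOf v = 2
  invw : orderOf w = 2
  invk : orderOf k = 2
  ax : a * x = x * a
  av : a * v = v * a
  aw : a * w = w * a
  vw : v * w = w * v
  kx : k * x = x * k
  kw : k * w = w * k
  prod : k * (a * k * a⁻¹) = v
  kv : k * v = v * k
  compV : IsComp (centralizer ({v} : Set G)) Kv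
  neV : cj a Kv ≠ Kv
  compW : IsComp (centralizer ({w} : Set G)) Kw
  neW : cj a Kw ≠ Kw
  triple : IsTriple x v Kv
  fixk : Fixes k Kv
  fixk' : Fixes k (cj a Kv)
  kmem : k ∈ Kw
  klab : ∀ i ∈ Ω \ T, (MW.φ k i = i ↔ i ∉ S)
  wdiag : w ∈ diag (centralizer ({v} : Set G)) Kv a
  glue : ∃ y ∈ Kw, y * v = v * y ∧ ¬ Fixes y Kv
  triv : ∀ y ∈ core Kw, y * v = v * y → Fixes y Kv

/-- The restriction on the types of the triples that is used: a triple `(x, c, N)` such that `C_N(t)` has a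
2-component of type `Alt(R)`, `7 ≤ |R|`, is alternating of degree at most `|Ω|`. -/
def Types (Ω : Finset α) (x : G) : Prop :=
  ∀ (c t : G) (N E : Subgroup G) (R : Finset α), IsTriple x c N → t * t = 1 →
    t ∈ normalizer (N : Set G) → IsComp (N ⊓ centralizer ({t} : Set G)) E → Nonempty (Mod E R) →
    7 ≤ R.card → ∃ S' ⊆ Ω, Nonempty (Mod N S')

end Cfsg.Agent.UAlt.Eleven.CaseD
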