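import Cfsg.Agent.UAlt.Eleven.ActJ
import Cfsg.Agent.UAlt.FourConj
import Cfsg.Agent.UAlt.RootRF

/-!
# The configuration of roots commuting with `z = v v'`, `n = 11`

`exists_cfg`: `V`, `V'` commuting disjoint root four-groups of `L`, `v ∈ V`, `v' ∈ V'`: roots `s₁ ∈ V`, `s₂`, `s₃ ∈ V'`,
`s₄` of `L` generating `D8 × D8` with centre `⟨v, v'⟩`, and `ρ ∈ L` commuting with `v v'`, `ρ v ρ⁻¹ = s₁ s₂ s₁ s₄`.
-/

set_option autoImplicit false
set_option linter.unusedSectionVars false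

open Cfsg Equiv Equiv.Perm Subgroup
open Cfsg.Agent.Intrinsic.Basic
open Cfsg.Agent.SignalizersComponents Cfsg.Agent.Lib
open Cfsg.Agent.SignalizersComponents.IntrinsicBasic
open Cfsg.Agent.UGT.Triple
open Cfsg.Agent.StdAlt.PermTypes (cyc)
open Cfsg.Agent.StdAlt (V4 four4 mem_four4)
open Cfsg.Agent.StdAlt.Roots (IsRoot)
open scoped commutatorElement

namespace Cfsg.Agent.UAlt.Eleven

section dih

variable {H : Type*} [Group H] {s₁ s₂ s₃ s₄ v v' : H} (D : Dih2 s₁ s₂ s₃ s₄ v v')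
include D

theorem Dih2.swap : Dih2 s₃ s₄ s₁ s₂ v' v :=
  ⟨D.q₃, D.q₄, D.q₁, D.q₂, D.qv', D.qv, D.h, D.g, D.c₁₃.symm, D.c₂₃.symm, D.c₁₄.symm, D.c₂₄.symm⟩

theorem Dih2.g' : s₂ * s₁ * (s₂ * s₁) = v := by
  have i₁ : s₁⁻¹ = s₁ := inv_eq_of_mul_eq_one_left D.q₁
  have i₂ : s₂⁻¹ = s₂ := inv_eq_of_mul_eq_one_left D.q₂
  have iv : v⁻¹ = v := inv_eq_of_mul_eq_one_left D.qv
  have h1 := congrArg (fun x => x⁻¹) D.g
  simp only [mul_inv_rev, i₁, i₂, iv] at h1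
  exact h1

theorem Dih2.v₁ : v * s₁ = s₁ * v := by
  have h1 : v * s₁ = s₂ * s₁ * s₂ := by
    rw [← D.g']
    calc s₂ * s₁ * (s₂ * s₁) * s₁ = s₂ * s₁ * s₂ * (s₁ * s₁) := by group
      _ = _ := by rw [D.q₁, mul_one]
  have h2 : s₁ * v = s₂ * s₁ * s₂ := by
    rw [← D.g]
    calc s₁ * (s₁ * s₂ * (s₁ * s₂)) = (s₁ * s₁) * s₂ * s₁ * s₂ := by group
      _ = _ := by rw [D.q₁, one_mul]
  rw [h1, h2]

theorem Dih2.v₂ : v * s₂ = s₂ * v := by
  have h1 : v * s₂ = s₁ * s₂ * s₁ := by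
    rw [← D.g]
    calc s₁ * s₂ * (s₁ * s₂) * s₂ = s₁ * s₂ * s₁ * (s₂ * s₂) := by group
      _ = _ := by rw [D.q₂, mul_one]
  have h2 : s₂ * v = s₁ * s₂ * s₁ := by
    rw [← D.g']
    calc s₂ * (s₂ * s₁ * (s₂ * s₁)) = (s₂ * s₂) * s₁ * s₂ * s₁ := by group
      _ = _ := by rw [D.q₂, one_mul]
  rw [h1, h2]

theorem Dih2.v₃ : v * s₃ = s₃ * v := by
  have h1 : Commute s₃ (s₁ * s₂) := Commute.mul_right D.c₁₃.symm D.c₂₃.symm
  have h2 := h1.mul_right h1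
  rw [D.g] at h2
  exact h2.symm

theorem Dih2.v₄ : v * s₄ = s₄ * v := by
  have h1 : Commute s₄ (s₁ * s₂) := Commute.mul_right D.c₁₄.symm D.c₂₄.symm
  have h2 := h1.mul_right h1
  rw [D.g] at h2
  exact h2.symm

theorem Dih2.v'₁ : v' * s₁ = s₁ * v' := D.swap.v₃
theorem Dih2.v'₂ : v' * s₂ = s₂ * v' := D.swap.v₄
theorem Dih2.v'₃ : v' * s₃ = s₃ * v' := D.swap.v₁
theorem Dih2.v'₄ : v' * s₄ = s₄ * v' := D.swap.v₂

theorem Dih2.vv' : v * v' = v' * v := by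
  have h1 : Commute v (s₃ * s₄) := Commute.mul_right D.v₃ D.v₄
  have h2 := h1.mul_right h1
  rw [D.h] at h2
  exact h2

end dih

variable {G : Type*} [Group G] [Finite G] {α : Type*} [Fintype α] [DecidableEq α]
  {L : Subgroup G} {Ω T T' : Finset α} {M : Mod L Ω} {V V' : Subgroup G}

theorem isPGroup_of_sq {H : Type*} [Group H] {τ : H} (h : τ * τ = 1) : IsPGroup 2 (zpowers τ) := by
  rintro ⟨x, hx⟩
  obtain ⟨n, rfl⟩ := mem_zpowers_iff.mp hx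
  refine ⟨1, Subtype.ext ?_⟩
  show (τ ^ n) ^ (2 ^ 1) = 1
  rw [pow_one, ← zpow_natCast, ← zpow_mul, mul_comm, zpow_mul]
  have : τ ^ ((2 : ℕ) : ℤ) = 1 := by rw [zpow_natCast, pow_two, h]
  rw [this, one_zpow]

/-- a lift of `four T ⊔ ⟨τ⟩` containing `V` and commuting with `P` -/
theorem exists_dih (hV : RF M V T) {P : Subgroup G} (hP : IsPGroup 2 P)
    (hPN : P ≤ normalizer (L : Set G)) (hPV : ∀ p ∈ P, ∀ w ∈ V, p * w = w * p) {τ : Perm α}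
    (hτ : τ ∈ alt Ω) (hττ : τ * τ = 1) (hτT : ∀ x, τ x ∈ T ↔ x ∈ T)
    (hPτ : ∀ p ∈ P, M.φ p * τ = τ * M.φ p) :
    ∃ Q : Subgroup G, Q ≤ L ∧ IsPGroup 2 Q ∧ V ≤ Q ∧ (∀ q ∈ Q, ∀ p ∈ P, q * p = p * q) ∧
      (∀ q ∈ Q, M.φ q ∈ four T ⊔ zpowers τ) ∧ (∃ s ∈ Q, M.φ s = τ) ∧
      ∀ q ∈ Q, M.φ q = 1 → q = 1 := by
  have hVlab : ∀ w ∈ V, M.φ w ∈ four T := fun w hw => hV.label hw
  have hnorm : zpowers τ ≤ normalizer (four T : Set (Perm α)) := by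
    rw [zpowers_le, mem_normalizer_iff]
    intro g
    refine ⟨fun hg => conj_mem_four hV.card hτT hg, fun hg => ?_⟩
    have h1 := conj_mem_four hV.card hτT hg
    have h2 : τ⁻¹ = τ := inv_eq_of_mul_eq_one_left hττ
    have h3 : τ * (τ * g * τ⁻¹) * τ⁻¹ = g := by
      rw [h2, show τ * (τ * g * τ) * τ = (τ * τ) * g * (τ * τ) by group, hττ]; group
    rwa [h3] at h1
  have hQ0 : IsPGroup 2 ↥(four T ⊔ zpowers τ) :=
    IsPGroup.to_sup_of_normal_left' (isPGroup_four hV.card) (isPGroup_of_sq hττ) hnorm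
  have hQalt : four T ⊔ zpowers τ ≤ alt Ω := by
    refine sup_le ((four_le_alt hV.card).trans (alt_mono hV.sub)) ?_
    rw [zpowers_le]; exact hτ
  have hPfour : ∀ p ∈ P, ∀ σ ∈ four T, M.φ p * σ = σ * M.φ p := by
    intro p hp σ hσ
    obtain ⟨w, hw, rfl⟩ := hV.lift σ ((UAlt.mem_four hV.card).mp hσ).1
      ((UAlt.mem_four hV.card).mp hσ).2
    exact M.comm (hPN hp) (hV.memN hw) (hPV p hp w hw)
  have hPQ : ∀ p ∈ P, ∀ σ ∈ four T ⊔ zpowers τ, M.φ p * σ = σ * M.φ p := by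
    intro p hp σ hσ
    have h1 : four T ⊔ zpowers τ ≤ centralizer ({M.φ p} : Set (Perm α)) := by
      refine sup_le (fun σ hσ => mem_centralizer_singleton_iff.mpr (hPfour p hp σ hσ).symm) ?_
      rw [zpowers_le]
      exact mem_centralizer_singleton_iff.mpr (hPτ p hp).symm
    exact (mem_centralizer_singleton_iff.mp (h1 hσ)).symm
  obtain ⟨Q, q1, q2, q3, q4, q5, q6⟩ := M.exists_group_lift hP hPN hQ0 hQalt hPQ
  -- move the subgroup over `four T` to `V`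
  obtain ⟨VQ, hVQ⟩ : ∃ VQ, VQ = Q ⊓ M.above (four T) := ⟨_, rfl⟩
  have hVQm : ∀ {g : G}, g ∈ VQ ↔ g ∈ Q ∧ M.φ g ∈ four T := by
    intro g
    rw [hVQ]
    exact ⟨fun h => ⟨h.1, h.2.2⟩, fun h => ⟨h.1, q1 h.1, h.2⟩⟩
  obtain ⟨k, hk, hkP, hkV⟩ := M.exists_conj_two (V := VQ) (V' := V) (P := P)
    (fun g hg => q1 (hVQm.mp hg).1) hV.le (q2.to_le fun g hg => (hVQm.mp hg).1) hV.isPGroup
    (fun p hp g hg => (q3 g (hVQm.mp hg).1 p hp).symm) hPV (T := four T)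
    (fun σ hσ => by
      obtain ⟨q, hq, rfl⟩ := q5 σ (le_sup_left (a := four T) hσ)
      exact ⟨q, hVQm.mpr ⟨hq, hσ⟩, rfl⟩)
    (fun σ hσ => hV.lift σ ((UAlt.mem_four hV.card).mp hσ).1 ((UAlt.mem_four hV.card).mp hσ).2)
    (fun g hg => (hVQm.mp hg).2) hVlab
  have hkL : k ∈ L := core_le L hk
  have hk1 : M.φ k = 1 := (M.core_iff k hkL).mpr hk
  have hlab : ∀ q ∈ Q, M.φ (k * q * k⁻¹) = M.φ q := by
    intro q hq
    rw [M.conj (le_normalizer hkL) (le_normalizer (q1 hq)), hk1]; group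
  refine ⟨IntrinsicBasic.cj k Q, ?_, q2.map _, ?_, ?_, ?_, ?_, ?_⟩
  · rintro _ ⟨q, hq, rfl⟩
    exact mul_mem (mul_mem hkL (q1 hq)) (inv_mem hkL)
  · rw [← hkV]
    exact IntrinsicBasic.cj_mono fun g hg => (hVQm.mp hg).1
  · rintro _ ⟨q, hq, rfl⟩ p hp
    have h1 : Commute p k := hkP p hp
    have h2 : Commute p q := (q3 q hq p hp).symm
    exact ((h1.mul_right h2).mul_right h1.inv_right).symm
  · rintro _ ⟨q, hq, rfl⟩
    show M.φ (k * q * k⁻¹) ∈ _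
    rw [hlab q hq]
    exact q4 q hq
  · obtain ⟨q, hq, hqτ⟩ := q5 τ (mem_sup_right (mem_zpowers τ))
    exact ⟨k * q * k⁻¹, conj_mem_cj hq, by rw [hlab q hq, hqτ]⟩
  · rintro _ ⟨q, hq, rfl⟩ h1
    have h2 : M.φ (k * q * k⁻¹) = 1 := h1
    rw [hlab q hq] at h2
    show k * q * k⁻¹ = 1
    rw [q6 q hq h2]; group

/-- The configuration of roots -/
structure Cfg (M : Mod L Ω) (V V' : Subgroup G) (v v' s₁ s₂ s₃ s₄ ρ : G) : Prop where
  dih : Dih2 s₁ s₂ s₃ s₄ v v'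
  m₁ : s₁ ∈ V
  m₃ : s₃ ∈ V'
  rv : M.Rt v
  rv' : M.Rt v'
  r₁ : M.Rt s₁
  r₂ : M.Rt s₂
  r₃ : M.Rt s₃
  r₄ : M.Rt s₄
  r₁v : M.Rt (s₁ * v)
  r₃v' : M.Rt (s₃ * v')
  r₂₄ : M.Rt (s₂ * s₄)
  ρL : ρ ∈ L
  comm : ρ * (v * v') = v * v' * ρ
  hu : ρ * v * ρ⁻¹ = s₁ * s₂ * s₁ * s₄

theorem eq_or_of_mem_zpowers {H : Type*} [Group H] {w x : H} (hw : w * w = 1) (hx : x ∈ zpowers w) :
    x = 1 ∨ x = w := by
  obtain ⟨n, rfl⟩ := mem_zpowers_iff.mp hx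
  have h2 : w ^ (2 : ℤ) = 1 := by rw [zpow_two, hw]
  rcases Int.even_or_odd n with ⟨m, rfl⟩ | ⟨m, rfl⟩
  · left
    rw [← two_mul, zpow_mul, h2, one_zpow]
  · right
    rw [zpow_add, zpow_mul, h2, one_zpow, one_mul, zpow_one]

/-- conjugation of a product of two transpositions -/
theorem conj_swap_mul (f : Perm α) (i j k l : α) :
    f * (swap i j * swap k l) * f⁻¹ = swap (f i) (f j) * swap (f k) (f l) := by
  have h : ∀ x y : α, f * swap x y * f⁻¹ = swap (f x) (f y) := fun x y => by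
    rw [mul_swap_eq_swap_mul, mul_inv_cancel_right]
  rw [← h i j, ← h k l]
  group

theorem swap_comm_of {i j k l : α} (h : [i, j, k, l].Nodup) :
    swap i j * swap k l = swap k l * swap i j := (Perm.disjoint_swap_swap h).commute

/-- **existence of the configuration** -/
theorem exists_cfg (hΩ : Ω.card = 11) (hV : RF M V T) (hV' : RF M V' T') (hd : Disjoint T T')
    (hc : Cm V V') {v v' : G} (hv : v ∈ V) (h1 : v ≠ 1) (hv' : v' ∈ V') (h1' : v' ≠ 1) :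
    ∃ s₁ s₂ s₃ s₄ ρ : G, Cfg M V V' v v' s₁ s₂ s₃ s₄ ρ := by
  obtain ⟨a, b, c, d, hnd, hT, hφ⟩ := (hV.root hv h1).exists_swap
  obtain ⟨a', b', c', d', hnd', hT', hφ'⟩ := (hV'.root hv' h1').exists_swap
  have hTc := hV.card
  have hTc' := hV'.card
  obtain ⟨e₁, he₁, e₂, he₂, hee⟩ : ∃ e₁ ∈ (Ω \ T) \ T', ∃ e₂ ∈ (Ω \ T) \ T', e₁ ≠ e₂ := by
    apply Finset.one_lt_card.mp
    have h2 := Finset.le_card_sdiff T Ω
    have h3 := Finset.le_card_sdiff T' (Ω \ T)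
    omega
  rw [Finset.mem_sdiff, Finset.mem_sdiff] at he₁ he₂
  obtain ⟨⟨he₁Ω, he₁T⟩, he₁T'⟩ := he₁
  obtain ⟨⟨he₂Ω, he₂T⟩, he₂T'⟩ := he₂
  have hTm : ∀ {x : α}, x ∈ T ↔ x = a ∨ x = b ∨ x = c ∨ x = d := by
    intro x; rw [hT, mem_four4]
  have hTm' : ∀ {x : α}, x ∈ T' ↔ x = a' ∨ x = b' ∨ x = c' ∨ x = d' := by
    intro x; rw [hT', mem_four4]
  have haT : a ∈ T := hTm.mpr (Or.inl rfl)
  have hbT : b ∈ T := hTm.mpr (Or.inr (Or.inl rfl))
  have hcT : c ∈ T := hTm.mpr (Or.inr (Or.inr (Or.inl rfl)))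
  have hdT : d ∈ T := hTm.mpr (Or.inr (Or.inr (Or.inr rfl)))
  have haT' : a' ∈ T' := hTm'.mpr (Or.inl rfl)
  have hbT' : b' ∈ T' := hTm'.mpr (Or.inr (Or.inl rfl))
  have hcT' : c' ∈ T' := hTm'.mpr (Or.inr (Or.inr (Or.inl rfl)))
  have hdT' : d' ∈ T' := hTm'.mpr (Or.inr (Or.inr (Or.inr rfl)))
  have hdis : ∀ {x y : α}, x ∈ T → y ∈ T' → x ≠ y := fun hx hy e =>
    Finset.disjoint_left.mp hd hx (e ▸ hy)
  have hne₁ : ∀ {x : α}, x ∈ T → x ≠ e₁ := fun hx e => he₁T (e ▸ hx)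
  have hne₂ : ∀ {x : α}, x ∈ T → x ≠ e₂ := fun hx e => he₂T (e ▸ hx)
  have hne₁' : ∀ {x : α}, x ∈ T' → x ≠ e₁ := fun hx e => he₁T' (e ▸ hx)
  have hne₂' : ∀ {x : α}, x ∈ T' → x ≠ e₂ := fun hx e => he₂T' (e ▸ hx)
  obtain ⟨⟨m1, m2, m3⟩, ⟨m4, m5⟩, m6⟩ := StdAlt.PermTypes.of_nodup_four hnd
  obtain ⟨⟨m1', m2', m3'⟩, ⟨m4', m5'⟩, m6'⟩ := StdAlt.PermTypes.of_nodup_four hnd'
  -- the labels
  obtain ⟨τ, hτ⟩ : ∃ τ, τ = swap a b * swap e₁ e₂ := ⟨_, rfl⟩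
  obtain ⟨τ', hτ'⟩ : ∃ τ', τ' = swap a' b' * swap e₁ e₂ := ⟨_, rfl⟩
  have hrτ : IsRoot τ := hτ ▸ StdAlt.Roots.isRoot_swap_mul m1 (hne₁ haT) (hne₂ haT) (hne₁ hbT)
    (hne₂ hbT) hee
  have hrτ' : IsRoot τ' := hτ' ▸ StdAlt.Roots.isRoot_swap_mul m1' (hne₁' haT') (hne₂' haT')
    (hne₁' hbT') (hne₂' hbT') hee
  have haltof : ∀ {x y z w : α}, x ∈ Ω → y ∈ Ω → z ∈ Ω → w ∈ Ω → x ≠ y → z ≠ w →
      swap x y * swap z w ∈ alt Ω := by
    intro x y z w hx hy hz hw hxy hzw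
    refine ⟨StdAlt.PermTypes.swap_mul_mem hxy hzw, fun p hp => ?_⟩
    have g1 : p ≠ x := fun e => hp (e ▸ hx)
    have g2 : p ≠ y := fun e => hp (e ▸ hy)
    have g3 : p ≠ z := fun e => hp (e ▸ hz)
    have g4 : p ≠ w := fun e => hp (e ▸ hw)
    rw [Perm.mul_apply, swap_apply_of_ne_of_ne g3 g4, swap_apply_of_ne_of_ne g1 g2]
  have hτalt : τ ∈ alt Ω := hτ ▸ haltof (hV.sub haT) (hV.sub hbT) he₁Ω he₂Ω m1 hee
  have hτalt' : τ' ∈ alt Ω := hτ' ▸ haltof (hV'.sub haT') (hV'.sub hbT') he₁Ω he₂Ω m1' hee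
  have hττ : τ * τ = 1 := hrτ.1
  have hττ' : τ' * τ' = 1 := hrτ'.1
  have hτfix : ∀ x ∈ T', τ x = x := by
    intro x hx
    rw [hτ, Perm.mul_apply, swap_apply_of_ne_of_ne (hne₁' hx) (hne₂' hx),
      swap_apply_of_ne_of_ne (hdis haT hx).symm (hdis hbT hx).symm]
  have hτfix' : ∀ x ∈ T, τ' x = x := by
    intro x hx
    rw [hτ', Perm.mul_apply, swap_apply_of_ne_of_ne (hne₁ hx) (hne₂ hx),
      swap_apply_of_ne_of_ne (hdis hx haT') (hdis hx hbT')]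
  have hinv : ∀ {σ : Perm α} {S : Finset α}, σ * σ = 1 → (∀ x ∈ S, σ x ∈ S) →
      ∀ x, σ x ∈ S ↔ x ∈ S := by
    intro σ S hσ h x
    refine ⟨fun hx => ?_, h x⟩
    have h2 := h _ hx
    rwa [← Perm.mul_apply, hσ] at h2
  have hτT : ∀ x, τ x ∈ T ↔ x ∈ T := by
    refine hinv hττ fun x hx => ?_
    rw [hτ, Perm.mul_apply, swap_apply_of_ne_of_ne (hne₁ hx) (hne₂ hx)]
    rcases hTm.mp hx with rfl | rfl | rfl | rfl
    · rw [swap_apply_left]; exact hbT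
    · rw [swap_apply_right]; exact haT
    · rw [swap_apply_of_ne_of_ne m2.symm m4.symm]; exact hcT
    · rw [swap_apply_of_ne_of_ne m3.symm m5.symm]; exact hdT
  have hτT' : ∀ x, τ' x ∈ T' ↔ x ∈ T' := by
    refine hinv hττ' fun x hx => ?_
    rw [hτ', Perm.mul_apply, swap_apply_of_ne_of_ne (hne₁' hx) (hne₂' hx)]
    rcases hTm'.mp hx with rfl | rfl | rfl | rfl
    · rw [swap_apply_left]; exact hbT'
    · rw [swap_apply_right]; exact haT'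
    · rw [swap_apply_of_ne_of_ne m2'.symm m4'.symm]; exact hcT'
    · rw [swap_apply_of_ne_of_ne m3'.symm m5'.symm]; exact hdT'
  have hab' : swap a b * swap a' b' = swap a' b' * swap a b :=
    swap_comm_of (StdAlt.PermTypes.nodup_four m1 (hdis haT haT') (hdis haT hbT') (hdis hbT haT')
      (hdis hbT hbT') m1')
  have hae : swap a b * swap e₁ e₂ = swap e₁ e₂ * swap a b :=
    swap_comm_of (StdAlt.PermTypes.nodup_four m1 (hne₁ haT) (hne₂ haT) (hne₁ hbT) (hne₂ hbT) hee)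
  have hae' : swap a' b' * swap e₁ e₂ = swap e₁ e₂ * swap a' b' :=
    swap_comm_of (StdAlt.PermTypes.nodup_four m1' (hne₁' haT') (hne₂' haT') (hne₁' hbT')
      (hne₂' hbT') hee)
  have hce : swap c d * swap e₁ e₂ = swap e₁ e₂ * swap c d :=
    swap_comm_of (StdAlt.PermTypes.nodup_four m6 (hne₁ hcT) (hne₂ hcT) (hne₁ hdT) (hne₂ hdT) hee)
  have hcomτ : τ * τ' = τ' * τ := by
    have g1 : Commute (swap a b) (swap a' b') := hab'
    have g2 : Commute (swap a b) (swap e₁ e₂) := hae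
    have g3 : Commute (swap a' b') (swap e₁ e₂) := hae'
    have g4 : Commute (swap a b * swap e₁ e₂) (swap a' b' * swap e₁ e₂) :=
      (g1.mul_right g2).mul_left (g3.symm.mul_right (Commute.refl _))
    rw [hτ, hτ']; exact g4
  have hprod : τ * τ' = swap a b * swap a' b' := by
    rw [hτ, hτ', mul_assoc, ← mul_assoc (swap e₁ e₂), ← hae', mul_assoc (swap a' b'),
      swap_mul_self, mul_one]
  -- the elements `s₁`, `s₃`
  have hσ1 : V4 a b c d (swap a c * swap b d) := Or.inr (Or.inr (Or.inl rfl))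
  have hσ3 : V4 a' b' c' d' (swap a' c' * swap b' d') := Or.inr (Or.inr (Or.inl rfl))
  obtain ⟨s₁, hs₁, hφ₁⟩ := hV.lift _ (hT ▸ ((V4_iff hnd).mp hσ1).1) ((V4_iff hnd).mp hσ1).2
  obtain ⟨s₃, hs₃, hφ₃⟩ := hV'.lift _ (hT' ▸ ((V4_iff hnd').mp hσ3).1) ((V4_iff hnd').mp hσ3).2
  -- `Q`
  obtain ⟨Q, q1, q2, q3, q4, q5, ⟨s₂, hs₂, hφ₂⟩, q7⟩ := exists_dih hV hV'.isPGroup
    (hV'.le.trans le_normalizer) (fun p hp w hw => (hc w hw p hp).symm) hτalt hττ hτT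
    (fun p hp => (comm_of_fix hτfix (alt_le_sym _ (hV'.mem p hp))).symm)
  -- `Q'`
  obtain ⟨Q', q1', q2', q3', q4', q5', ⟨s₄, hs₄, hφ₄⟩, q7'⟩ := exists_dih hV' q2
    (q1.trans le_normalizer) (fun p hp w hw => q4 p hp w hw) hτalt' hττ' hτT'
    (fun p hp => by
      have h2 : four T ⊔ zpowers τ ≤ centralizer ({τ'} : Set (Perm α)) := by
        refine sup_le (fun σ hσ => mem_centralizer_singleton_iff.mpr
          (comm_of_fix hτfix' (alt_le_sym _ (four_le_alt hTc hσ))).symm) ?_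
        rw [zpowers_le]
        exact mem_centralizer_singleton_iff.mpr hcomτ
      exact mem_centralizer_singleton_iff.mp (h2 (q5 p hp)))
  have hs₁Q := q3 hs₁
  have hvQ := q3 hv
  have hs₃Q := q3' hs₃
  have hv'Q := q3' hv'
  have hN : ∀ {q : G}, q ∈ Q → q ∈ normalizer (L : Set G) := fun h => le_normalizer (q1 h)
  have hN' : ∀ {q : G}, q ∈ Q' → q ∈ normalizer (L : Set G) := fun h => le_normalizer (q1' h)
  have hlab2 : M.φ s₁ * τ * (M.φ s₁)⁻¹ = swap c d * swap e₁ e₂ := by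
    have g1 : (swap a c * swap b d) a = c := by
      rw [Perm.mul_apply, swap_apply_of_ne_of_ne m1 m3, swap_apply_left]
    have g2 : (swap a c * swap b d) b = d := by
      rw [Perm.mul_apply, swap_apply_left, swap_apply_of_ne_of_ne m3.symm m6.symm]
    have g3 : ∀ {x : α}, x ∉ T → (swap a c * swap b d) x = x := by
      intro x hx
      rw [hTm] at hx
      push Not at hx
      rw [Perm.mul_apply, swap_apply_of_ne_of_ne hx.2.1 hx.2.2.2, swap_apply_of_ne_of_ne hx.1 hx.2.2.1]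
    rw [hφ₁, hτ, conj_swap_mul, g1, g2, g3 he₁T, g3 he₂T]
  have hlab4 : M.φ s₃ * τ' * (M.φ s₃)⁻¹ = swap c' d' * swap e₁ e₂ := by
    have g1 : (swap a' c' * swap b' d') a' = c' := by
      rw [Perm.mul_apply, swap_apply_of_ne_of_ne m1' m3', swap_apply_left]
    have g2 : (swap a' c' * swap b' d') b' = d' := by
      rw [Perm.mul_apply, swap_apply_left, swap_apply_of_ne_of_ne m3'.symm m6'.symm]
    have g3 : ∀ {x : α}, x ∉ T' → (swap a' c' * swap b' d') x = x := by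
      intro x hx
      rw [hTm'] at hx
      push Not at hx
      rw [Perm.mul_apply, swap_apply_of_ne_of_ne hx.2.1 hx.2.2.2, swap_apply_of_ne_of_ne hx.1 hx.2.2.1]
    rw [hφ₃, hτ', conj_swap_mul, g1, g2, g3 he₁T', g3 he₂T']
  have i₁ : (M.φ s₁)⁻¹ = M.φ s₁ :=
    inv_eq_of_mul_eq_one_left (M.sq (hN hs₁Q) (hV.sq s₁ hs₁))
  have i₃ : (M.φ s₃)⁻¹ = M.φ s₃ :=
    inv_eq_of_mul_eq_one_left (M.sq (hN' hs₃Q) (hV'.sq s₃ hs₃))
  have hg : s₁ * s₂ * (s₁ * s₂) = v := by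
    have h2 : s₁ * s₂ * (s₁ * s₂) * v⁻¹ = 1 := by
      apply q7 _ (mul_mem (mul_mem (mul_mem hs₁Q hs₂) (mul_mem hs₁Q hs₂)) (inv_mem hvQ))
      rw [M.mul _ _ (mul_mem (mul_mem (hN hs₁Q) (hN hs₂)) (mul_mem (hN hs₁Q) (hN hs₂)))
        (inv_mem (hN hvQ)), M.mul _ _ (mul_mem (hN hs₁Q) (hN hs₂)) (mul_mem (hN hs₁Q) (hN hs₂)),
        M.mul _ _ (hN hs₁Q) (hN hs₂), M.inv (hN hvQ), hφ₂, mul_inv_eq_one, hφ, ← mul_assoc]
      have h3 := hlab2
      rw [i₁] at h3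
      rw [h3, hτ, mul_assoc, ← mul_assoc (swap e₁ e₂), ← hae, mul_assoc (swap a b), swap_mul_self,
        mul_one]
      exact (swap_comm_of hnd).symm
    exact mul_inv_eq_one.mp h2
  have hh : s₃ * s₄ * (s₃ * s₄) = v' := by
    have h2 : s₃ * s₄ * (s₃ * s₄) * v'⁻¹ = 1 := by
      apply q7' _ (mul_mem (mul_mem (mul_mem hs₃Q hs₄) (mul_mem hs₃Q hs₄)) (inv_mem hv'Q))
      rw [M.mul _ _ (mul_mem (mul_mem (hN' hs₃Q) (hN' hs₄)) (mul_mem (hN' hs₃Q) (hN' hs₄)))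
        (inv_mem (hN' hv'Q)), M.mul _ _ (mul_mem (hN' hs₃Q) (hN' hs₄))
        (mul_mem (hN' hs₃Q) (hN' hs₄)), M.mul _ _ (hN' hs₃Q) (hN' hs₄), M.inv (hN' hv'Q), hφ₄,
        mul_inv_eq_one, hφ', ← mul_assoc]
      have h3 := hlab4
      rw [i₃] at h3
      rw [h3, hτ', mul_assoc, ← mul_assoc (swap e₁ e₂), ← hae', mul_assoc (swap a' b'),
        swap_mul_self, mul_one]
      exact (swap_comm_of hnd').symm
    exact mul_inv_eq_one.mp h2
  have hq2 : s₂ * s₂ = 1 := by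
    apply q7 _ (mul_mem hs₂ hs₂)
    rw [M.mul _ _ (hN hs₂) (hN hs₂), hφ₂, hττ]
  have hq4 : s₄ * s₄ = 1 := by
    apply q7' _ (mul_mem hs₄ hs₄)
    rw [M.mul _ _ (hN' hs₄) (hN' hs₄), hφ₄, hττ']
  have D : Dih2 s₁ s₂ s₃ s₄ v v' :=
    ⟨hV.sq s₁ hs₁, hq2, hV'.sq s₃ hs₃, hq4, hV.sq v hv, hV'.sq v' hv', hg, hh,
      (q4' s₃ hs₃Q s₁ hs₁Q).symm, (q4' s₄ hs₄ s₁ hs₁Q).symm, (q4' s₃ hs₃Q s₂ hs₂).symm,
      (q4' s₄ hs₄ s₂ hs₂).symm⟩
  -- roots
  have hv1 : ∀ {x y z w : α}, [x, y, z, w].Nodup → swap x y * swap z w ≠ 1 := by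
    intro x y z w h e
    obtain ⟨⟨n1, n2, n3⟩, -, -⟩ := StdAlt.PermTypes.of_nodup_four h
    have h2 := congrArg (fun f : Perm α => f x) e
    simp only [Perm.mul_apply, swap_apply_of_ne_of_ne n2 n3, swap_apply_left, Perm.one_apply] at h2
    exact n1 h2.symm
  have hs₁1 : s₁ ≠ 1 := by
    rintro rfl
    rw [M.one] at hφ₁
    exact hv1 (StdAlt.PermTypes.nodup_four m2 m1 m3 m4.symm m6 m5) hφ₁.symm
  have hs₃1 : s₃ ≠ 1 := by
    rintro rfl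
    rw [M.one] at hφ₃
    exact hv1 (StdAlt.PermTypes.nodup_four m2' m1' m3' m4'.symm m6' m5') hφ₃.symm
  have hs₁v : s₁ * v ≠ 1 := by
    intro e
    have h2 : s₁ = v := by
      rw [← inv_eq_of_mul_eq_one_left (hV.sq v hv)]
      exact mul_eq_one_iff_eq_inv.mp e
    rw [h2, hφ] at hφ₁
    have h3 := congrArg (fun f : Perm α => f a) hφ₁
    simp only [Perm.mul_apply, swap_apply_of_ne_of_ne m2 m3, swap_apply_left,
      swap_apply_of_ne_of_ne m1 m3] at h3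
    exact m4 h3
  have hs₃v' : s₃ * v' ≠ 1 := by
    intro e
    have h2 : s₃ = v' := by
      rw [← inv_eq_of_mul_eq_one_left (hV'.sq v' hv')]
      exact mul_eq_one_iff_eq_inv.mp e
    rw [h2, hφ'] at hφ₃
    have h3 := congrArg (fun f : Perm α => f a') hφ₃
    simp only [Perm.mul_apply, swap_apply_of_ne_of_ne m2' m3', swap_apply_left,
      swap_apply_of_ne_of_ne m1' m3'] at h3
    exact m4' h3
  have hr₂₄ : M.Rt (s₂ * s₄) := by
    refine ⟨mul_mem (q1 hs₂) (q1' hs₄), ?_, ?_⟩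
    · have h2 : s₂ * s₄ * (s₂ * s₄) = (s₂ * s₂) * (s₄ * s₄) := by
        rw [mul_assoc, ← mul_assoc s₄, ← D.c₂₄]; group
      rw [h2, hq2, hq4, mul_one]
    · rw [M.mul _ _ (hN hs₂) (hN' hs₄), hφ₂, hφ₄, hprod]
      exact StdAlt.Roots.isRoot_swap_mul m1 (hdis haT haT') (hdis haT hbT') (hdis hbT haT')
        (hdis hbT hbT') m1'
  -- `ρ`
  obtain ⟨w, hw⟩ : ∃ w, w = s₁ * s₂ * s₁ * s₄ := ⟨_, rfl⟩
  have hwL : w ∈ L := by
    rw [hw]
    exact mul_mem (mul_mem (mul_mem (q1 hs₁Q) (q1 hs₂)) (q1 hs₁Q)) (q1' hs₄)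
  have hwlab : M.φ w = swap c d * swap a' b' := by
    rw [hw, M.mul _ _ (mul_mem (mul_mem (hN hs₁Q) (hN hs₂)) (hN hs₁Q)) (hN' hs₄),
      M.mul _ _ (mul_mem (hN hs₁Q) (hN hs₂)) (hN hs₁Q), M.mul _ _ (hN hs₁Q) (hN hs₂), hφ₂, hφ₄]
    have h3 := hlab2
    rw [i₁] at h3
    rw [h3, hτ', mul_assoc, ← mul_assoc (swap e₁ e₂), ← hae', mul_assoc (swap a' b'),
      swap_mul_self, mul_one]
  have hww : w * w = 1 := by
    have h2 : Commute (s₁ * s₂ * s₁) s₄ :=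
      ((Commute.mul_left (show Commute s₁ s₄ from D.c₁₄) (show Commute s₂ s₄ from D.c₂₄)).mul_left
        (show Commute s₁ s₄ from D.c₁₄))
    have h3 : s₁ * s₂ * s₁ * (s₁ * s₂ * s₁) = 1 := by
      calc s₁ * s₂ * s₁ * (s₁ * s₂ * s₁) = s₁ * s₂ * (s₁ * s₁) * s₂ * s₁ := by group
        _ = s₁ * (s₂ * s₂) * s₁ := by rw [D.q₁]; group
        _ = 1 := by rw [D.q₂, mul_one, D.q₁]
    calc w * w = s₁ * s₂ * s₁ * (s₄ * (s₁ * s₂ * s₁)) * s₄ := by rw [hw]; group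
      _ = s₁ * s₂ * s₁ * ((s₁ * s₂ * s₁) * s₄) * s₄ := by rw [h2.eq]
      _ = (s₁ * s₂ * s₁ * (s₁ * s₂ * s₁)) * (s₄ * s₄) := by group
      _ = 1 := by rw [h3, hq4, mul_one]
  obtain ⟨r, hr⟩ : ∃ r, r = cyc a c a' * cyc b d b' := ⟨_, rfl⟩
  have hra : r a = c := by
    rw [hr, Perm.mul_apply, StdAlt.PermTypes.cyc_apply_of_ne m1 m3 (hdis haT hbT'),
      StdAlt.PermTypes.cyc_apply_fst (hdis haT haT') m2]
  have hrb : r b = d := by
    rw [hr, Perm.mul_apply, StdAlt.PermTypes.cyc_apply_fst (hdis hbT hbT') m5,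
      StdAlt.PermTypes.cyc_apply_of_ne m3.symm m6.symm (hdis hdT haT')]
  have hrc : r c = a' := by
    rw [hr, Perm.mul_apply, StdAlt.PermTypes.cyc_apply_of_ne m4.symm m6 (hdis hcT hbT'),
      StdAlt.PermTypes.cyc_apply_snd (hdis haT haT') (hdis hcT haT')]
  have hrd : r d = b' := by
    rw [hr, Perm.mul_apply, StdAlt.PermTypes.cyc_apply_snd (hdis hbT hbT') (hdis hdT hbT'),
      StdAlt.PermTypes.cyc_apply_of_ne (hdis haT hbT').symm (hdis hcT hbT').symm m1'.symm]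
  have hra' : r a' = a := by
    rw [hr, Perm.mul_apply, StdAlt.PermTypes.cyc_apply_of_ne (hdis hbT haT').symm
      (hdis hdT haT').symm m1', StdAlt.PermTypes.cyc_apply_thd]
  have hrb' : r b' = b := by
    rw [hr, Perm.mul_apply, StdAlt.PermTypes.cyc_apply_thd,
      StdAlt.PermTypes.cyc_apply_of_ne m1.symm m4 (hdis hbT haT')]
  have hrc' : r c' = c' := by
    rw [hr, Perm.mul_apply, StdAlt.PermTypes.cyc_apply_of_ne (hdis hbT hcT').symm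
      (hdis hdT hcT').symm m4'.symm, StdAlt.PermTypes.cyc_apply_of_ne (hdis haT hcT').symm
      (hdis hcT hcT').symm m2'.symm]
  have hrd' : r d' = d' := by
    rw [hr, Perm.mul_apply, StdAlt.PermTypes.cyc_apply_of_ne (hdis hbT hdT').symm
      (hdis hdT hdT').symm m5'.symm, StdAlt.PermTypes.cyc_apply_of_ne (hdis haT hdT').symm
      (hdis hcT hdT').symm m3'.symm]
  have hralt : r ∈ alt Ω := by
    rw [hr]
    exact mul_mem (cyc_mem_alt (hV.sub haT) (hV.sub hcT) (hV'.sub haT') m2 (hdis hcT haT'))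
      (cyc_mem_alt (hV.sub hbT) (hV.sub hdT) (hV'.sub hbT') m5 (hdis hdT hbT'))
  have hvL : v ∈ L := hV.le hv
  have hv'L : v' ∈ L := hV'.le hv'
  have hzN : v * v' ∈ normalizer (L : Set G) := le_normalizer (mul_mem hvL hv'L)
  have hzz : v * v' * (v * v') = 1 := by
    have h2 : v * v' * (v * v') = (v * v) * (v' * v') := by
      rw [mul_assoc, ← mul_assoc v', ← D.vv']; group
    rw [h2, D.qv, D.qv', mul_one]
  have hzlab : M.φ (v * v') = swap a b * swap c d * (swap a' b' * swap c' d') := by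
    rw [M.mul _ _ (le_normalizer hvL) (le_normalizer hv'L), hφ, hφ']
  have hcab : swap c d * swap a' b' = swap a' b' * swap c d :=
    swap_comm_of (StdAlt.PermTypes.nodup_four m6 (hdis hcT haT') (hdis hcT hbT') (hdis hdT haT')
      (hdis hdT hbT') m1')
  have hrz : M.φ (v * v') * r = r * M.φ (v * v') := by
    have h2 : r * (swap a b * swap c d * (swap a' b' * swap c' d')) * r⁻¹ =
        swap c d * swap a' b' * (swap a b * swap c' d') := by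
      have h3 : r * (swap a b * swap c d * (swap a' b' * swap c' d')) * r⁻¹ =
          r * (swap a b * swap c d) * r⁻¹ * (r * (swap a' b' * swap c' d') * r⁻¹) := by group
      rw [h3, conj_swap_mul, conj_swap_mul, hra, hrb, hrc, hrd, hra', hrb', hrc', hrd']
    have h3 : swap c d * swap a' b' * (swap a b * swap c' d') =
        swap a b * swap c d * (swap a' b' * swap c' d') := by
      calc swap c d * swap a' b' * (swap a b * swap c' d')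
          = swap c d * (swap a' b' * swap a b) * swap c' d' := by group
        _ = swap c d * (swap a b * swap a' b') * swap c' d' := by rw [hab']
        _ = (swap c d * swap a b) * (swap a' b' * swap c' d') := by group
        _ = _ := by rw [← swap_comm_of hnd]
    rw [hzlab]
    rw [h3, mul_inv_eq_iff_eq_mul] at h2
    exact h2.symm
  obtain ⟨r₀, hr₀, hr₀z, hr₀lab⟩ := M.exists_comm_lift hzN (n := 1)
    (by rw [pow_one, pow_two]; exact hzz) hralt hrz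
  have hxL : r₀ * v * r₀⁻¹ ∈ L := mul_mem (mul_mem hr₀ hvL) (inv_mem hr₀)
  have hxx : r₀ * v * r₀⁻¹ * (r₀ * v * r₀⁻¹) = 1 := by
    rw [show r₀ * v * r₀⁻¹ * (r₀ * v * r₀⁻¹) = r₀ * (v * v) * r₀⁻¹ by group, D.qv]; group
  have hxlab : M.φ (r₀ * v * r₀⁻¹) = M.φ w := by
    rw [M.conj (le_normalizer hr₀) (le_normalizer hvL), hr₀lab, hφ, conj_swap_mul, hra, hrb, hrc, hrd,
      hwlab]
  have hzv : Commute (v * v') v := (Commute.refl v).mul_left (show Commute v' v from D.vv'.symm)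
  have hzx : Commute (v * v') (r₀ * v * r₀⁻¹) := by
    have h2 : Commute (v * v') r₀ := hr₀z
    exact (h2.mul_right hzv).mul_right h2.inv_right
  have hzw : Commute (v * v') w := by
    have h2 : Commute (v * v') s₁ := Commute.mul_left D.v₁ D.v'₁
    have h3 : Commute (v * v') s₂ := Commute.mul_left D.v₂ D.v'₂
    have h4 : Commute (v * v') s₄ := Commute.mul_left D.v₄ D.v'₄
    rw [hw]
    exact ((h2.mul_right h3).mul_right h2).mul_right h4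
  have hlabz : ∀ {x : G}, x ∈ L → x * x = 1 → ∀ y ∈ zpowers x, M.φ y ∈ zpowers (M.φ x) := by
    intro x hx hxx y hy
    rcases eq_or_of_mem_zpowers hxx hy with rfl | rfl
    · rw [M.one]; exact one_mem _
    · exact mem_zpowers _
  have hlabz' : ∀ {x : G}, x ∈ L → x * x = 1 → ∀ σ ∈ zpowers (M.φ x), ∃ y ∈ zpowers x, M.φ y = σ := by
    intro x hx hxx σ hσ
    rcases eq_or_of_mem_zpowers (M.sq (le_normalizer hx) hxx) hσ with rfl | rfl
    · exact ⟨1, one_mem _, M.one⟩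
    · exact ⟨x, mem_zpowers _, rfl⟩
  have hcz : ∀ {x : G}, Commute (v * v') x → ∀ p ∈ zpowers (v * v'), ∀ y ∈ zpowers x,
      p * y = y * p := by
    intro x hx p hp y hy
    obtain ⟨m, rfl⟩ := mem_zpowers_iff.mp hp
    obtain ⟨n, rfl⟩ := mem_zpowers_iff.mp hy
    exact (hx.zpow_left m).zpow_right n
  obtain ⟨k, hk, hkz, hkx⟩ := M.exists_conj_two (V := zpowers (r₀ * v * r₀⁻¹)) (V' := zpowers w)
    (P := zpowers (v * v')) (by rw [zpowers_le]; exact hxL) (by rw [zpowers_le]; exact hwL)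
    (isPGroup_of_sq hxx) (isPGroup_of_sq hww) (hcz hzx) (hcz hzw) (T := zpowers (M.φ w))
    (by rw [← hxlab]; exact hlabz' hxL hxx) (hlabz' hwL hww)
    (by rw [← hxlab]; exact hlabz hxL hxx) (hlabz hwL hww)
  have hkL : k ∈ L := core_le L hk
  have hkxw : k * (r₀ * v * r₀⁻¹) * k⁻¹ = w := by
    have h2 : k * (r₀ * v * r₀⁻¹) * k⁻¹ ∈ zpowers w := by
      rw [← hkx]; exact conj_mem_cj (mem_zpowers _)
    rcases eq_or_of_mem_zpowers hww h2 with h3 | h3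
    · exfalso
      apply h1
      have h4 : k * r₀ * v * (k * r₀)⁻¹ = 1 := by rw [← h3]; group
      rw [mul_inv_eq_one] at h4
      exact mul_eq_left.mp h4
    · exact h3
  refine ⟨s₁, s₂, s₃, s₄, k * r₀, D, hs₁, hs₃, hV.rt hv h1, hV'.rt hv' h1', hV.rt hs₁ hs₁1,
    ⟨q1 hs₂, hq2, by rw [hφ₂]; exact hrτ⟩, hV'.rt hs₃ hs₃1, ⟨q1' hs₄, hq4, by rw [hφ₄]; exact hrτ'⟩,
    hV.rt (mul_mem hs₁ hv) hs₁v, hV'.rt (mul_mem hs₃ hv') hs₃v', hr₂₄, mul_mem hkL hr₀, ?_, ?_⟩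
  · have h2 : Commute (v * v') k := hkz _ (mem_zpowers _)
    have h3 : Commute (v * v') r₀ := hr₀z
    exact (h2.mul_right h3).symm
  · rw [← hw, ← hkxw]; group

end Cfsg.Agent.UAlt.Eleven
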