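import Cfsg.Agent.UAlt.Eleven.Duo

/-!
# `n = 11`: dihedral groups of roots and the involution interchanging them

`exists_dduo_swap`: `V`, `V*` disjoint commuting root four-groups, `v ∈ V`, `w ∈ V*`: the pair of dihedral groups
`⟨u, h⟩`, `⟨t, k⟩` with centres `⟨v⟩`, `⟨w⟩`, and a second pair `⟨r₁, h⟩`, `⟨r₂, h v⟩` with the same `z = v w`, such
that the involution `r₁ r₂` interchanges `u` and `t`.
-/

set_option autoImplicit false
set_option linter.unusedSectionVars false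

namespace Cfsg.Agent.UAlt

open Cfsg Equiv Equiv.Perm Subgroup
open Cfsg.Agent.Intrinsic.Basic Cfsg.Agent.Intrinsic Cfsg.Agent.Intrinsic.Cen Cfsg.Agent.Intrinsic.Diag
open Cfsg.Agent.SignalizersComponents Cfsg.Agent.Lib
open Cfsg.Agent.SignalizersComponents.IntrinsicBasic
open Cfsg.Agent.McLLyComp.Act
open Cfsg.Agent.UGT.Triple Cfsg.Agent.UGT.LemG Cfsg.Agent.UGT.PumpGen
open Cfsg.Agent.StdAlt Cfsg.Agent.StdAlt.Roots
open scoped commutatorElement

variable {G : Type*} [Group G] {α : Type*} [Fintype α] [DecidableEq α]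

namespace DuoSwap

/-- `r = (0 4)(1 5)(2 6)(3 7)` -/
def rr : Perm (Fin 11) := swap 0 4 * swap 1 5 * (swap 2 6 * swap 3 7)

/-- `⟨v, u⟩ × ⟨w, t⟩`, `⟨h, k⟩` and `r` -/
def PR : Set (Perm (Fin 11)) := PS ∪ {rr}

/-- `⟨v, w⟩ × ⟨h, k⟩` and `⟨r₁, r₂⟩` -/
def PR' : Set (Perm (Fin 11)) :=
  ({swap 0 1 * swap 2 3, swap 4 5 * swap 6 7} ∪ {swap 0 1 * swap 8 9, swap 4 5 * swap 8 9}) ∪
    {swap 0 4 * swap 1 5, swap 2 6 * swap 3 7}

theorem root_PR' : ∀ σ ∈ PR', IsRoot σ := by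
  rintro σ (((rfl | rfl) | (rfl | rfl)) | (rfl | rfl)) <;> exact ⟨by decide, by decide⟩

theorem isPGroup_PR : IsPGroup 2 (closure PR) := by
  refine isPGroup_union isPGroup_PS ?_ ?_ ?_
  · intro ⟨x, hx⟩
    have h1 : closure ({rr} : Set (Perm (Fin 11))) = zpowers rr := (zpowers_eq_closure rr).symm
    rw [h1] at hx
    have h2 : rr * rr = 1 := by decide
    obtain ⟨n, hn⟩ := mem_zpowers_iff.mp hx
    refine ⟨1, Subtype.ext ?_⟩
    change x ^ 2 ^ 1 = 1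
    rw [pow_one, ← hn, ← zpow_natCast, ← zpow_mul, mul_comm, zpow_mul, zpow_natCast, pow_two, h2, one_zpow]
  · rintro x rfl
    decide
  · have e1 : (rr * (swap 0 1 * swap 2 3) * rr : Perm (Fin 11)) = swap 4 5 * swap 6 7 := by decide
    have e2 : (rr * (swap 0 2 * swap 1 3) * rr : Perm (Fin 11)) = swap 4 6 * swap 5 7 := by decide
    have e3 : (rr * (swap 4 5 * swap 6 7) * rr : Perm (Fin 11)) = swap 0 1 * swap 2 3 := by decide
    have e4 : (rr * (swap 4 6 * swap 5 7) * rr : Perm (Fin 11)) = swap 0 2 * swap 1 3 := by decide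
    have e5 : (rr * (swap 0 1 * swap 8 9) * rr : Perm (Fin 11)) = swap 4 5 * swap 8 9 := by decide
    have e6 : (rr * (swap 4 5 * swap 8 9) * rr : Perm (Fin 11)) = swap 0 1 * swap 8 9 := by decide
    rintro x rfl s (((rfl | rfl) | (rfl | rfl)) | (rfl | rfl))
    · rw [e1]; exact subset_closure (Or.inl (Or.inr (Or.inl rfl)))
    · rw [e2]; exact subset_closure (Or.inl (Or.inr (Or.inr rfl)))
    · rw [e3]; exact subset_closure (Or.inl (Or.inl (Or.inl rfl)))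
    · rw [e4]; exact subset_closure (Or.inl (Or.inl (Or.inr rfl)))
    · rw [e5]; exact subset_closure (Or.inr (Or.inr rfl))
    · rw [e6]; exact subset_closure (Or.inr (Or.inl rfl))

theorem isPGroup_PR' : IsPGroup 2 (closure PR') := by
  refine isPGroup_union (isPGroup_union (ClSys.isPGroup_pair (by decide) (by decide) (by decide))
    (ClSys.isPGroup_pair (by decide) (by decide) (by decide)) ?_ ?_)
    (ClSys.isPGroup_pair (by decide) (by decide) (by decide)) ?_ ?_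
  · rintro x (rfl | rfl) <;> decide
  · rintro x (rfl | rfl) s (rfl | rfl)
    · exact subset_closure (Or.inl (by decide))
    · exact subset_closure (Or.inr (by decide))
    · exact subset_closure (Or.inl (by decide))
    · exact subset_closure (Or.inr (by decide))
  · rintro x (rfl | rfl) <;> decide
  · obtain ⟨v, hv⟩ : ∃ v : Perm (Fin 11), v = swap 0 1 * swap 2 3 := ⟨_, rfl⟩
    obtain ⟨w, hw⟩ : ∃ v : Perm (Fin 11), v = swap 4 5 * swap 6 7 := ⟨_, rfl⟩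
    obtain ⟨h, hh⟩ : ∃ v : Perm (Fin 11), v = swap 0 1 * swap 8 9 := ⟨_, rfl⟩
    obtain ⟨k, hk⟩ : ∃ v : Perm (Fin 11), v = swap 4 5 * swap 8 9 := ⟨_, rfl⟩
    have mv : v ∈ closure (({swap 0 1 * swap 2 3, swap 4 5 * swap 6 7} ∪
      {swap 0 1 * swap 8 9, swap 4 5 * swap 8 9} : Set (Perm (Fin 11)))) :=
      subset_closure (Or.inl (Or.inl hv))
    have mw : w ∈ closure (({swap 0 1 * swap 2 3, swap 4 5 * swap 6 7} ∪
      {swap 0 1 * swap 8 9, swap 4 5 * swap 8 9} : Set (Perm (Fin 11)))) :=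
      subset_closure (Or.inl (Or.inr hw))
    have mh : h ∈ closure (({swap 0 1 * swap 2 3, swap 4 5 * swap 6 7} ∪
      {swap 0 1 * swap 8 9, swap 4 5 * swap 8 9} : Set (Perm (Fin 11)))) :=
      subset_closure (Or.inr (Or.inl hh))
    have mk : k ∈ closure (({swap 0 1 * swap 2 3, swap 4 5 * swap 6 7} ∪
      {swap 0 1 * swap 8 9, swap 4 5 * swap 8 9} : Set (Perm (Fin 11)))) :=
      subset_closure (Or.inr (Or.inr hk))
    -- `r₁ = (0 4)(1 5)`: `v ↦ v h k`, `w ↦ w h k`, `h ↦ k`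
    have e1 : (swap 0 4 * swap 1 5 * (swap 0 1 * swap 2 3) * (swap 0 4 * swap 1 5) : Perm (Fin 11)) =
        v * h * k := by subst hh hk hv; decide
    have e2 : (swap 0 4 * swap 1 5 * (swap 4 5 * swap 6 7) * (swap 0 4 * swap 1 5) : Perm (Fin 11)) =
        w * h * k := by subst hh hk hw; decide
    have e3 : (swap 0 4 * swap 1 5 * (swap 0 1 * swap 8 9) * (swap 0 4 * swap 1 5) : Perm (Fin 11)) =
        k := by subst hk; decide
    have e4 : (swap 0 4 * swap 1 5 * (swap 4 5 * swap 8 9) * (swap 0 4 * swap 1 5) : Perm (Fin 11)) =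
        h := by subst hh; decide
    -- `r₂ = (2 6)(3 7)`
    have e5 : (swap 2 6 * swap 3 7 * (swap 0 1 * swap 2 3) * (swap 2 6 * swap 3 7) : Perm (Fin 11)) =
        w * h * k := by subst hh hk hw; decide
    have e6 : (swap 2 6 * swap 3 7 * (swap 4 5 * swap 6 7) * (swap 2 6 * swap 3 7) : Perm (Fin 11)) =
        v * h * k := by subst hh hk hv; decide
    have e7 : (swap 2 6 * swap 3 7 * (swap 0 1 * swap 8 9) * (swap 2 6 * swap 3 7) : Perm (Fin 11)) =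
        h := by subst hh; decide
    have e8 : (swap 2 6 * swap 3 7 * (swap 4 5 * swap 8 9) * (swap 2 6 * swap 3 7) : Perm (Fin 11)) =
        k := by subst hk; decide
    rintro x (rfl | rfl) s ((rfl | rfl) | (rfl | rfl))
    · rw [e1]; exact mul_mem (mul_mem mv mh) mk
    · rw [e2]; exact mul_mem (mul_mem mw mh) mk
    · rw [e3]; exact mk
    · rw [e4]; exact mh
    · rw [e5]; exact mul_mem (mul_mem mw mh) mk
    · rw [e6]; exact mul_mem (mul_mem mv mh) mk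
    · rw [e7]; exact mh
    · rw [e8]; exact mk

end DuoSwap

section exist

open DuoSwap

variable [Finite G] {L : Subgroup G} {Ω : Finset α} {M : Mod L Ω}

/-- **existence of the pair of dihedral groups of roots with the involution interchanging `u` and `t`** -/
theorem exists_dduo_swap (h11 : Ω.card = 11) {V V' : Subgroup G} {T T' : Finset α} (hV : RF M V T)
    (hV' : RF M V' T') (hd : Disjoint T T') (hc : Cm V V') {v w : G} (hv : v ∈ V) (hv1 : v ≠ 1)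
    (hw : w ∈ V') (hw1 : w ≠ 1) :
    ∃ u ∈ V, ∃ t ∈ V', ∃ h k r₁ r₂ : G, u ≠ 1 ∧ u ≠ v ∧ t ≠ 1 ∧ t ≠ w ∧
      DDuo M (v * w) v u h w t k ∧ DDuo M (v * w) (h * k) r₁ h (v * w * h * k) r₂ (h * v) ∧
        r₁ * r₂ * u = t * (r₁ * r₂) ∧ r₁ * r₂ * (r₁ * r₂) = 1 := by
  have rv := hV.rt hv hv1
  have rw' := hV'.rt hw hw1
  have hTv : (M.φ v).support = T := (hV.root hv hv1).supp_eq
  have hTw : (M.φ w).support = T' := (hV'.root hw hw1).supp_eq
  obtain ⟨ι, hΩ, lv, lw⟩ := exists_coord h11 rv rw' (by rw [hTv, hTw]; exact hd)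
  -- `u`, `t`
  have hu0 : IsRoot (swap 0 2 * swap 1 3 : Perm (Fin 11)) := ⟨by decide, by decide⟩
  have ht0 : IsRoot (swap 4 6 * swap 5 7 : Perm (Fin 11)) := ⟨by decide, by decide⟩
  obtain ⟨u, hu, lu⟩ := hV.lift (Lab ι (swap 0 2 * swap 1 3))
    ⟨even_of_isRoot (lab_root ι hu0), fun x hx => by
      rw [← hTv, notMem_support, lv] at hx
      exact lab_mono ι (by decide) hx⟩ (lab_root ι hu0).1
  obtain ⟨t, ht, lt⟩ := hV'.lift (Lab ι (swap 4 6 * swap 5 7))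
    ⟨even_of_isRoot (lab_root ι ht0), fun x hx => by
      rw [← hTw, notMem_support, lw] at hx
      exact lab_mono ι (by decide) hx⟩ (lab_root ι ht0).1
  have hvu : v * u = u * v := hV.comm hv hu
  have hwt : w * t = t * w := hV'.comm hw ht
  have hvv := hV.sq v hv
  have huu := hV.sq u hu
  have hww := hV'.sq w hw
  have htt := hV'.sq t ht
  -- `P`
  have hQ : IsPGroup 2 (closure ({v, u} ∪ {w, t} : Set G)) := by
    refine isPGroup_union (ClSys.isPGroup_pair hvv huu hvu) (ClSys.isPGroup_pair hww htt hwt) ?_ ?_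
    · rintro x (rfl | rfl)
      exacts [hww, htt]
    · have key : ∀ x s : G, x * x = 1 → s * x = x * s → x * s * x = s := by
        intro x s h1 h2
        rw [mul_assoc, h2, ← mul_assoc, h1, one_mul]
      rintro x (rfl | rfl) s (rfl | rfl)
      · rw [key _ _ hww (hc _ hv _ hw)]; exact subset_closure (Or.inl rfl)
      · rw [key _ _ hww (hc _ hu _ hw)]; exact subset_closure (Or.inr rfl)
      · rw [key _ _ htt (hc _ hv _ ht)]; exact subset_closure (Or.inl rfl)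
      · rw [key _ _ htt (hc _ hu _ ht)]; exact subset_closure (Or.inr rfl)
  have hm : closure ({v, u} ∪ {w, t} : Set G) ≤ M.above ((closure PR).map (Lab ι)) := by
    rw [closure_le]
    rintro x ((rfl | rfl) | (rfl | rfl))
    · exact ⟨hV.le hv, _, subset_closure (Or.inl (Or.inl (Or.inl (Or.inl rfl)))), lv.symm⟩
    · exact ⟨hV.le hu, _, subset_closure (Or.inl (Or.inl (Or.inl (Or.inr rfl)))), lu.symm⟩
    · exact ⟨hV'.le hw, _, subset_closure (Or.inl (Or.inl (Or.inr (Or.inl rfl)))), lw.symm⟩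
    · exact ⟨hV'.le ht, _, subset_closure (Or.inl (Or.inl (Or.inr (Or.inr rfl)))), lt.symm⟩
  -- `r` is even
  have hrle : (closure PR).map (Lab ι) ≤ alt Ω := by
    rw [Subgroup.map_le_iff_le_comap, closure_le]
    rintro σ (hσ | rfl)
    · exact lab_mem_alt ι hΩ (root_PS σ hσ)
    · have h1 : Lab ι rr = Lab ι (swap 0 4 * swap 1 5) * Lab ι (swap 2 6 * swap 3 7) := by
        rw [← map_mul]; rfl
      change Lab ι rr ∈ alt Ω
      rw [h1]
      exact mul_mem (lab_mem_alt ι hΩ ⟨by decide, by decide⟩) (lab_mem_alt ι hΩ ⟨by decide, by decide⟩)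
  obtain ⟨P, hQP, hPL, hP2, hPl, hP1⟩ := M.exists_two_ge hQ (isPGroup_PR.map (Lab ι)) hrle hm
  obtain ⟨ψ, hψ, hφ⟩ := exists_hom (M := M) hPL hP1
  obtain ⟨h, hhP, lh⟩ := hPl _ ⟨_, subset_closure (Or.inl (Or.inr (Or.inl rfl))), rfl⟩
  obtain ⟨k, hkP, lk⟩ := hPl _ ⟨_, subset_closure (Or.inl (Or.inr (Or.inr rfl))), rfl⟩
  obtain ⟨r, hrP, lr⟩ := hPl _ ⟨_, subset_closure (Or.inr rfl), rfl⟩
  have hvP : v ∈ P := hQP (subset_closure (Or.inl (Or.inl rfl)))
  have huP : u ∈ P := hQP (subset_closure (Or.inl (Or.inr rfl)))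
  have hwP : w ∈ P := hQP (subset_closure (Or.inr (Or.inl rfl)))
  have htP : t ∈ P := hQP (subset_closure (Or.inr (Or.inr rfl)))
  obtain ⟨v', hv'⟩ : ∃ v' : ↥P, v' = ⟨v, hvP⟩ := ⟨_, rfl⟩
  obtain ⟨u', hu'⟩ : ∃ u' : ↥P, u' = ⟨u, huP⟩ := ⟨_, rfl⟩
  obtain ⟨w', hw'⟩ : ∃ w' : ↥P, w' = ⟨w, hwP⟩ := ⟨_, rfl⟩
  obtain ⟨t', ht'⟩ : ∃ t' : ↥P, t' = ⟨t, htP⟩ := ⟨_, rfl⟩
  obtain ⟨h', hh'⟩ : ∃ h' : ↥P, h' = ⟨h, hhP⟩ := ⟨_, rfl⟩
  obtain ⟨k', hk'⟩ : ∃ k' : ↥P, k' = ⟨k, hkP⟩ := ⟨_, rfl⟩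
  obtain ⟨r', hr'⟩ : ∃ r' : ↥P, r' = ⟨r, hrP⟩ := ⟨_, rfl⟩
  have pv : ψ v' = Lab ι (swap 0 1 * swap 2 3) := by rw [hφ, hv']; exact lv
  have pu : ψ u' = Lab ι (swap 0 2 * swap 1 3) := by rw [hφ, hu']; exact lu
  have pw : ψ w' = Lab ι (swap 4 5 * swap 6 7) := by rw [hφ, hw']; exact lw
  have pt : ψ t' = Lab ι (swap 4 6 * swap 5 7) := by rw [hφ, ht']; exact lt
  have ph : ψ h' = Lab ι (swap 0 1 * swap 8 9) := by rw [hφ, hh']; exact lh
  have pk : ψ k' = Lab ι (swap 4 5 * swap 8 9) := by rw [hφ, hk']; exact lk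
  have pr : ψ r' = Lab ι rr := by rw [hφ, hr']; exact lr
  have ev : (v' : G) = v := by rw [hv']
  have eu : (u' : G) = u := by rw [hu']
  have ew : (w' : G) = w := by rw [hw']
  have et : (t' : G) = t := by rw [ht']
  have eh : (h' : G) = h := by rw [hh']
  have ek : (k' : G) = k := by rw [hk']
  have er : (r' : G) = r := by rw [hr']
  have rt : ∀ (p : ↥P) (σ : Perm (Fin 11)), ψ p = Lab ι σ → IsRoot σ → M.Rt (p : G) :=
    fun p σ h1 h2 => rt_of_lab ι hPL hψ hφ h1 h2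
  have rel : ∀ (p q : ↥P) (σ τ : Perm (Fin 11)), ψ p = Lab ι σ → ψ q = Lab ι τ → σ = τ →
      (p : G) = q := by
    rintro p q σ _ h1 h2 rfl
    exact congrArg Subtype.val (hψ (h1.trans h2.symm))
  have D : DDuo M (v * w) v u h w t k := by
    refine ⟨⟨rv, ?_, ?_, ?_, ?_, ?_⟩, ⟨rw', ?_, ?_, ?_, ?_, ?_⟩, ?_, ?_, ?_, ?_, rfl⟩
    · exact eu ▸ rt u' _ pu hu0
    · exact eh ▸ rt h' _ ph ⟨by decide, by decide⟩
    · have := rt (u' * v') (swap 0 2 * swap 1 3 * (swap 0 1 * swap 2 3)) (by rw [map_mul, pu, pv, ← map_mul])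
        ⟨by decide, by decide⟩
      rwa [Subgroup.coe_mul, eu, ev] at this
    · have := rt (h' * v') (swap 0 1 * swap 8 9 * (swap 0 1 * swap 2 3)) (by rw [map_mul, ph, pv, ← map_mul])
        ⟨by decide, by decide⟩
      rwa [Subgroup.coe_mul, eh, ev] at this
    · have := rel (u' * h' * (u' * h')) v' _ _ (by rw [map_mul, map_mul, pu, ph, ← map_mul, ← map_mul]) pv
        (by decide)
      rwa [Subgroup.coe_mul, Subgroup.coe_mul, eu, eh, ev] at this
    · exact et ▸ rt t' _ pt ht0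
    · exact ek ▸ rt k' _ pk ⟨by decide, by decide⟩
    · have := rt (t' * w') (swap 4 6 * swap 5 7 * (swap 4 5 * swap 6 7)) (by rw [map_mul, pt, pw, ← map_mul])
        ⟨by decide, by decide⟩
      rwa [Subgroup.coe_mul, et, ew] at this
    · have := rt (k' * w') (swap 4 5 * swap 8 9 * (swap 4 5 * swap 6 7)) (by rw [map_mul, pk, pw, ← map_mul])
        ⟨by decide, by decide⟩
      rwa [Subgroup.coe_mul, ek, ew] at this
    · have := rel (t' * k' * (t' * k')) w' _ _ (by rw [map_mul, map_mul, pt, pk, ← map_mul, ← map_mul]) pw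
        (by decide)
      rwa [Subgroup.coe_mul, Subgroup.coe_mul, et, ek, ew] at this
    · exact hc u hu t ht
    · have := rel (u' * k') (k' * u') _ _ (by rw [map_mul, pu, pk, ← map_mul])
        (by rw [map_mul, pu, pk, ← map_mul]) (by decide)
      rwa [Subgroup.coe_mul, Subgroup.coe_mul, eu, ek] at this
    · have := rel (h' * t') (t' * h') _ _ (by rw [map_mul, ph, pt, ← map_mul])
        (by rw [map_mul, ph, pt, ← map_mul]) (by decide)
      rwa [Subgroup.coe_mul, Subgroup.coe_mul, eh, et] at this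
    · have := rel (h' * k') (k' * h') _ _ (by rw [map_mul, ph, pk, ← map_mul])
        (by rw [map_mul, ph, pk, ← map_mul]) (by decide)
      rwa [Subgroup.coe_mul, Subgroup.coe_mul, eh, ek] at this
  have hru : r * u = t * r := by
    have := rel (r' * u') (t' * r') _ _ (by rw [map_mul, pr, pu, ← map_mul])
      (by rw [map_mul, pr, pt, ← map_mul]) (by decide)
    rwa [Subgroup.coe_mul, Subgroup.coe_mul, er, eu, et] at this
  have hrr : r * r = 1 := by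
    have := rel (r' * r') 1 (rr * rr) 1 (by rw [map_mul, pr, ← map_mul]) (by rw [map_one, map_one])
      (by decide)
    rwa [Subgroup.coe_mul, er, Subgroup.coe_one] at this
  -- `P'`
  have hQ' : IsPGroup 2 (closure (({v, w} ∪ {h, k}) ∪ {r} : Set G)) := by
    refine hP2.to_le ?_
    rw [closure_le]
    rintro x (((rfl | rfl) | (rfl | rfl)) | rfl) <;> assumption
  have hm' : closure (({v, w} ∪ {h, k}) ∪ {r} : Set G) ≤ M.above ((closure PR').map (Lab ι)) := by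
    rw [closure_le]
    rintro x (((rfl | rfl) | (rfl | rfl)) | rfl)
    · exact ⟨hV.le hv, _, subset_closure (Or.inl (Or.inl (Or.inl rfl))), lv.symm⟩
    · exact ⟨hV'.le hw, _, subset_closure (Or.inl (Or.inl (Or.inr rfl))), lw.symm⟩
    · exact ⟨hPL hhP, _, subset_closure (Or.inl (Or.inr (Or.inl rfl))), lh.symm⟩
    · exact ⟨hPL hkP, _, subset_closure (Or.inl (Or.inr (Or.inr rfl))), lk.symm⟩
    · exact ⟨hPL hrP, rr, mul_mem (subset_closure (Or.inr (Or.inl rfl)))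
        (subset_closure (Or.inr (Or.inr rfl))), lr.symm⟩
  obtain ⟨R, hQR, hRL, hR2, hRl, hR1⟩ := M.exists_two_ge hQ' (isPGroup_PR'.map (Lab ι))
    (labS_le ι hΩ root_PR') hm'
  obtain ⟨χ, hχ, hχφ⟩ := exists_hom (M := M) hRL hR1
  obtain ⟨r₁, hr₁R, lr₁⟩ := hRl _ ⟨_, subset_closure (Or.inr (Or.inl rfl)), rfl⟩
  obtain ⟨r₂, hr₂R, lr₂⟩ := hRl _ ⟨_, subset_closure (Or.inr (Or.inr rfl)), rfl⟩
  have hvR : v ∈ R := hQR (subset_closure (Or.inl (Or.inl (Or.inl rfl))))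
  have hwR : w ∈ R := hQR (subset_closure (Or.inl (Or.inl (Or.inr rfl))))
  have hhR : h ∈ R := hQR (subset_closure (Or.inl (Or.inr (Or.inl rfl))))
  have hkR : k ∈ R := hQR (subset_closure (Or.inl (Or.inr (Or.inr rfl))))
  have hrR : r ∈ R := hQR (subset_closure (Or.inr rfl))
  obtain ⟨V₀, hV₀⟩ : ∃ x : ↥R, x = ⟨v, hvR⟩ := ⟨_, rfl⟩
  obtain ⟨W₀, hW₀⟩ : ∃ x : ↥R, x = ⟨w, hwR⟩ := ⟨_, rfl⟩
  obtain ⟨H₀, hH₀⟩ : ∃ x : ↥R, x = ⟨h, hhR⟩ := ⟨_, rfl⟩
  obtain ⟨K₀, hK₀⟩ : ∃ x : ↥R, x = ⟨k, hkR⟩ := ⟨_, rfl⟩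
  obtain ⟨A₀, hA₀⟩ : ∃ x : ↥R, x = ⟨r₁, hr₁R⟩ := ⟨_, rfl⟩
  obtain ⟨B₀, hB₀⟩ : ∃ x : ↥R, x = ⟨r₂, hr₂R⟩ := ⟨_, rfl⟩
  obtain ⟨R₀, hR₀⟩ : ∃ x : ↥R, x = ⟨r, hrR⟩ := ⟨_, rfl⟩
  have qv : χ V₀ = Lab ι (swap 0 1 * swap 2 3) := by rw [hχφ, hV₀]; exact lv
  have qw : χ W₀ = Lab ι (swap 4 5 * swap 6 7) := by rw [hχφ, hW₀]; exact lw
  have qh : χ H₀ = Lab ι (swap 0 1 * swap 8 9) := by rw [hχφ, hH₀]; exact lh
  have qk : χ K₀ = Lab ι (swap 4 5 * swap 8 9) := by rw [hχφ, hK₀]; exact lk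
  have qa : χ A₀ = Lab ι (swap 0 4 * swap 1 5) := by rw [hχφ, hA₀]; exact lr₁
  have qb : χ B₀ = Lab ι (swap 2 6 * swap 3 7) := by rw [hχφ, hB₀]; exact lr₂
  have qr : χ R₀ = Lab ι rr := by rw [hχφ, hR₀]; exact lr
  have fv : (V₀ : G) = v := by rw [hV₀]
  have fw : (W₀ : G) = w := by rw [hW₀]
  have fh : (H₀ : G) = h := by rw [hH₀]
  have fk : (K₀ : G) = k := by rw [hK₀]
  have fa : (A₀ : G) = r₁ := by rw [hA₀]
  have fb : (B₀ : G) = r₂ := by rw [hB₀]
  have fr : (R₀ : G) = r := by rw [hR₀]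
  have rt' : ∀ (p : ↥R) (σ : Perm (Fin 11)), χ p = Lab ι σ → IsRoot σ → M.Rt (p : G) :=
    fun p σ h1 h2 => rt_of_lab ι hRL hχ hχφ h1 h2
  have rel' : ∀ (p q : ↥R) (σ τ : Perm (Fin 11)), χ p = Lab ι σ → χ q = Lab ι τ → σ = τ →
      (p : G) = q := by
    rintro p q σ _ h1 h2 rfl
    exact congrArg Subtype.val (hχ (h1.trans h2.symm))
  have hr : r₁ * r₂ = r := by
    have := rel' (A₀ * B₀) R₀ _ _ (by rw [map_mul, qa, qb, ← map_mul]) qr (by decide)
    rwa [Subgroup.coe_mul, fa, fb, fr] at this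
  have D' : DDuo M (v * w) (h * k) r₁ h (v * w * h * k) r₂ (h * v) := by
    have qhk : χ (H₀ * K₀) = Lab ι (swap 0 1 * swap 4 5) := by
      rw [map_mul, qh, qk, ← map_mul]
      exact congrArg _ (by decide)
    have qz : χ (V₀ * W₀ * H₀ * K₀) = Lab ι (swap 2 3 * swap 6 7) := by
      rw [map_mul, map_mul, map_mul, qv, qw, qh, qk, ← map_mul, ← map_mul, ← map_mul]
      exact congrArg _ (by decide)
    have qhv : χ (H₀ * V₀) = Lab ι (swap 2 3 * swap 8 9) := by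
      rw [map_mul, qh, qv, ← map_mul]
      exact congrArg _ (by decide)
    have fhk : ((H₀ * K₀ : ↥R) : G) = h * k := by rw [Subgroup.coe_mul, fh, fk]
    have fz : ((V₀ * W₀ * H₀ * K₀ : ↥R) : G) = v * w * h * k := by
      rw [Subgroup.coe_mul, Subgroup.coe_mul, Subgroup.coe_mul, fv, fw, fh, fk]
    have fhv : ((H₀ * V₀ : ↥R) : G) = h * v := by rw [Subgroup.coe_mul, fh, fv]
    refine ⟨⟨?_, ?_, ?_, ?_, ?_, ?_⟩, ⟨?_, ?_, ?_, ?_, ?_, ?_⟩, ?_, ?_, ?_, ?_, ?_⟩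
    · exact fhk ▸ rt' _ _ qhk ⟨by decide, by decide⟩
    · exact fa ▸ rt' _ _ qa ⟨by decide, by decide⟩
    · exact D.d1.rh
    · have := rt' (A₀ * (H₀ * K₀)) _ (by rw [map_mul, qa, qhk, ← map_mul]) ⟨by decide, by decide⟩
      rwa [Subgroup.coe_mul, fhk, fa] at this
    · have := rt' (H₀ * (H₀ * K₀)) _ (by rw [map_mul, qh, qhk, ← map_mul]) ⟨by decide, by decide⟩
      rwa [Subgroup.coe_mul, fhk, fh] at this
    · have := rel' (A₀ * H₀ * (A₀ * H₀)) (H₀ * K₀) _ _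
        (by rw [map_mul, map_mul, qa, qh, ← map_mul, ← map_mul]) qhk (by decide)
      rwa [Subgroup.coe_mul, Subgroup.coe_mul, fhk, fh, fa] at this
    · exact fz ▸ rt' _ _ qz ⟨by decide, by decide⟩
    · exact fb ▸ rt' _ _ qb ⟨by decide, by decide⟩
    · exact D.d1.rhv
    · have := rt' (B₀ * (V₀ * W₀ * H₀ * K₀)) _ (by rw [map_mul, qb, qz, ← map_mul]) ⟨by decide, by decide⟩
      rwa [Subgroup.coe_mul, fz, fb] at this
    · have := rt' (H₀ * V₀ * (V₀ * W₀ * H₀ * K₀)) _ (by rw [map_mul, qhv, qz, ← map_mul])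
        ⟨by decide, by decide⟩
      rwa [Subgroup.coe_mul, fz, fhv] at this
    · have := rel' (B₀ * (H₀ * V₀) * (B₀ * (H₀ * V₀))) (V₀ * W₀ * H₀ * K₀) _ _
        (by rw [map_mul, map_mul, qb, qhv, ← map_mul, ← map_mul]) qz (by decide)
      rwa [Subgroup.coe_mul, Subgroup.coe_mul, fz, fhv, fb] at this
    · have := rel' (A₀ * B₀) (B₀ * A₀) _ _ (by rw [map_mul, qa, qb, ← map_mul])
        (by rw [map_mul, qa, qb, ← map_mul]) (by decide)
      rwa [Subgroup.coe_mul, Subgroup.coe_mul, fa, fb] at this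
    · have := rel' (A₀ * (H₀ * V₀)) (H₀ * V₀ * A₀) _ _ (by rw [map_mul, qa, qhv, ← map_mul])
        (by rw [map_mul, qa, qhv, ← map_mul]) (by decide)
      simp only [Subgroup.coe_mul, fh, fv, fa] at this
      exact this
    · have := rel' (H₀ * B₀) (B₀ * H₀) _ _ (by rw [map_mul, qh, qb, ← map_mul])
        (by rw [map_mul, qh, qb, ← map_mul]) (by decide)
      rwa [Subgroup.coe_mul, Subgroup.coe_mul, fh, fb] at this
    · have := rel' (H₀ * (H₀ * V₀)) (H₀ * V₀ * H₀) _ _ (by rw [map_mul, qhv, qh, ← map_mul])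
        (by rw [map_mul, qhv, qh, ← map_mul]) (by decide)
      simp only [Subgroup.coe_mul, fh, fv] at this
      exact this
    · have := rel' (V₀ * W₀) (H₀ * K₀ * (V₀ * W₀ * H₀ * K₀)) _ _ (by rw [map_mul, qv, qw, ← map_mul])
        (by rw [map_mul, qhk, qz, ← map_mul]) (by decide)
      rwa [Subgroup.coe_mul, Subgroup.coe_mul, fhk, fz, fv, fw] at this
  refine ⟨u, hu, t, ht, h, k, r₁, r₂, ?_, ?_, ?_, ?_, D, D', ?_, ?_⟩
  · exact D.d1.ru.ne_one
  · rintro rfl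
    exact D.d1.ruv.ne_one (hV.sq _ hu)
  · exact D.d2.ru.ne_one
  · rintro rfl
    exact D.d2.ruv.ne_one (hV'.sq _ ht)
  · rw [hr]
    exact hru
  · rw [hr]
    exact hrr

end exist

end Cfsg.Agent.UAlt
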