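import Cfsg.Agent.UAlt.AltOn

/-!
# The extraspecial group `2^{1+4}_+` (the central product of two dihedral groups of order 8)

* `Q32`: the group of order 32 as a set of 5-tuples.
* `Ex p r p' r' c`: generators of a quotient of `Q32` in which the centre `c` survives.
* `Ex.card_support`: acting on few points the centre moves exactly eight points.
* `Ex.eq_of_comm`: the permutations commuting with the generators are `1` or `c` on these points.
-/

set_option autoImplicit false
set_option linter.unusedSectionVars false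

namespace Cfsg.Agent.UAlt.Eleven.ExtraPerm

/-- the group `2^{1+4}_+` -/
@[ext] structure Q32 where
  i : ZMod 2
  j : ZMod 2
  k : ZMod 2
  l : ZMod 2
  m : ZMod 2
  deriving DecidableEq, Fintype

namespace Q32

instance : Mul Q32 :=
  ⟨fun a b => ⟨a.i + b.i, a.j + b.j, a.k + b.k, a.l + b.l, a.m + b.m + a.j * b.i + a.l * b.k⟩⟩

instance : One Q32 := ⟨⟨0, 0, 0, 0, 0⟩⟩

instance : Inv Q32 := ⟨fun a => ⟨a.i, a.j, a.k, a.l, a.m + a.j * a.i + a.l * a.k⟩⟩

theorem mul_def (a b : Q32) : a * b =
    ⟨a.i + b.i, a.j + b.j, a.k + b.k, a.l + b.l, a.m + b.m + a.j * b.i + a.l * b.k⟩ := rfl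

theorem one_def : (1 : Q32) = ⟨0, 0, 0, 0, 0⟩ := rfl

theorem inv_def (a : Q32) : a⁻¹ = ⟨a.i, a.j, a.k, a.l, a.m + a.j * a.i + a.l * a.k⟩ := rfl

instance : Group Q32 :=
  Group.ofLeftAxioms
    (by
      intro a b c
      simp only [mul_def, Q32.mk.injEq]
      refine ⟨?_, ?_, ?_, ?_, ?_⟩ <;> ring)
    (by
      intro a
      ext <;> simp [mul_def, one_def])
    (by
      intro a
      ext <;> simp only [mul_def, inv_def, one_def]
      · exact CharTwo.add_self_eq_zero _
      · exact CharTwo.add_self_eq_zero _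
      · exact CharTwo.add_self_eq_zero _
      · exact CharTwo.add_self_eq_zero _
      · have h : ∀ x y z : ZMod 2, x + y + z + x + y + z = 0 := by decide
        exact h _ _ _)

theorem card_eq : Nat.card Q32 = 32 := by
  rw [Nat.card_eq_fintype_card]
  rfl

/-- the central involution -/
def z : Q32 := ⟨0, 0, 0, 0, 1⟩

/-- the commutator form -/
def om (a b : Q32) : ZMod 2 := a.i * b.j + a.j * b.i + a.k * b.l + a.l * b.k

theorem mul_comm_om (a b : Q32) : a * b = b * a * ⟨0, 0, 0, 0, om a b⟩ := by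
  simp only [mul_def, om, Q32.mk.injEq, add_zero, mul_zero]
  refine ⟨by ring, by ring, by ring, by ring, ?_⟩
  have h : ∀ x y u v w s : ZMod 2, x + y + u + v = y + x + w + s + (w + u + s + v) := by decide
  convert h a.m b.m (a.j * b.i) (a.l * b.k) (b.j * a.i) (b.l * a.k) using 2
  ring

/-- the image modulo the centre -/
def v (a : Q32) : ZMod 2 × ZMod 2 × ZMod 2 × ZMod 2 := (a.i, a.j, a.k, a.l)

/-- the form on `Q32 / Z` -/
def om4 (a b : ZMod 2 × ZMod 2 × ZMod 2 × ZMod 2) : ZMod 2 :=
  a.1 * b.2.1 + a.2.1 * b.1 + a.2.2.1 * b.2.2.2 + a.2.2.2 * b.2.2.1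

theorem v_mul (a b : Q32) : v (a * b) = v a + v b := rfl

theorem v_one : v 1 = 0 := rfl

theorem om_eq (a b : Q32) : om a b = om4 (v a) (v b) := rfl

def isoB (a b d : ZMod 2 × ZMod 2 × ZMod 2 × ZMod 2) : Bool :=
  decide (a = 0) || decide (b = 0) || decide (a = b) || decide (om4 a b ≠ 0) || decide (om4 a d ≠ 0) ||
    decide (om4 b d ≠ 0) || decide (d = 0) || decide (d = a) || decide (d = b) || decide (d = a + b)

set_option maxRecDepth 100000 in
theorem isoB_eq : ∀ a b d : ZMod 2 × ZMod 2 × ZMod 2 × ZMod 2, isoB a b d = true := by decide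

theorem iso {a b d : ZMod 2 × ZMod 2 × ZMod 2 × ZMod 2} (ha : a ≠ 0) (hb : b ≠ 0) (hab : a ≠ b)
    (h1 : om4 a b = 0) (h2 : om4 a d = 0) (h3 : om4 b d = 0) : d = 0 ∨ d = a ∨ d = b ∨ d = a + b := by
  have h := isoB_eq a b d
  simp only [isoB, Bool.or_eq_true, decide_eq_true_eq] at h
  tauto

def nonB (a : ZMod 2 × ZMod 2 × ZMod 2 × ZMod 2) : Bool :=
  decide (a = 0) || decide (om4 (1, 0, 0, 0) a = 1) || decide (om4 (0, 1, 0, 0) a = 1) ||
    decide (om4 (0, 0, 1, 0) a = 1) || decide (om4 (0, 0, 0, 1) a = 1)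

theorem nonB_eq : ∀ a : ZMod 2 × ZMod 2 × ZMod 2 × ZMod 2, nonB a = true := by decide

/-- the form is nondegenerate -/
theorem exists_om {a : Q32} (h : v a ≠ 0) : ∃ s : Q32, om s a = 1 := by
  have h1 := nonB_eq (v a)
  simp only [nonB, Bool.or_eq_true, decide_eq_true_eq] at h1
  rcases h1 with (((h1 | h1) | h1) | h1) | h1
  · exact absurd h1 h
  · exact ⟨⟨1, 0, 0, 0, 0⟩, h1⟩
  · exact ⟨⟨0, 1, 0, 0, 0⟩, h1⟩
  · exact ⟨⟨0, 0, 1, 0, 0⟩, h1⟩
  · exact ⟨⟨0, 0, 0, 1, 0⟩, h1⟩

theorem v_eq_zero {a : Q32} (h : v a = 0) : a = 1 ∨ a = z := by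
  obtain ⟨i, j, k, l, m⟩ := a
  simp only [v, Prod.mk_eq_zero] at h
  obtain ⟨rfl, rfl, rfl, rfl⟩ := h
  have : m = 0 ∨ m = 1 := by revert m; decide
  rcases this with rfl | rfl
  · exact Or.inl rfl
  · exact Or.inr rfl

theorem sq_eq (a : Q32) : a * a = 1 ∨ a * a = z := by
  have h2 : ∀ t : ZMod 2, t + t = 0 := by decide
  apply v_eq_zero
  rw [v_mul]
  ext <;> exact h2 _

theorem mul_z (a : Q32) : a * z = z * a := by
  simp only [mul_def, z, Q32.mk.injEq]
  refine ⟨by ring, by ring, by ring, by ring, by ring⟩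

theorem z_mul_z : z * z = 1 := by decide

section sub

variable {H : Subgroup Q32} (hz : z ∉ H)
include hz

theorem om_of_mem {a b : Q32} (ha : a ∈ H) (hb : b ∈ H) : om a b = 0 := by
  have : om a b = 0 ∨ om a b = 1 := by
    have : ∀ t : ZMod 2, t = 0 ∨ t = 1 := by decide
    exact this _
  rcases this with h | h
  · exact h
  · exfalso
    apply hz
    have h1 := mul_comm_om a b
    rw [h] at h1
    have h2 : z = (b * a)⁻¹ * (a * b) := by
      rw [h1]; exact (inv_mul_cancel_left _ _).symm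
    rw [h2]
    exact mul_mem (inv_mem (mul_mem hb ha)) (mul_mem ha hb)

theorem inj_of_mem {a b : Q32} (ha : a ∈ H) (hb : b ∈ H) (h : v a = v b) : a = b := by
  have h1 : v (a⁻¹ * b) = 0 := by
    have h2 : v (a * (a⁻¹ * b)) = v a + v (a⁻¹ * b) := v_mul _ _
    rw [mul_inv_cancel_left, h] at h2
    exact left_eq_add.mp h2
  rcases v_eq_zero h1 with h2 | h2
  · exact inv_mul_eq_one.mp h2
  · exact absurd (h2 ▸ mul_mem (inv_mem ha) hb) hz

theorem v_ne_zero {a : Q32} (ha : a ∈ H) (h1 : a ≠ 1) : v a ≠ 0 := fun h =>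
  h1 (inj_of_mem hz ha (one_mem H) h)

theorem exists_pair (h3 : 3 ≤ Nat.card H) : ∃ a ∈ H, ∃ b ∈ H, v a ≠ 0 ∧ v b ≠ 0 ∧ v a ≠ v b := by
  have hS : (H : Set Q32).ncard = Nat.card H := rfl
  obtain ⟨a, ha, ha1⟩ := Set.exists_mem_notMem_of_ncard_lt_ncard
    (s := ({1} : Set Q32)) (t := (H : Set Q32)) (by rw [hS, Set.ncard_singleton]; omega)
    (Set.finite_singleton _)
  obtain ⟨b, hb, hb1⟩ := Set.exists_mem_notMem_of_ncard_lt_ncard
    (s := ({1, a} : Set Q32)) (t := (H : Set Q32)) (by
      have h1 := Set.ncard_insert_le (1 : Q32) {a}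
      rw [Set.ncard_singleton] at h1
      rw [hS]; omega) (Set.toFinite _)
  rw [Set.mem_singleton_iff] at ha1
  simp only [Set.mem_insert_iff, Set.mem_singleton_iff, not_or] at hb1
  exact ⟨a, ha, b, hb, v_ne_zero hz ha ha1, v_ne_zero hz hb hb1.1, fun h =>
    hb1.2 (inj_of_mem hz ha hb h).symm⟩

/-- an element commuting with `H`, `|H| ≥ 3`, lies in `H × ⟨z⟩` -/
theorem perp (h3 : 3 ≤ Nat.card H) {q : Q32} (hq : ∀ a ∈ H, om a q = 0) : ∃ a ∈ H, q = a ∨ q = a * z := by
  obtain ⟨a, ha, b, hb, h1, h2, h12⟩ := exists_pair hz h3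
  have key : ∀ a ∈ H, v q = v a → ∃ a ∈ H, q = a ∨ q = a * z := by
    intro a ha h
    refine ⟨a, ha, ?_⟩
    have h2 : v (a * (a⁻¹ * q)) = v a + v (a⁻¹ * q) := v_mul _ _
    rw [mul_inv_cancel_left, h] at h2
    rcases v_eq_zero (left_eq_add.mp h2) with h3 | h3
    · exact Or.inl (inv_mul_eq_one.mp h3).symm
    · right; rw [← h3, mul_inv_cancel_left]
  have e1 : om4 (v a) (v b) = 0 := by rw [← om_eq]; exact om_of_mem hz ha hb
  have e2 : om4 (v a) (v q) = 0 := by rw [← om_eq]; exact hq a ha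
  have e3 : om4 (v b) (v q) = 0 := by rw [← om_eq]; exact hq b hb
  rcases iso h1 h2 h12 e1 e2 e3 with h | h | h | h
  · exact key 1 (one_mem H) (by rw [h, v_one])
  · exact key a ha h
  · exact key b hb h
  · exact key (a * b) (mul_mem ha hb) (by rw [h, v_mul])

theorem card_le : Nat.card H ≤ 4 := by
  by_contra hcon
  rw [not_le] at hcon
  obtain ⟨a, ha, b, hb, h1, h2, h12⟩ := exists_pair hz (by omega)
  have hS : (H : Set Q32).ncard = Nat.card H := rfl
  obtain ⟨d, hd, hd1⟩ := Set.exists_mem_notMem_of_ncard_lt_ncard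
    (s := ({1, a, b, a * b} : Set Q32)) (t := (H : Set Q32)) (by
      have h1 := Set.ncard_insert_le (1 : Q32) {a, b, a * b}
      have h2 := Set.ncard_insert_le a {b, a * b}
      have h3 := Set.ncard_insert_le b {a * b}
      rw [Set.ncard_singleton] at h3
      rw [hS]; omega) (Set.toFinite _)
  simp only [Set.mem_insert_iff, Set.mem_singleton_iff, not_or] at hd1
  have e1 : om4 (v a) (v b) = 0 := by rw [← om_eq]; exact om_of_mem hz ha hb
  have e2 : om4 (v a) (v d) = 0 := by rw [← om_eq]; exact om_of_mem hz ha hd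
  have e3 : om4 (v b) (v d) = 0 := by rw [← om_eq]; exact om_of_mem hz hb hd
  rcases iso h1 h2 h12 e1 e2 e3 with h | h | h | h
  · exact hd1.1 (inj_of_mem hz hd (one_mem H) (by rw [h, v_one]))
  · exact hd1.2.1 (inj_of_mem hz hd ha h)
  · exact hd1.2.2.1 (inj_of_mem hz hd hb h)
  · exact hd1.2.2.2 (inj_of_mem hz hd (mul_mem ha hb) (by rw [h, v_mul]))

end sub

end Q32

theorem cases2 (i : ZMod 2) : i = 0 ∨ i = 1 := by revert i; decide

/-- `x ^ i` for an involution `x` -/
def pw {X : Type*} [Group X] (x : X) (i : ZMod 2) : X := if i = 0 then 1 else x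

section pw

variable {X : Type*} [Group X] {x y c : X}

theorem pw_zero : pw x 0 = 1 := if_pos rfl

theorem pw_one : pw x 1 = x := if_neg (by decide)

theorem pw_add (h : x * x = 1) (i j : ZMod 2) : pw x (i + j) = pw x i * pw x j := by
  have h2 : (1 : ZMod 2) + 1 = 0 := by decide
  rcases cases2 i with rfl | rfl <;> rcases cases2 j with rfl | rfl <;>
    simp [pw_zero, pw_one, h, h2]

theorem pw_comm (h : x * y = y * x) (i j : ZMod 2) : Commute (pw x i) (pw y j) := by
  rcases cases2 i with rfl | rfl <;> rcases cases2 j with rfl | rfl <;>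
    simp [pw_zero, pw_one, Commute, SemiconjBy, h]

theorem pw_swap (h : y * x = x * y * c) (i j : ZMod 2) : pw y j * pw x i = pw x i * pw y j * pw c (j * i) := by
  rcases cases2 i with rfl | rfl <;> rcases cases2 j with rfl | rfl <;>
    simp [pw_zero, pw_one, h]

end pw

/-- generators of a quotient of `2^{1+4}_+` in which the centre `⟨c⟩` survives -/
structure Ex {X : Type*} [Group X] (p r p' r' c : X) : Prop where
  pp : p * p = 1
  rr : r * r = 1
  pp' : p' * p' = 1
  rr' : r' * r' = 1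
  cc : c * c = 1
  pr : p * r * (p * r) = c
  pr' : p' * r' * (p' * r') = c
  c1 : p * p' = p' * p
  c2 : p * r' = r' * p
  c3 : r * p' = p' * r
  c4 : r * r' = r' * r
  ne : c ≠ 1

namespace Ex

variable {X : Type*} [Group X] {p r p' r' c : X} (h : Ex p r p' r' c)
include h

theorem pc : c * p = p * c := by
  have h1 : p * c * p = c := by
    rw [← h.pr]
    have h2 : c * (p * r * (p * r)) = 1 := by rw [h.pr, h.cc]
    have hp : p⁻¹ = p := inv_eq_of_mul_eq_one_left h.pp
    have hr : r⁻¹ = r := inv_eq_of_mul_eq_one_left h.rr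
    have h3 : (p * r * (p * r))⁻¹ = p * r * (p * r) := by rw [h.pr]; exact inv_eq_of_mul_eq_one_left h.cc
    calc p * (p * r * (p * r)) * p = (p * p) * r * p * r * p := by group
      _ = r * p * r * p := by rw [h.pp, one_mul]
      _ = (p * r * (p * r))⁻¹ := by
        rw [mul_inv_rev, mul_inv_rev, hp, hr]; group
      _ = p * r * (p * r) := h3
  calc c * p = (p * c * p) * p := by rw [h1]
    _ = p * c * (p * p) := by group
    _ = p * c := by rw [h.pp, mul_one]

theorem swap : r * p = p * r * c := by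
  have hp : p⁻¹ = p := inv_eq_of_mul_eq_one_left h.pp
  have hr : r⁻¹ = r := inv_eq_of_mul_eq_one_left h.rr
  have h3 : (p * r) * (p * r) = c := h.pr
  have h4 : (p * r)⁻¹ = r * p := by rw [mul_inv_rev, hp, hr]
  have h5 : c⁻¹ = c := inv_eq_of_mul_eq_one_left h.cc
  have h6 : (p * r)⁻¹ = (p * r) * c⁻¹ := by rw [← h3]; group
  rw [← h4, h6, h5]

theorem symm1 : Ex r p p' r' c := by
  refine ⟨h.rr, h.pp, h.pp', h.rr', h.cc, ?_, h.pr', h.c3, h.c4, h.c1, h.c2, h.ne⟩
  rw [h.swap]
  have h1 := h.pc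
  have hp : p⁻¹ = p := inv_eq_of_mul_eq_one_left h.pp
  have hr : r⁻¹ = r := inv_eq_of_mul_eq_one_left h.rr
  have h4 : (p * r)⁻¹ = r * p := by rw [mul_inv_rev, hp, hr]
  have h5 : c⁻¹ = c := inv_eq_of_mul_eq_one_left h.cc
  rw [← h.swap, ← h4, ← mul_inv_rev, h.pr, h5]

theorem symm2 : Ex p' r' p r c :=
  ⟨h.pp', h.rr', h.pp, h.rr, h.cc, h.pr', h.pr, h.c1.symm, h.c3.symm, h.c2.symm, h.c4.symm, h.ne⟩

theorem rc : c * r = r * c := h.symm1.pc
theorem pc' : c * p' = p' * c := h.symm2.pc
theorem rc' : c * r' = r' * c := h.symm2.symm1.pc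
theorem swap' : r' * p' = p' * r' * c := h.symm2.swap

/-- the homomorphism from `Q32` -/
def hom : Q32 →* X where
  toFun a := pw p a.i * pw r a.j * (pw p' a.k * pw r' a.l) * pw c a.m
  map_one' := by
    show pw p 0 * pw r 0 * (pw p' 0 * pw r' 0) * pw c 0 = 1
    simp only [pw_zero, mul_one]
  map_mul' a b := by
    show pw p (a.i + b.i) * pw r (a.j + b.j) * (pw p' (a.k + b.k) * pw r' (a.l + b.l)) *
      pw c (a.m + b.m + a.j * b.i + a.l * b.k) = _
    rw [pw_add h.pp, pw_add h.rr, pw_add h.pp', pw_add h.rr', pw_add h.cc, pw_add h.cc, pw_add h.cc]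
    have s1 := pw_swap h.swap b.i a.j
    have s2 := pw_swap h.swap' b.k a.l
    have k1 := pw_comm h.c1 b.i a.k
    have k2 := pw_comm h.c2 b.i a.l
    have k3 := pw_comm h.c3 b.j a.k
    have k4 := pw_comm h.c4 b.j a.l
    have m1 : ∀ t s, Commute (pw c t) (pw p s) := pw_comm h.pc
    have m2 : ∀ t s, Commute (pw c t) (pw r s) := pw_comm h.rc
    have m3 : ∀ t s, Commute (pw c t) (pw p' s) := pw_comm h.pc'
    have m4 : ∀ t s, Commute (pw c t) (pw r' s) := pw_comm h.rc'
    have m5 : ∀ t s, Commute (pw c t) (pw c s) := pw_comm rfl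
    set A := pw p a.i
    set B := pw r a.j
    set C := pw p' a.k
    set D := pw r' a.l
    set A' := pw p b.i
    set B' := pw r b.j
    set C' := pw p' b.k
    set D' := pw r' b.l
    set N1 := pw c (a.j * b.i)
    set N2 := pw c (a.l * b.k)
    set M := pw c a.m
    set M' := pw c b.m
    have hM : M * (A' * B' * (C' * D')) = (A' * B' * (C' * D')) * M :=
      ((((m1 _ _).mul_right (m2 _ _)).mul_right ((m3 _ _).mul_right (m4 _ _)))).eq
    have e2 : (C * D) * (A' * B') = (A' * B') * (C * D) :=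
      ((k1.symm.mul_right k3.symm).mul_left (k2.symm.mul_right k4.symm)).eq
    have e3 : N1 * (B' * C * C' * D * D') = (B' * C * C' * D * D') * N1 :=
      (((((m2 _ _).mul_right (m3 _ _)).mul_right (m3 _ _)).mul_right (m4 _ _)).mul_right (m4 _ _)).eq
    have e4 : N2 * D' = D' * N2 := (m4 _ _).eq
    have e5 : N1 * N2 * (M * M') = M * M' * (N1 * N2) :=
      (((m5 _ _).mul_right (m5 _ _)).mul_left ((m5 _ _).mul_right (m5 _ _))).eq
    symm
    calc A * B * (C * D) * M * (A' * B' * (C' * D') * M')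
        = A * B * (C * D) * (M * (A' * B' * (C' * D'))) * M' := by simp only [mul_assoc]
      _ = A * B * ((C * D) * (A' * B')) * (C' * D') * M * M' := by rw [hM]; simp only [mul_assoc]
      _ = A * (B * A') * B' * C * (D * C') * D' * M * M' := by rw [e2]; simp only [mul_assoc]
      _ = A * A' * B * (N1 * (B' * C * C' * D)) * (N2 * D') * M * M' := by
        rw [s1, s2]; simp only [mul_assoc]
      _ = A * A' * B * (N1 * (B' * C * C' * D * D')) * N2 * M * M' := by rw [e4]; simp only [mul_assoc]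
      _ = A * A' * (B * B') * (C * C' * (D * D')) * (N1 * N2 * (M * M')) := by
        rw [e3]; simp only [mul_assoc]
      _ = A * A' * (B * B') * (C * C' * (D * D')) * (M * M' * N1 * N2) := by
        rw [e5]; simp only [mul_assoc]

theorem hom_z : h.hom Q32.z = c := by
  show pw p 0 * pw r 0 * (pw p' 0 * pw r' 0) * pw c 1 = c
  simp only [pw_zero, pw_one, mul_one, one_mul]

theorem hom_p : h.hom ⟨1, 0, 0, 0, 0⟩ = p := by
  show pw p 1 * pw r 0 * (pw p' 0 * pw r' 0) * pw c 0 = p
  simp only [pw_zero, pw_one, mul_one]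

theorem hom_r : h.hom ⟨0, 1, 0, 0, 0⟩ = r := by
  show pw p 0 * pw r 1 * (pw p' 0 * pw r' 0) * pw c 0 = r
  simp only [pw_zero, pw_one, mul_one, one_mul]

theorem hom_p' : h.hom ⟨0, 0, 1, 0, 0⟩ = p' := by
  show pw p 0 * pw r 0 * (pw p' 1 * pw r' 0) * pw c 0 = p'
  simp only [pw_zero, pw_one, mul_one, one_mul]

theorem hom_r' : h.hom ⟨0, 0, 0, 1, 0⟩ = r' := by
  show pw p 0 * pw r 0 * (pw p' 0 * pw r' 1) * pw c 0 = r'
  simp only [pw_zero, pw_one, mul_one, one_mul]

/-- the image of `Q32` is generated by `p, r, p', r'` -/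
theorem range_eq : h.hom.range = Subgroup.closure {p, r, p', r'} := by
  apply le_antisymm
  · rintro _ ⟨a, rfl⟩
    have mp : p ∈ Subgroup.closure {p, r, p', r'} := Subgroup.subset_closure (by simp)
    have mr : r ∈ Subgroup.closure {p, r, p', r'} := Subgroup.subset_closure (by simp)
    have mp' : p' ∈ Subgroup.closure {p, r, p', r'} := Subgroup.subset_closure (by simp)
    have mr' : r' ∈ Subgroup.closure {p, r, p', r'} := Subgroup.subset_closure (by simp)
    have mc : c ∈ Subgroup.closure {p, r, p', r'} := by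
      rw [← h.pr]; exact mul_mem (mul_mem mp mr) (mul_mem mp mr)
    have hpw : ∀ {x : X} (i : ZMod 2), x ∈ Subgroup.closure {p, r, p', r'} →
        pw x i ∈ Subgroup.closure {p, r, p', r'} := by
      intro x i hx
      rcases cases2 i with rfl | rfl
      · rw [pw_zero]; exact one_mem _
      · rwa [pw_one]
    exact mul_mem (mul_mem (mul_mem (hpw _ mp) (hpw _ mr)) (mul_mem (hpw _ mp') (hpw _ mr'))) (hpw _ mc)
  · rw [Subgroup.closure_le]
    rintro x (rfl | rfl | rfl | rfl)
    · exact ⟨_, h.hom_p⟩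
    · exact ⟨_, h.hom_r⟩
    · exact ⟨_, h.hom_p'⟩
    · exact ⟨_, h.hom_r'⟩

/-- elements commuting with the generators commute with the image -/
theorem comm_hom {a : X} (hp : a * p = p * a) (hr : a * r = r * a) (hp' : a * p' = p' * a)
    (hr' : a * r' = r' * a) (q : Q32) : a * h.hom q = h.hom q * a := by
  have hc : a * c = c * a := by
    have h1 : Commute a (p * r * (p * r)) :=
      ((show Commute a p from hp).mul_right hr).mul_right ((show Commute a p from hp).mul_right hr)
    rw [h.pr] at h1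
    exact h1.eq
  have hpw : ∀ {x : X} (i : ZMod 2), a * x = x * a → Commute a (pw x i) := by
    intro x i hx
    rcases cases2 i with rfl | rfl
    · rw [pw_zero]; exact Commute.one_right a
    · rw [pw_one]; exact hx
  exact ((((hpw _ hp).mul_right (hpw _ hr)).mul_right ((hpw _ hp').mul_right (hpw _ hr'))).mul_right
    (hpw _ hc)).eq

/-- the homomorphism is injective -/
theorem injective : Function.Injective h.hom := by
  rw [← MonoidHom.ker_eq_bot_iff, Subgroup.eq_bot_iff_forall]
  intro q hq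
  by_contra hne
  apply h.ne
  rw [← h.hom_z]
  rw [MonoidHom.mem_ker] at hq
  by_cases hv : Q32.v q = 0
  · rcases Q32.v_eq_zero hv with h1 | h1
    · exact absurd h1 hne
    · rw [← h1]; exact hq
  · obtain ⟨s, hs⟩ := Q32.exists_om hv
    have h1 := Q32.mul_comm_om s q
    rw [hs] at h1
    have h2 : h.hom (s * q) = h.hom (q * s * Q32.z) := by rw [h1]; rfl
    rw [map_mul, map_mul, map_mul, hq, mul_one, one_mul] at h2
    exact left_eq_mul.mp h2

/-- `2^{1+4}_+` does not embed in a group with a normal subgroup with cyclic quotient whose 2-subgroups have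
cyclic subgroups of index at most 2 -/
theorem false_of_cyclic_quot (D : Subgroup X) [D.Normal] [IsCyclic (X ⧸ D)]
    (hD : ∀ T : Subgroup X, T ≤ D → IsPGroup 2 T → ∃ g ∈ T, Nat.card T ≤ 2 * orderOf g) : False := by
  let f : Q32 →* X ⧸ D := (QuotientGroup.mk' D).comp h.hom
  have hcomm : ∀ x y : X ⧸ D, x * y = y * x := fun x y =>
    (IsCyclic.commGroup (α := X ⧸ D)).mul_comm x y
  have hz : f Q32.z = 1 := by
    have h1 : Q32.z = ⟨1, 0, 0, 0, 0⟩ * ⟨0, 1, 0, 0, 0⟩ * (⟨1, 0, 0, 0, 0⟩ : Q32) * ⟨0, 1, 0, 0, 0⟩ := by decide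
    have h2 : ∀ a : Q32, a = ⟨1, 0, 0, 0, 0⟩ ∨ a = ⟨0, 1, 0, 0, 0⟩ → a * a = 1 := by
      rintro a (rfl | rfl) <;> decide
    rw [h1, map_mul, map_mul, map_mul, hcomm (f _) (f ⟨0, 1, 0, 0, 0⟩), mul_assoc, mul_assoc,
      ← mul_assoc (f ⟨1, 0, 0, 0, 0⟩), ← map_mul, h2 _ (Or.inl rfl), map_one, one_mul, ← map_mul,
      h2 _ (Or.inr rfl), map_one]
  have hsq : ∀ q, f q * f q = 1 := by
    intro q
    rw [← map_mul]
    rcases Q32.sq_eq q with h1 | h1
    · rw [h1, map_one]
    · rw [h1, hz]
  have hcyc : IsCyclic f.range := inferInstance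
  have hr : Nat.card f.range ≤ 2 := by
    have h1 := IsCyclic.exponent_eq_card (α := f.range)
    have h2 : Monoid.exponent f.range ∣ 2 := by
      apply Monoid.exponent_dvd_of_forall_pow_eq_one
      rintro ⟨_, q, rfl⟩
      apply Subtype.ext
      show f q ^ 2 = 1
      rw [pow_two, hsq]
    rw [h1] at h2
    exact Nat.le_of_dvd (by norm_num) h2
  have hk : 16 ≤ Nat.card f.ker := by
    have h1 := Subgroup.card_eq_card_quotient_mul_card_subgroup f.ker
    rw [Nat.card_congr (QuotientGroup.quotientKerEquivRange f).toEquiv, Q32.card_eq] at h1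
    have h2 : 32 ≤ 2 * Nat.card f.ker := h1.trans_le (Nat.mul_le_mul hr le_rfl)
    omega
  obtain ⟨g, hg, hgc⟩ := hD (f.ker.map h.hom) (by
    rintro _ ⟨q, hq, rfl⟩
    exact (QuotientGroup.eq_one_iff _).1 hq) (by
    rintro ⟨_, q, hq, rfl⟩
    refine ⟨2, Subtype.ext ?_⟩
    show (h.hom q) ^ 2 ^ 2 = 1
    rw [show (2 : ℕ) ^ 2 = 2 * 2 by norm_num, pow_mul, ← map_pow, pow_two q, pow_two]
    rcases Q32.sq_eq q with h1 | h1
    · rw [h1, map_one, one_mul]
    · rw [h1, h.hom_z, h.cc])
  obtain ⟨q, -, rfl⟩ := hg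
  rw [Subgroup.card_map_of_injective h.injective] at hgc
  have h4 : orderOf (h.hom q) ≤ 4 := by
    apply Nat.le_of_dvd (by norm_num)
    apply orderOf_dvd_of_pow_eq_one
    rw [show (4 : ℕ) = 2 * 2 by norm_num, pow_mul, ← map_pow, pow_two q, pow_two]
    rcases Q32.sq_eq q with h1 | h1
    · rw [h1, map_one, one_mul]
    · rw [h1, h.hom_z, h.cc]
  omega

end Ex

/-! ### permutations -/

namespace Ex

open Equiv Equiv.Perm

variable {α : Type*} [Fintype α] [DecidableEq α] {p r p' r' c : Perm α}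

/-- the stabilizer of a point -/
def stb (h : Ex p r p' r' c) (x : α) : Subgroup Q32 := (MulAction.stabilizer (Perm α) x).comap h.hom

theorem mem_stb (h : Ex p r p' r' c) {x : α} {q : Q32} : q ∈ h.stb x ↔ h.hom q x = x := Iff.rfl

/-- the orbit of a point -/
def orb (h : Ex p r p' r' c) (x : α) : Finset α := Finset.univ.image fun q => h.hom q x

theorem mem_orb (h : Ex p r p' r' c) {x y : α} : y ∈ h.orb x ↔ ∃ q, h.hom q x = y := by
  simp [orb]

theorem z_notMem (h : Ex p r p' r' c) {x : α} (hx : c x ≠ x) : Q32.z ∉ h.stb x := by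
  rw [mem_stb, h.hom_z]; exact hx

theorem card_orb_mul (h : Ex p r p' r' c) (x : α) : (h.orb x).card * Nat.card (h.stb x) = 32 := by
  let _ : MulAction Q32 α := MulAction.compHom α h.hom
  have h1 : (MulAction.orbit Q32 x) = (h.orb x : Set α) := by
    ext y
    rw [Finset.mem_coe, mem_orb]
    exact Iff.rfl
  have h2 : MulAction.stabilizer Q32 x = h.stb x := by
    ext q
    exact Iff.rfl
  have h3 := Subgroup.card_eq_card_quotient_mul_card_subgroup (MulAction.stabilizer Q32 x)
  rw [← Nat.card_congr (MulAction.orbitEquivQuotientStabilizer Q32 x), Q32.card_eq, h2, h1] at h3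
  have h4 : Nat.card ((h.orb x : Set α)) = (h.orb x).card := by
    rw [Nat.card_coe_set_eq, Set.ncard_coe_finset]
  rw [h4] at h3
  exact h3.symm

theorem comm_c (h : Ex p r p' r' c) (q : Q32) : c * h.hom q = h.hom q * c := by
  have h1 : h.hom Q32.z * h.hom q = h.hom q * h.hom Q32.z := by rw [← map_mul, ← map_mul, Q32.mul_z]
  rwa [h.hom_z] at h1

theorem orb_sub (h : Ex p r p' r' c) {x : α} (hx : x ∈ c.support) : h.orb x ⊆ c.support := by
  intro y hy
  obtain ⟨q, rfl⟩ := h.mem_orb.1 hy
  rw [mem_support] at hx ⊢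
  rw [← Perm.mul_apply, h.comm_c, Perm.mul_apply]
  exact fun e => hx ((h.hom q).injective e)

theorem eight_le (h : Ex p r p' r' c) {x : α} (hx : x ∈ c.support) : 8 ≤ (h.orb x).card := by
  have h1 := h.card_orb_mul x
  have h2 := Q32.card_le (h.z_notMem (mem_support.1 hx))
  by_contra hcon
  rw [not_le] at hcon
  have : (h.orb x).card * Nat.card (h.stb x) ≤ 7 * 4 := Nat.mul_le_mul (by omega) h2
  omega

theorem exists_mem_support (h : Ex p r p' r' c) : ∃ x, x ∈ c.support := by
  by_contra hcon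
  push Not at hcon
  apply h.ne
  ext x
  have := hcon x
  rw [mem_support, not_not] at this
  rw [this]; rfl

/-- the centre moves at least eight points -/
theorem eight_le_support (h : Ex p r p' r' c) : 8 ≤ c.support.card := by
  obtain ⟨x, hx⟩ := h.exists_mem_support
  exact (h.eight_le hx).trans (Finset.card_le_card (h.orb_sub hx))

theorem orb_eq (h : Ex p r p' r' c) (h16 : c.support.card < 16) {x : α} (hx : x ∈ c.support) :
    h.orb x = c.support := by
  apply Finset.Subset.antisymm (h.orb_sub hx)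
  intro y hy
  by_contra hn
  have hd : Disjoint (h.orb x) (h.orb y) := by
    rw [Finset.disjoint_left]
    intro w h1 h2
    obtain ⟨q, rfl⟩ := h.mem_orb.1 h1
    obtain ⟨q', hq'⟩ := h.mem_orb.1 h2
    apply hn
    rw [mem_orb]
    refine ⟨q'⁻¹ * q, ?_⟩
    rw [map_mul, Perm.mul_apply, ← hq', ← Perm.mul_apply, ← map_mul, inv_mul_cancel, map_one]
    rfl
  have h1 := Finset.card_le_card (Finset.union_subset (h.orb_sub hx) (h.orb_sub hy))
  rw [Finset.card_union_of_disjoint hd] at h1
  have h2 := h.eight_le hx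
  have h3 := h.eight_le hy
  omega

theorem card_orb (h : Ex p r p' r' c) (h16 : c.support.card < 16) {x : α} (hx : x ∈ c.support) :
    (h.orb x).card = 8 ∧ Nat.card (h.stb x) = 4 := by
  have h1 := h.card_orb_mul x
  have h2 := Q32.card_le (h.z_notMem (mem_support.1 hx))
  have h3 := h.eight_le hx
  have h4 : (h.orb x).card < 16 := lt_of_le_of_lt (Finset.card_le_card (h.orb_sub hx)) h16
  have h5 : Nat.card (h.stb x) = 0 ∨ Nat.card (h.stb x) = 1 ∨ Nat.card (h.stb x) = 2 ∨
    Nat.card (h.stb x) = 3 ∨ Nat.card (h.stb x) = 4 := by omega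
  rcases h5 with h5 | h5 | h5 | h5 | h5 <;> rw [h5] at h1 <;> omega

/-- **the centre moves exactly eight points** -/
theorem card_support (h : Ex p r p' r' c) (h16 : c.support.card < 16) : c.support.card = 8 := by
  obtain ⟨x, hx⟩ := h.exists_mem_support
  rw [← h.orb_eq h16 hx]
  exact (h.card_orb h16 hx).1

/-- **the permutations commuting with the generators** are `1` or `c` on the points moved by `c` -/
theorem eq_of_comm (h : Ex p r p' r' c) (h16 : c.support.card < 16) {a : Perm α} (hp : a * p = p * a)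
    (hr : a * r = r * a) (hp' : a * p' = p' * a) (hr' : a * r' = r' * a) :
    (∀ x ∈ c.support, a x = x) ∨ ∀ x ∈ c.support, a x = c x := by
  have hcomm := h.comm_hom hp hr hp' hr'
  obtain ⟨x, hx⟩ := h.exists_mem_support
  have hx' := mem_support.1 hx
  have hac : a * c = c * a := by
    have := hcomm Q32.z
    rwa [h.hom_z] at this
  have hax : a x ∈ c.support := by
    rw [mem_support, ← Perm.mul_apply, ← hac, Perm.mul_apply]
    exact fun e => hx' (a.injective e)
  rw [← h.orb_eq h16 hx, mem_orb] at hax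
  obtain ⟨q, hq⟩ := hax
  have hstb : ∀ t ∈ h.stb x, Q32.om t q = 0 := by
    intro t ht
    by_contra hne
    have h1 : Q32.om t q = 1 := by
      rcases cases2 (Q32.om t q) with h1 | h1
      · exact absurd h1 hne
      · exact h1
    have h2 := Q32.mul_comm_om t q
    rw [h1] at h2
    -- `t q = q t z`
    have h3 : h.hom (t * q) x = a x := by
      rw [map_mul, Perm.mul_apply, hq, ← Perm.mul_apply, ← hcomm t, Perm.mul_apply, h.mem_stb.1 ht]
    have h4 : h.hom (q * t * Q32.z) x = c (a x) := by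
      rw [Q32.mul_z, map_mul, map_mul, h.hom_z, Perm.mul_apply, Perm.mul_apply, h.mem_stb.1 ht, hq]
    have h5 : h.hom (t * q) = h.hom (q * t * Q32.z) := by rw [h2]; rfl
    rw [h5, h4, ← Perm.mul_apply, ← hac, Perm.mul_apply] at h3
    exact hx' (a.injective h3)
  obtain ⟨t, ht, hqt⟩ := Q32.perp (h.z_notMem hx') (by rw [(h.card_orb h16 hx).2]; norm_num) hstb
  have hval : a x = x ∨ a x = c x := by
    rcases hqt with rfl | rfl
    · left; rw [← hq]; exact ht
    · right
      rw [← hq, Q32.mul_z, map_mul, h.hom_z, Perm.mul_apply, h.mem_stb.1 ht]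
  rcases hval with h1 | h1
  · left
    intro y hy
    rw [← h.orb_eq h16 hx, mem_orb] at hy
    obtain ⟨s, rfl⟩ := hy
    rw [← Perm.mul_apply, hcomm, Perm.mul_apply, h1]
  · right
    intro y hy
    rw [← h.orb_eq h16 hx, mem_orb] at hy
    obtain ⟨s, rfl⟩ := hy
    rw [← Perm.mul_apply, hcomm, Perm.mul_apply, h1, ← Perm.mul_apply, ← Perm.mul_apply, h.comm_c]

/-- an involution of `⟨p, r, p', r'⟩` different from the centre, moving eight points: the same points -/
theorem support_eq (h : Ex p r p' r' c) {c₁ : Perm α} (hU : (c.support ∪ c₁.support).card ≤ 11)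
    (h8 : c₁.support.card = 8) (hc₁ : c₁ ∈ Subgroup.closure {p, r, p', r'}) (hne : c₁ ≠ c) :
    c₁.support = c.support := by
  have h16 : c.support.card < 16 := by
    have := Finset.card_le_card (Finset.subset_union_left (s₁ := c.support) (s₂ := c₁.support))
    omega
  have hO := h.card_support h16
  rw [← h.range_eq] at hc₁
  obtain ⟨q, rfl⟩ := hc₁
  have hv : Q32.v q ≠ 0 := by
    intro hv
    rcases Q32.v_eq_zero hv with rfl | rfl
    · rw [map_one] at h8; simp at h8
    · exact hne h.hom_z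
  by_cases hfix : ∀ x ∈ c.support, h.hom q x ≠ x
  · symm
    apply Finset.eq_of_subset_of_card_le
    · intro x hx
      exact mem_support.2 (hfix x hx)
    · rw [hO, h8]
  · exfalso
    push Not at hfix
    obtain ⟨x, hx, hqx⟩ := hfix
    have hblk : ∀ y ∈ c.support, h.hom q y = y ∨ h.hom q y = c y := by
      intro y hy
      rw [← h.orb_eq h16 hx, mem_orb] at hy
      obtain ⟨t, rfl⟩ := hy
      have h1 := Q32.mul_comm_om q t
      rcases cases2 (Q32.om q t) with h2 | h2
      · left
        rw [h2] at h1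
        have h3 : q * t = t * q := by rw [h1]; exact mul_one _
        rw [← Perm.mul_apply, ← map_mul, h3, map_mul, Perm.mul_apply, hqx]
      · right
        rw [h2] at h1
        have h3 : q * t = Q32.z * (t * q) := by rw [h1]; exact Q32.mul_z _
        rw [← Perm.mul_apply, ← map_mul, h3, map_mul, map_mul, Perm.mul_apply, Perm.mul_apply, hqx, h.hom_z]
    obtain ⟨s, hs⟩ := Q32.exists_om hv
    have hsw : ∀ y, h.hom q (h.hom s y) = h.hom s (c (h.hom q y)) := by
      intro y
      have h1 := Q32.mul_comm_om s q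
      rw [hs] at h1
      have h3 : s * (Q32.z * q) = q * s := by
        rw [← Q32.mul_z, ← mul_assoc, h1]
        show q * s * Q32.z * Q32.z = q * s
        rw [mul_assoc, Q32.z_mul_z, mul_one]
      have e : h.hom (q * s) y = h.hom (s * (Q32.z * q)) y := by rw [h3]
      rw [map_mul, map_mul, map_mul, h.hom_z] at e
      exact e
    have hcc : ∀ y, c (c y) = y := by
      intro y
      rw [← Perm.mul_apply, h.cc]; rfl
    set F := c.support.filter fun y => h.hom q y = y with hF
    set N := c.support.filter fun y => h.hom q y ≠ y with hN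
    have hsupp : ∀ y ∈ c.support, h.hom s y ∈ c.support := by
      intro y hy
      exact h.orb_sub hy (h.mem_orb.2 ⟨s, rfl⟩)
    have h1 : F.card + N.card = 8 := by
      rw [← hO]; exact Finset.card_filter_add_card_filter_not _
    have h2 : F.card ≤ N.card := by
      apply Finset.card_le_card_of_injOn (fun y => h.hom s y)
      · intro y hy
        rw [Finset.mem_coe, hF, Finset.mem_filter] at hy
        rw [Finset.mem_coe, hN, Finset.mem_filter]
        refine ⟨hsupp y hy.1, ?_⟩
        rw [hsw, hy.2]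
        exact fun e => mem_support.1 hy.1 ((h.hom s).injective e)
      · intro y _ y' _ e
        exact (h.hom s).injective e
    have h3 : N.card ≤ F.card := by
      apply Finset.card_le_card_of_injOn (fun y => h.hom s y)
      · intro y hy
        rw [Finset.mem_coe, hN, Finset.mem_filter] at hy
        rw [Finset.mem_coe, hF, Finset.mem_filter]
        refine ⟨hsupp y hy.1, ?_⟩
        rcases hblk y hy.1 with h4 | h4
        · exact absurd h4 hy.2
        · rw [hsw, h4, hcc]
      · intro y _ y' _ e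
        exact (h.hom s).injective e
    -- four points outside
    have h4 : F ⊆ (c.support ∪ (h.hom q).support) \ (h.hom q).support := by
      intro y hy
      rw [hF, Finset.mem_filter] at hy
      rw [Finset.mem_sdiff]
      exact ⟨Finset.mem_union_left _ hy.1, fun e => mem_support.1 e hy.2⟩
    have h5 := Finset.card_le_card h4
    rw [Finset.card_sdiff_of_subset Finset.subset_union_right, h8] at h5
    omega

/-- **two extraspecial groups**: a permutation commuting with both fixes the eight points -/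
theorem fix_of_two {p₁ r₁ p₁' r₁' c₁ : Perm α} (h : Ex p r p' r' c) (h₁ : Ex p₁ r₁ p₁' r₁' c₁)
    (hU : (c.support ∪ c₁.support).card ≤ 11) (hc₁ : c₁ ∈ Subgroup.closure {p, r, p', r'}) (hne : c₁ ≠ c)
    {a : Perm α} (hp : a * p = p * a) (hr : a * r = r * a) (hp' : a * p' = p' * a) (hr' : a * r' = r' * a)
    (hp₁ : a * p₁ = p₁ * a) (hr₁ : a * r₁ = r₁ * a) (hp₁' : a * p₁' = p₁' * a) (hr₁' : a * r₁' = r₁' * a) :
    c.support.card = 8 ∧ c₁.support = c.support ∧ ∀ x ∈ c.support, a x = x := by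
  have h16 : c.support.card < 16 := by
    have := Finset.card_le_card (Finset.subset_union_left (s₁ := c.support) (s₂ := c₁.support))
    omega
  have h16' : c₁.support.card < 16 := by
    have := Finset.card_le_card (Finset.subset_union_right (s₁ := c.support) (s₂ := c₁.support))
    omega
  have hs := h.support_eq hU (h₁.card_support h16') hc₁ hne
  refine ⟨h.card_support h16, hs, ?_⟩
  rcases h.eq_of_comm h16 hp hr hp' hr' with e1 | e1
  · exact e1
  · rcases h₁.eq_of_comm h16' hp₁ hr₁ hp₁' hr₁' with e2 | e2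
    · rwa [hs] at e2
    · exfalso
      apply hne
      ext x
      by_cases hx : x ∈ c.support
      · rw [← e1 x hx, ← e2 x (hs ▸ hx)]
      · have hx' : x ∉ c₁.support := fun e => hx (hs ▸ e)
        rw [mem_support, not_not] at hx hx'
        rw [hx, hx']

/-- the same for permutations of a set of at most eleven points: `a` lives on the at most three other points -/
theorem mem_sym_of_two {S : Finset α} (hS : S.card ≤ 11) {p₁ r₁ p₁' r₁' c₁ : Perm α} (h : Ex p r p' r' c)
    (h₁ : Ex p₁ r₁ p₁' r₁' c₁) (hcS : c ∈ sym S) (hcS₁ : c₁ ∈ sym S)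
    (hc₁ : c₁ ∈ Subgroup.closure {p, r, p', r'}) (hne : c₁ ≠ c)
    {a : Perm α} (haS : a ∈ sym S) (hp : a * p = p * a) (hr : a * r = r * a) (hp' : a * p' = p' * a)
    (hr' : a * r' = r' * a) (hp₁ : a * p₁ = p₁ * a) (hr₁ : a * r₁ = r₁ * a) (hp₁' : a * p₁' = p₁' * a)
    (hr₁' : a * r₁' = r₁' * a) :
    c.support ⊆ S ∧ c.support.card = 8 ∧ (S \ c.support).card = S.card - 8 ∧ a ∈ sym (S \ c.support) := by
  have hsub : ∀ {d : Perm α}, d ∈ sym S → d.support ⊆ S := by
    intro d hd x hx
    by_contra hn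
    exact mem_support.1 hx (hd x hn)
  obtain ⟨h1, -, h3⟩ := h.fix_of_two h₁ ((Finset.card_le_card
    (Finset.union_subset (hsub hcS) (hsub hcS₁))).trans hS) hc₁ hne hp hr hp' hr' hp₁ hr₁ hp₁' hr₁'
  refine ⟨hsub hcS, h1, by rw [Finset.card_sdiff_of_subset (hsub hcS), h1], ?_⟩
  intro x hx
  by_cases hxc : x ∈ c.support
  · exact h3 x hxc
  · exact haS x fun hxS => hx (Finset.mem_sdiff.2 ⟨hxS, hxc⟩)

/-- `2^{1+4}_+` does not act faithfully on seven points -/
theorem false_of_card_le_seven {S : Finset α} (hS : S.card ≤ 7) (h : Ex p r p' r' c) (hcS : c ∈ sym S) :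
    False := by
  have h1 := h.eight_le_support
  have h2 : c.support ⊆ S := by
    intro x hx
    by_contra hn
    exact mem_support.1 hx (hcS x hn)
  have h3 := Finset.card_le_card h2
  omega

end Ex

end Cfsg.Agent.UAlt.Eleven.ExtraPerm
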