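import Cfsg.Agent.UAlt.Eleven.ActJ
import Cfsg.Agent.UAlt.Eleven.ExtraPerm
import Cfsg.Agent.GH.L2AutPGL
import Cfsg.Agent.LieRecognition.FieldSemilinear
import Cfsg.Agent.McLLyComp.Act

/-!
# FACT X for `PSL(2,q)`

`D8 ∘ D8` does not act faithfully on `PSL(2,q)`, `q` odd: `2^{1+4}_+` has no cyclic quotient of order at least 4 and
no dihedral subgroup of index 2.
-/

set_option autoImplicit false
set_option linter.unusedSectionVars false

open Cfsg Equiv Equiv.Perm Subgroup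
open Cfsg.Agent.Intrinsic.Basic
open Cfsg.Agent.SignalizersComponents Cfsg.Agent.Lib
open Cfsg.Agent.SignalizersComponents.IntrinsicBasic
open Cfsg.Agent.McLLyComp.Act
open Cfsg.Agent.GH.L2Aut
open Cfsg.Agent.UAlt.Eleven.ExtraPerm
open scoped commutatorElement

namespace Cfsg.Agent.UAlt.Eleven.FactXL2

section rep

variable {F : Type*} [Field F] [Finite F] {L : Type*} [Group L] (R : Cfsg.Agent.GH.L2Aut.Rep F L)

include R in
/-- `2^{1+4}_+` does not embed in `Aut(PSL(2,F))` -/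
theorem false_of_ex {p r p' r' c : MulAut L} (h : Ex p r p' r' c) : False := by
  have hfin : Finite L := R.finite
  have hfin2 : Finite (MulAut L) :=
    Finite.of_injective (fun e : MulAut L => (e : L → L)) DFunLike.coe_injective
  have hcyc0 : IsCyclic (F ≃+* F) := Cfsg.Agent.LieRecognition.FieldSemilinear.isCyclic_ringAut F
  have hcyc1 : IsCyclic R.fld.range := inferInstance
  have hcyc : IsCyclic (MulAut L ⧸ R.PGL) := by
    have e : (MulAut L ⧸ R.PGL) ≃* R.fld.range := QuotientGroup.quotientKerEquivRange R.fld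
    exact isCyclic_of_surjective e.symm.toMonoidHom e.symm.surjective
  refine h.false_of_cyclic_quot R.PGL ?_
  intro T hT hT2
  rcases R.pgl_two_group T hT2 hT with ⟨d, hd, hcov⟩ | ⟨d, t, hD⟩
  · refine ⟨d, hd, ?_⟩
    have h1 : Nat.card T ≤ Nat.card (zpowers d) := Subgroup.card_le_of_le (fun x hx => hcov x hx)
    rw [Nat.card_zpowers] at h1
    omega
  · refine ⟨d, hD.d_mem, ?_⟩
    have h1 : (T : Set (MulAut L)) ⊆ (zpowers d : Set (MulAut L)) ∪ (fun x => x * t) '' (zpowers d : Set (MulAut L)) := by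
      intro x hx
      rcases hD.cov x hx with h2 | ⟨k, h2⟩
      · exact Or.inl h2
      · exact Or.inr ⟨d ^ k, ⟨k, rfl⟩, h2.symm⟩
    have h2 := Set.ncard_le_ncard h1 (Set.toFinite _)
    have h3 := Set.ncard_union_le (zpowers d : Set (MulAut L)) ((fun x => x * t) '' (zpowers d : Set (MulAut L)))
    have h4 : ((fun x => x * t) '' (zpowers d : Set (MulAut L))).ncard ≤ (zpowers d : Set (MulAut L)).ncard :=
      Set.ncard_image_le (Set.toFinite _)
    have h5 : (zpowers d : Set (MulAut L)).ncard = orderOf d := by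
      rw [← Nat.card_zpowers]; rfl
    have h6 : (T : Set (MulAut L)).ncard = Nat.card T := rfl
    omega

end rep

/-- **FACT X**, type `PSL(2,q)` -/
theorem factX (G : Type*) [Group G] : FactX G := by
  intro J s₁ s₂ s₃ s₄ v v' D n₁ n₂ n₃ n₄ z hv hL
  obtain ⟨F, hF, hF2, hodd, h5, ⟨e⟩⟩ := hL
  have R : Cfsg.Agent.GH.L2Aut.Rep F (↥J ⧸ oddCore ↥J) := Rep.ofEquiv (two_ne_zero_of_odd hodd) e
  have hvN : v ∈ normalizer (J : Set G) := by
    rw [← D.g]; exact mul_mem (mul_mem n₁ n₂) (mul_mem n₁ n₂)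
  have hvN' : v' ∈ normalizer (J : Set G) := by
    rw [← D.h]; exact mul_mem (mul_mem n₃ n₄) (mul_mem n₃ n₄)
  have hsq : ∀ {s : G} (hs : s ∈ normalizer (J : Set G)), s * s = 1 →
      act J ⟨s, hs⟩ * act J ⟨s, hs⟩ = 1 := by
    intro s hs h
    rw [← act_mul, act_congr (mul_mem hs hs) h]
    exact map_one _
  have hcm : ∀ {s t : G} (hs : s ∈ normalizer (J : Set G)) (ht : t ∈ normalizer (J : Set G)), s * t = t * s →
      act J ⟨s, hs⟩ * act J ⟨t, ht⟩ = act J ⟨t, ht⟩ * act J ⟨s, hs⟩ := by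
    intro s t hs ht h
    rw [← act_mul, ← act_mul, act_congr (mul_mem hs ht) h]
  have hvv' : act J ⟨v', hvN'⟩ = act J ⟨v, hvN⟩ := by
    have h1 := (act_eq_one_iff z.1).mpr z
    have h3 : act J ⟨v, hvN⟩ * act J ⟨v', hvN'⟩ = 1 := by
      rw [← act_mul]; exact h1
    exact (mul_left_cancel ((hsq hvN D.qv).trans h3.symm)).symm
  apply false_of_ex R (p := act J ⟨s₁, n₁⟩) (r := act J ⟨s₂, n₂⟩) (p' := act J ⟨s₃, n₃⟩)
    (r' := act J ⟨s₄, n₄⟩) (c := act J ⟨v, hvN⟩)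
  refine ⟨hsq n₁ D.q₁, hsq n₂ D.q₂, hsq n₃ D.q₃, hsq n₄ D.q₄, hsq hvN D.qv, ?_, ?_, hcm n₁ n₃ D.c₁₃,
    hcm n₁ n₄ D.c₁₄, hcm n₂ n₃ D.c₂₃, hcm n₂ n₄ D.c₂₄, ?_⟩
  · rw [← act_mul, ← act_mul]
    exact act_congr _ D.g
  · rw [← act_mul, ← act_mul, ← hvv']
    exact act_congr _ D.h
  · intro h
    exact hv ((act_eq_one_iff hvN).mp h)

end Cfsg.Agent.UAlt.Eleven.FactXL2
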