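import Cfsg.Agent.UAlt.IdentPK
import Cfsg.Agent.UAlt.CaseN2
import Cfsg.Agent.UAlt.ModFive

/-!
# Eleven points, `|X| = 2, 4`: from `W` to the package (PK)

The analogue of `UAlt.IdentPK` for `|Ω| = 11`, `|X| = 2` or `4`.
-/

set_option autoImplicit false
set_option linter.unusedSectionVars false

open Cfsg Equiv Equiv.Perm Subgroup
open Cfsg.Agent.Intrinsic.Basic Cfsg.Agent.Intrinsic
open Cfsg.Agent.SignalizersComponents Cfsg.Agent.Lib
open Cfsg.Agent.SignalizersComponents.IntrinsicBasic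
open Cfsg.Agent.StdAlt.Roots (IsRoot)
open Cfsg.Agent.StdAlt.PermTypes (cyc)
open scoped commutatorElement

namespace Cfsg.Agent.UAlt.GlueTwo

open Cfsg.Agent.UAlt.Glue Cfsg.Agent.UAlt.PKQuot Cfsg.Agent.UAlt.IdentPK

variable {G : Type*} [Group G] {α : Type*} [Fintype α] [DecidableEq α]
variable {L : Subgroup G} {Ω : Finset α} {M : Mod L Ω}
variable [Finite G] {a : G} {X : Finset α} {W : Subgroup G}

/-- the relabelling is trivial on the three common points -/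
theorem tau_fix {F Y : Finset α} (hF3 : F.card = 3) (hFY : F ⊆ Y) {τ : Perm α}
    (hτY : Y.map τ.toEmbedding = Y) {cyc₀ : Perm α} (hc0 : ∀ q, q ∉ F → cyc₀ q = q)
    (hc1 : ∀ q ∈ F, cyc₀ q ≠ q)
    {ψ ψ' : Perm α} (hψ : ψ = τ * ψ' * τ⁻¹) (h1 : ∀ q ∈ Y, ψ q = cyc₀ q) (h2 : ∀ q ∈ F, ψ' q = cyc₀ q)
    (hw : ∀ k ∈ F, ∃ χ χ' : Perm α, χ = τ * χ' * τ⁻¹ ∧ χ' k = k ∧ ∀ q ∈ F, q ≠ k → χ q ≠ q) :
    ∀ k ∈ F, τ k = k := by
  have hmem : ∀ k ∈ F, τ k ∈ F := by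
    intro k hk
    by_contra hn
    have h3 : τ k ∈ Y := by rw [← hτY]; exact Finset.mem_map.2 ⟨k, hFY hk, rfl⟩
    have h4 : ψ (τ k) = τ k := by rw [h1 _ h3, hc0 _ hn]
    have h5 : ψ' k = k := by
      apply τ.injective
      rw [hψ] at h4
      simpa [Perm.mul_apply] using h4
    rw [h2 k hk] at h5
    exact hc1 k hk h5
  intro k hk
  obtain ⟨χ, χ', h3, h4, h5⟩ := hw k hk
  by_contra hn
  apply h5 _ (hmem k hk) hn
  rw [h3]
  simp [Perm.mul_apply, h4]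

/-- lifting of a permutation commuting with two commuting involutions -/
theorem exists_lift_two (M : Mod L Ω) {v v' : G} (hv : v ∈ normalizer (L : Set G))
    (hv' : v' ∈ normalizer (L : Set G)) (h2 : v * v = 1) (h2' : v' * v' = 1) (hc : v * v' = v' * v)
    {σ : Perm α} (hσ : σ ∈ alt Ω) (h : M.φ v * σ = σ * M.φ v) (h' : M.φ v' * σ = σ * M.φ v') :
    ∃ k ∈ L, k * v = v * k ∧ k * v' = v' * k ∧ M.φ k = σ := by
  have hz : ∀ u : G, u * u = 1 → IsPGroup 2 (zpowers u) := by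
    intro u hu
    by_cases h1 : u = 1
    · rw [h1, zpowers_one_eq_bot]; exact IsPGroup.of_bot
    · refine IsPGroup.of_card (n := 1) ?_
      rw [Nat.card_zpowers, pow_one]
      exact orderOf_eq_prime (by rw [pow_two]; exact hu) h1
  have hn : zpowers v ≤ normalizer (zpowers v' : Set G) := by
    rw [zpowers_le]
    refine mem_normalizer_of_conj (fun b hb => ?_) fun b hb => ?_
    all_goals
      obtain ⟨n, rfl⟩ := mem_zpowers_iff.1 hb
      have h3 : Commute v (v' ^ n) := (show Commute v v' from hc).zpow_right n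
    · rw [h3.eq, mul_inv_cancel_right]; exact hb
    · rw [mul_assoc, ← h3.eq, inv_mul_cancel_left]; exact hb
  have hP : IsPGroup 2 ↥(zpowers v ⊔ zpowers v') :=
    IsPGroup.to_sup_of_normal_right' (hz v h2) (hz v' h2') hn
  let H : Subgroup G :=
    { carrier := {p | p ∈ normalizer (L : Set G) ∧ M.φ p * σ = σ * M.φ p}
      mul_mem' := by
        rintro p q ⟨h3, h4⟩ ⟨h5, h6⟩
        refine ⟨mul_mem h3 h5, ?_⟩
        rw [M.mul _ _ h3 h5, mul_assoc, h6, ← mul_assoc, h4, mul_assoc]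
      one_mem' := ⟨one_mem _, by rw [M.one, one_mul, mul_one]⟩
      inv_mem' := by
        rintro p ⟨h3, h4⟩
        refine ⟨inv_mem h3, ?_⟩
        rw [M.inv h3, inv_mul_eq_iff_eq_mul, ← mul_assoc, h4, mul_inv_cancel_right] }
  have hle : zpowers v ⊔ zpowers v' ≤ H := by
    rw [sup_le_iff, zpowers_le, zpowers_le]
    exact ⟨⟨hv, h⟩, ⟨hv', h'⟩⟩
  obtain ⟨k, hk, hk', hkσ⟩ := M.exists_fix_lift hP (fun p hp => (hle hp).1) hσ fun p hp => (hle hp).2
  exact ⟨k, hk, hk' v (mem_sup_left (mem_zpowers v)), hk' v' (mem_sup_right (mem_zpowers v')), hkσ⟩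

theorem exists_pair11 (h11 : Ω.card = 11) (hN : CaseN M a X) (hX : X.card = 2 ∨ X.card = 4)
    {S S' : Finset α} {V V' : Subgroup G} (hV : RF M V S) (hV' : RF M V' S') (hSS : Disjoint S S')
    (hc : Cm V V') {v v' : G} (hv : v ∈ V) (h1 : v ≠ 1) (hv' : v' ∈ V') (h1' : v' ≠ 1)
    {K K' : Subgroup G} {Mv : Mod K (fixIn Ω (M.φ v) ∪ X)}
    {Mv' : Mod K' (fixIn Ω (M.φ v') ∪ X)} (hK : KD M a X v K Mv) (hK' : KD M a X v' K' Mv') :
    ∃ (Mk : Mod K ((Ω ∪ X) \ S)) (Mk' : Mod K' ((Ω ∪ X) \ S')), Pair M X S S' v v' K K' Mk Mk' := by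
  have hXd := hN.disj
  have hr := hV.root hv h1
  have hr' := hV'.root hv' h1'
  have hcomm := hc v hv v' hv'
  have hd : ∀ x ∈ S, x ∉ S' := fun x hx hx' => Finset.disjoint_left.1 hSS hx hx'
  have hcast : ∀ {T : Finset α} {u : G}, Root M T u → fixIn Ω (M.φ u) ∪ X = (Ω ∪ X) \ T := by
    intro T u hu
    rw [hu.fixIn_eq]
    ext x
    simp only [Finset.mem_union, Finset.mem_sdiff]
    constructor
    · rintro (⟨h1, h2⟩ | h)
      · exact ⟨Or.inl h1, h2⟩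
      · exact ⟨Or.inr h, fun hx => Finset.disjoint_left.1 hXd (hu.sub hx) h⟩
    · rintro ⟨h1 | h1, h2⟩
      · exact Or.inl ⟨h1, h2⟩
      · exact Or.inr h1
  have h13 : 13 ≤ Ω.card + X.card := by rcases hX with h | h <;> omega
  have hDD₀ := pair_cmp_eq (a := a) (by omega : 11 ≤ Ω.card) h13 hN hV hV' hSS hc hv h1 hv' h1' hK hK'
  obtain ⟨Mk, hMk⟩ := exists_cast (hcast hr) Mv
  obtain ⟨Mk₀, hMk₀⟩ := exists_cast (hcast hr') Mv'
  have hag : ∀ y ∈ M.cmp v, Mk.φ y = M.φ y := fun y hy => by rw [hMk, hK.agree y hy]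
  have hag₀ : ∀ y ∈ M.cmp v', Mk₀.φ y = M.φ y := fun y hy => by rw [hMk₀, hK'.agree y hy]
  have hd' : ∀ x ∈ S', x ∉ S := fun x hx hx' => hd x hx' hx
  have hv'c : v' ∈ M.cmp v := pair_mem hV hV' hSS hc hv h1 hv'
  have hvc : v ∈ M.cmp v' := pair_mem hV' hV hSS.symm hc.symm hv' h1' hv
  have hv'K := hK.le hv'c
  have hvK' := hK'.le hvc
  -- cardinalities
  have hcard : ((Ω \ S) \ S').card = 3 := by
    have h1 : S' ⊆ Ω \ S := fun x hx => Finset.mem_sdiff.2 ⟨hr'.sub hx, hd' x hx⟩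
    rw [Finset.card_sdiff_of_subset h1, Finset.card_sdiff_of_subset hr.sub, hr.card, hr'.card]
    omega
  have hYsub : (Ω \ S) \ S' ⊆ ((Ω ∪ X) \ S) \ S' := by
    intro x hx
    simp only [Finset.mem_sdiff, Finset.mem_union] at hx ⊢
    exact ⟨⟨Or.inl hx.1.1, hx.1.2⟩, hx.2⟩
  have hXY : X ⊆ ((Ω ∪ X) \ S) \ S' := by
    intro x hx
    simp only [Finset.mem_sdiff, Finset.mem_union]
    exact ⟨⟨Or.inr hx, fun h => Finset.disjoint_left.1 hXd (hr.sub h) hx⟩,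
      fun h => Finset.disjoint_left.1 hXd (hr'.sub h) hx⟩
  have hYeq : ∀ x ∈ ((Ω ∪ X) \ S) \ S', x ∉ X → x ∈ (Ω \ S) \ S' := by
    intro x hx hxX
    simp only [Finset.mem_sdiff, Finset.mem_union] at hx ⊢
    rcases hx.1.1 with h | h
    · exact ⟨⟨h, hx.1.2⟩, hx.2⟩
    · exact absurd h hxX
  have hYcard : (((Ω ∪ X) \ S) \ S').card = 3 + X.card := by
    have h1 : (Ω \ S) \ S' ∪ X = ((Ω ∪ X) \ S) \ S' := by
      apply Finset.Subset.antisymm (Finset.union_subset hYsub hXY)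
      intro x hx
      by_cases hxX : x ∈ X
      · exact Finset.mem_union_right _ hxX
      · exact Finset.mem_union_left _ (hYeq x hx hxX)
    have h2 : Disjoint ((Ω \ S) \ S') X := by
      refine Finset.disjoint_of_subset_left ?_ hXd
      exact Finset.sdiff_subset.trans Finset.sdiff_subset
    rw [← h1, Finset.card_union_of_disjoint h2, hcard]
  have hY5 : 5 ≤ (((Ω ∪ X) \ S) \ S').card := by rcases hX with h | h <;> omega
  have hY6 : (((Ω ∪ X) \ S) \ S').card ≠ 6 := by rcases hX with h | h <;> omega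
  have hfix : fixIn ((Ω ∪ X) \ S) (Mk.φ v') = ((Ω ∪ X) \ S) \ S' := by
    rw [hag v' hv'c]; exact fixIn_sdiff hr'
  have hcomm2 : ((Ω ∪ X) \ S') \ S = ((Ω ∪ X) \ S) \ S' := by
    ext x
    simp only [Finset.mem_sdiff]
    tauto
  have hfix' : fixIn ((Ω ∪ X) \ S') (Mk₀.φ v) = ((Ω ∪ X) \ S) \ S' := by
    rw [hag₀ v hvc, fixIn_sdiff hr, hcomm2]
  -- the common component
  have hcmpk : Mk.cmp v' = Mv.cmp v' := by
    have := Mk.cmp_eq Mv (le_normalizer hv'K) hr'.sq (by rw [hfix]; omega)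
    exact this.1
  have hcmpk₀ : Mk₀.cmp v = Mv'.cmp v := by
    have := Mk₀.cmp_eq Mv' (le_normalizer hvK') hr.sq (by rw [hfix']; omega)
    exact this.1
  have hDD : Mk.cmp v' = Mk₀.cmp v := by rw [hcmpk, hcmpk₀, hDD₀]
  have hD := Mk.isComp_cmp_of hK.comp (le_normalizer hv'K) hr'.sq (by rw [hfix]; omega)
  obtain ⟨MD, hMD⟩ := Mk.exists_cmp_five (le_normalizer hv'K) hr'.sq (by rw [hfix]; exact hY5)
    (by rw [hfix]; exact hY6)
  obtain ⟨MD₀, hMD₀⟩ := Mk₀.exists_cmp_five (le_normalizer hvK') hr.sq (by rw [hfix']; exact hY5)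
    (by rw [hfix']; exact hY6)
  obtain ⟨MD1, hMD1⟩ := exists_cast hfix MD
  obtain ⟨MD2, hMD2⟩ := exists_cast hfix' MD₀
  obtain ⟨MD3, hMD3⟩ : ∃ M' : Mod (Mk.cmp v') (((Ω ∪ X) \ S) \ S'), ∀ x, M'.φ x = MD2.φ x := by
    rw [hDD]; exact ⟨MD2, fun _ => rfl⟩
  obtain ⟨τ, hτY, hτ⟩ := MD3.exists_bij_five MD1 hY5 hY6
  have e1 : ∀ y ∈ Mk.cmp v', MD1.φ y = Mk.φ y := fun y hy => by rw [hMD1, hMD y hy]
  have e2 : ∀ y ∈ Mk.cmp v', MD3.φ y = Mk₀.φ y := fun y hy => by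
    rw [hMD3, hMD2, hMD₀ y (hDD ▸ hy)]
  -- labels of the elements of `N(L)` commuting with `v`, `v'`
  have hlab : ∀ z ∈ normalizer (L : Set G), z * v = v * z → z * v' = v' * z →
      z ∈ normalizer (Mk.cmp v' : Set G) ∧ z ∈ normalizer (K : Set G) ∧
      (∀ p ∈ ((Ω ∪ X) \ S) \ S', MD1.φ z p = Mk.φ z p) ∧
      (∀ p ∈ (Ω \ S) \ S', MD1.φ z p = M.φ z p) ∧ ∀ p ∈ (Ω \ S) \ S', MD3.φ z p = M.φ z p := by
    intro z hzL hzv hzv'
    obtain ⟨p₀, hp₀⟩ : (Ω \ S).Nonempty := Finset.card_pos.1 (by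
      rw [Finset.card_sdiff_of_subset hr.sub, hr.card]; omega)
    have hzK : z ∈ normalizer (K : Set G) :=
      (hK.agree_fix hr.rt (by omega) hzL hzv (p := p₀) (by rw [hr.fixIn_eq]; exact hp₀)).1
    obtain ⟨p₁, hp₁⟩ : (Ω \ S').Nonempty := Finset.card_pos.1 (by
      rw [Finset.card_sdiff_of_subset hr'.sub, hr'.card]; omega)
    have hzK' : z ∈ normalizer (K' : Set G) :=
      (hK'.agree_fix hr'.rt (by omega) hzL hzv' (p := p₁) (by rw [hr'.fixIn_eq]; exact hp₁)).1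
    have hzD : z ∈ normalizer (Mk.cmp v' : Set G) := by
      have h2 := Mk.cmp_conj hzK (le_normalizer hv'K) hr'.sq (by rw [hfix]; omega)
      rw [hzv', mul_inv_cancel_right] at h2
      rw [mem_normalizer_iff_cj, ← h2]
    refine ⟨hzD, hzK, fun p hp => Mk.compat MD1 (Mk.cmp_le v') e1 hzK hzD hp, fun p hp => ?_, fun p hp => ?_⟩
    · rw [Mk.compat MD1 (Mk.cmp_le v') e1 hzK hzD (hYsub hp), hMk]
      exact (hK.agree_fix hr.rt (by omega) hzL hzv (by rw [hr.fixIn_eq]; exact (Finset.mem_sdiff.1 hp).1)).2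
    · rw [Mk₀.compat MD3 (by rw [hDD]; exact Mk₀.cmp_le v) e2 hzK' hzD (hYsub hp), hMk₀]
      refine (hK'.agree_fix hr'.rt (by omega) hzL hzv' ?_).2
      rw [hr'.fixIn_eq, Finset.mem_sdiff]
      rw [Finset.mem_sdiff, Finset.mem_sdiff] at hp
      exact ⟨hp.1.1, hp.2⟩
  have hτfix : ∀ x ∈ (Ω \ S) \ S', τ x = x := by
    obtain ⟨i, j, k, hij, hik, hjk, hF⟩ := Finset.card_eq_three.1 hcard
    have hmem : ∀ p ∈ (Ω \ S) \ S', p ∈ Ω ∧ p ∉ S ∧ p ∉ S' := by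
      intro p hp
      rw [Finset.mem_sdiff, Finset.mem_sdiff] at hp
      exact ⟨hp.1.1, hp.1.2, hp.2⟩
    have hi : i ∈ (Ω \ S) \ S' := by rw [hF]; simp
    have hj : j ∈ (Ω \ S) \ S' := by rw [hF]; simp
    have hk : k ∈ (Ω \ S) \ S' := by rw [hF]; simp
    -- the 3-element
    obtain ⟨M', hM'⟩ := M.exists_cmp hr.memN hr.sq (by rw [hr.card_fix]; omega)
    have hσ : cyc i j k ∈ alt (fixIn Ω (M.φ v)) := by
      rw [hr.fixIn_eq]
      exact cyc_mem_alt (Finset.mem_sdiff.1 hi).1 (Finset.mem_sdiff.1 hj).1 (Finset.mem_sdiff.1 hk).1 hij hjk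
    obtain ⟨y, hy, hyv', hyφ⟩ := M'.exists_comm_lift (t := v') (n := 1) (le_normalizer hv'c)
      (by rw [pow_one, pow_two]; exact hr'.sq) hσ (by
        rw [hM' v' hv'c]
        refine comm_of_fix (T := {i, j, k}) (fun p hp => hr'.apply_eq (hmem p (by rw [hF]; exact hp)).2.2) ?_
        exact alt_le_sym _ (cyc_mem_alt (by simp) (by simp) (by simp) hij hjk))
    have hyL : y ∈ L := M.cmp_le v hy
    have hyM : M.φ y = cyc i j k := by rw [← hM' y hy, hyφ]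
    have hyv : v * y = y * v := M.cmp_comm hy
    obtain ⟨hyD, hyK, a1, a2, a3⟩ := hlab y (le_normalizer hyL) hyv.symm hyv'.symm
    refine tau_fix hcard hYsub hτY (cyc₀ := cyc i j k) ?_ ?_ (hτ y hyD) ?_ ?_ ?_
    · intro q hq
      rw [hF] at hq
      simp only [Finset.mem_insert, Finset.mem_singleton, not_or] at hq
      exact (cyc_mem_alt (S := {i, j, k}) (by simp) (by simp) (by simp) hij hjk).2 q (by
        simp only [Finset.mem_insert, Finset.mem_singleton, not_or]; exact hq)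
    · intro q hq
      rw [hF] at hq
      simp only [Finset.mem_insert, Finset.mem_singleton] at hq
      rcases hq with rfl | rfl | rfl
      · rw [StdAlt.PermTypes.cyc_apply_fst hik hij]; exact hij.symm
      · rw [StdAlt.PermTypes.cyc_apply_snd hik hjk]; exact hjk.symm
      · rw [StdAlt.PermTypes.cyc_apply_thd]; exact hik
    · intro q hq
      rw [a1 q hq, hag y hy, hyM]
    · intro q hq
      rw [a3 q hq, hyM]
    · -- the roots in half position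
      intro k' hk'
      obtain ⟨p, q, hpq, hpS, hqS, hvp, hvq⟩ : ∃ p q : α, p ≠ q ∧ p ∈ S ∧ q ∈ S ∧ M.φ v p = q ∧ M.φ v q = p := by
        obtain ⟨p, hp⟩ : S.Nonempty := Finset.card_pos.1 (by rw [hr.card]; norm_num)
        have hvv : M.φ v (M.φ v p) = p := by
          rw [← Perm.mul_apply, M.sq hr.memN hr.sq]; rfl
        refine ⟨p, M.φ v p, (hr.apply_ne hp).symm, hp, ?_, rfl, hvv⟩
        by_contra hn
        have h2 := hr.apply_eq hn
        rw [hvv] at h2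
        exact hr.apply_ne hp h2.symm
      obtain ⟨s, t, hst, hs, ht, hsk, htk⟩ : ∃ s t : α, s ≠ t ∧ s ∈ (Ω \ S) \ S' ∧ t ∈ (Ω \ S) \ S' ∧ s ≠ k' ∧ t ≠ k' ∧
          (∀ u ∈ (Ω \ S) \ S', u ≠ k' → u = s ∨ u = t) := by
        rw [hF] at hk' ⊢
        simp only [Finset.mem_insert, Finset.mem_singleton] at hk'
        rcases hk' with rfl | rfl | rfl
        · exact ⟨j, k, hjk, by simp, by simp, hij.symm, hik.symm, by simp⟩
        · exact ⟨i, k, hik, by simp, by simp, hij, hjk.symm, by simp⟩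
        · exact ⟨i, j, hij, by simp, by simp, hik, hjk, by simp⟩
      have hpT : ∀ u ∈ (Ω \ S) \ S', u ≠ p ∧ u ≠ q := fun u hu =>
        ⟨fun e => (hmem u hu).2.1 (e ▸ hpS), fun e => (hmem u hu).2.1 (e ▸ hqS)⟩
      have hsp := hpT s hs
      have htp := hpT t ht
      have hkp := hpT k' hk'
      have hσ' : swap s t * swap p q ∈ alt Ω := by
        refine ⟨StdAlt.PermTypes.swap_mul_mem hst hpq, fun x hx => ?_⟩
        have x1 : x ≠ s := fun e => hx (e ▸ (hmem s hs).1)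
        have x2 : x ≠ t := fun e => hx (e ▸ (hmem t ht).1)
        have x3 : x ≠ p := fun e => hx (e ▸ hr.sub hpS)
        have x4 : x ≠ q := fun e => hx (e ▸ hr.sub hqS)
        rw [Perm.mul_apply, swap_apply_of_ne_of_ne x3 x4, swap_apply_of_ne_of_ne x1 x2]
      have hfixv : ∀ {u : α}, u ∈ (Ω \ S) \ S' → M.φ v u = u := fun hu => hr.apply_eq (hmem _ hu).2.1
      have hfixv' : ∀ {u : α}, u ∈ (Ω \ S) \ S' → M.φ v' u = u := fun hu => hr'.apply_eq (hmem _ hu).2.2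
      have hconj : ∀ {π : Perm α}, π s = s → π t = t → ((π p = q ∧ π q = p) ∨ (π p = p ∧ π q = q)) →
          π * (swap s t * swap p q) = (swap s t * swap p q) * π := by
        intro π h3 h4 h5
        have h6 : π * (swap s t * swap p q) * π⁻¹ = swap (π s) (π t) * swap (π p) (π q) := by
          rw [Equiv.swap_apply_apply π s t, Equiv.swap_apply_apply π p q]; group
        rw [← mul_inv_eq_iff_eq_mul, h6, h3, h4]
        rcases h5 with ⟨h5, h7⟩ | ⟨h5, h7⟩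
        · rw [h5, h7, swap_comm q p]
        · rw [h5, h7]
      obtain ⟨w, hwL, hwv, hwv', hwφ⟩ := exists_lift_two M hr.memN hr'.memN hr.sq hr'.sq hcomm hσ'
        (hconj (hfixv hs) (hfixv ht) (Or.inl ⟨hvp, hvq⟩))
        (hconj (hfixv' hs) (hfixv' ht) (Or.inr ⟨hr'.apply_eq (hd p hpS), hr'.apply_eq (hd q hqS)⟩))
      obtain ⟨hwD, hwK, b1, b2, b3⟩ := hlab w (le_normalizer hwL) hwv hwv'
      refine ⟨MD1.φ w, MD3.φ w, hτ w hwD, ?_, ?_⟩
      · rw [b3 k' hk', hwφ, Perm.mul_apply, swap_apply_of_ne_of_ne hkp.1 hkp.2,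
          swap_apply_of_ne_of_ne hsk.symm htk.1.symm]
      · intro u hu huk
        rw [b2 u hu, hwφ, Perm.mul_apply]
        rcases htk.2 u hu huk with rfl | rfl
        · rw [swap_apply_of_ne_of_ne hsp.1 hsp.2, swap_apply_left]; exact hst.symm
        · rw [swap_apply_of_ne_of_ne htp.1 htp.2, swap_apply_right]; exact hst
  have hτX : ∀ x ∈ X, τ x ∈ X := by
    intro x hx
    by_contra hn
    have h1 : τ x ∈ ((Ω ∪ X) \ S) \ S' := by
      rw [← hτY]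
      exact Finset.mem_map.2 ⟨x, hXY hx, rfl⟩
    have h2 := hτfix _ (hYeq _ h1 hn)
    have h3 := τ.injective h2
    rw [h3] at hn
    exact hn hx
  have hτXmap : X.map τ.toEmbedding = X := by
    apply Finset.eq_of_subset_of_card_le
    · intro y hy
      obtain ⟨x, hx, rfl⟩ := Finset.mem_map.1 hy
      exact hτX x hx
    · rw [Finset.card_map]
  have hτiff : ∀ x, τ x ∈ X ↔ x ∈ X := by
    intro x
    refine ⟨fun h => ?_, hτX x⟩
    rw [← hτXmap] at h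
    obtain ⟨x', hx', h1⟩ := Finset.mem_map.1 h
    have : x' = x := τ.injective h1
    rwa [← this]
  set τ' : Perm α := ofSubtype (τ.subtypePerm hτiff) with hτ'
  have hτ'X : ∀ x ∈ X, τ' x = τ x := by
    intro x hx
    rw [hτ', ofSubtype_apply_of_mem _ hx]; rfl
  have hτ's : τ' ∈ sym X := fun x hx => by rw [hτ', ofSubtype_apply_of_not_mem _ hx]
  have hagree : ∀ x ∈ ((Ω ∪ X) \ S) \ S', τ x = τ' x := by
    intro x hx
    by_cases hxX : x ∈ X
    · exact (hτ'X x hxX).symm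
    · rw [hτfix x (hYeq x hx hxX), hτ's x hxX]
  have hXS' : X ⊆ (Ω ∪ X) \ S' := by
    intro x hx
    have := hXY hx
    simp only [Finset.mem_sdiff] at this ⊢
    exact ⟨this.1.1, this.2⟩
  obtain ⟨Mk', hMk'⟩ := exists_cast (map_eq_of_mem_sym (sym_mono hXS' hτ's)) (Mk₀.relabel τ')
  refine ⟨Mk, Mk', hr, hr', hcomm, hd, hK.comp, hK'.comp, hK.le, hK'.le, hag, ?_, ?_⟩
  · intro y hy
    rw [hMk', Mod.relabel_φ, hag₀ y hy]
    have h1 := comm_of_disjoint (A := X) (B := Ω) (fun x hx hx' => Finset.disjoint_left.1 hXd hx' hx) hτ's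
      (alt_le_sym _ (M.mem_alt y (M.cmp_le v' hy)))
    rw [h1, mul_inv_cancel_right]
  · intro σ hσ
    obtain ⟨y, hy, hyσ⟩ := Mk.cmp_lift (t := v') (le_normalizer hv'K) hr'.sq (by rw [hfix]; omega)
      (σ := σ) (by rw [hfix]; exact hσ)
    have hy₀ : y ∈ Mk₀.cmp v := hDD ▸ hy
    refine ⟨y, Mk.cmp_le v' hy, Mk₀.cmp_le v hy₀, hyσ, ?_⟩
    have h1 := hτ y (le_normalizer hy)
    rw [e1 y hy, e2 y hy, hyσ] at h1
    rw [hMk', Mod.relabel_φ, h1]
    symm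
    refine conj_eq_of_agree hagree ?_
    have h2 := Mk₀.cmp_mem_alt hy₀
    rw [hfix'] at h2
    exact alt_le_sym _ h2

/-! ### the relation -/

theorem rel11 (hN : CaseN M a X) (h11 : 11 ≤ Ω.card) (hW : WD M a X W) {Q : Type*} [Group Q] {q : G → Q}
    (hq : QD W q) {S S' : Finset α} {V : Subgroup G} (hV : RootV M S V) {v v' : G} (hv : v ∈ V)
    {K K' : Subgroup G} {Mk : Mod K ((Ω ∪ X) \ S)}
    {Mk' : Mod K' ((Ω ∪ X) \ S')} (P : Pair M X S S' v v' K K' Mk Mk') {κ κ' : Perm α → Q}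
    (hκ : ∀ k ∈ K, κ (Mk.φ k) = q k) (hκ' : ∀ k ∈ K', κ' (Mk'.φ k) = q k) (hκ'm : MulOn ((Ω ∪ X) \ S') κ')
    {c d : α} (hc : c ∈ Ω) (hd : d ∈ Ω) (hcd : c ≠ d) (hcS : c ∉ S) (hcS' : c ∉ S') (hdS : d ∉ S)
    (hdS' : d ∉ S') {i j : α} (hi : i ∈ S) (hj : j ∈ S') :
    (κ' (cyc i c d) * κ (cyc j c d)) ^ 2 = 1 := by
  have hr := P.rv
  have hr' := P.rv'
  have hv1 := hr.ne_one
  have hLN := hW.le
  have hiS' := P.disj i hi
  have hjS : j ∉ S := fun h => P.disj j h hj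
  have hiΩ := hr.sub hi
  have hjΩ := hr'.sub hj
  have hic : i ≠ c := fun e => hcS (e ▸ hi)
  have hid : i ≠ d := fun e => hdS (e ▸ hi)
  have hjc : j ≠ c := fun e => hcS' (e ▸ hj)
  have hjd : j ≠ d := fun e => hdS' (e ▸ hj)
  have hij : i ≠ j := fun e => hiS' (e ▸ hj)
  -- the lifts
  obtain ⟨k', hk', hk'φ⟩ := M.cmp_lift (t := v') hr'.memN hr'.sq (by rw [hr'.card_fix]; omega)
    (σ := cyc i c d) (by
      rw [hr'.fixIn_eq]
      exact cyc_mem_alt (Finset.mem_sdiff.2 ⟨hiΩ, hiS'⟩) (Finset.mem_sdiff.2 ⟨hc, hcS'⟩)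
        (Finset.mem_sdiff.2 ⟨hd, hdS'⟩) hic hcd)
  obtain ⟨k, hk, hkφ⟩ := M.cmp_lift (t := v) hr.memN hr.sq (by rw [hr.card_fix]; omega)
    (σ := cyc j c d) (by
      rw [hr.fixIn_eq]
      exact cyc_mem_alt (Finset.mem_sdiff.2 ⟨hjΩ, hjS⟩) (Finset.mem_sdiff.2 ⟨hc, hcS⟩)
        (Finset.mem_sdiff.2 ⟨hd, hdS⟩) hjc hcd)
  have hk'L := M.cmp_le v' hk'
  have hkL := M.cmp_le v hk
  have e1 : κ' (cyc i c d) = q k' := by rw [← hk'φ, ← P.agree' k' hk', hκ' k' (P.le' hk')]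
  have e2 : κ (cyc j c d) = q k := by rw [← hkφ, ← P.agree k hk, hκ k (P.le hk)]
  -- the involution `g`
  obtain ⟨j', hj'⟩ : ((((Ω \ S) \ S').erase c).erase d).Nonempty := Finset.card_pos.1 (by
      have h1 : S' ⊆ Ω \ S := fun x hx => Finset.mem_sdiff.2 ⟨hr'.sub hx, fun h => P.disj x h hx⟩
      have h2 : ((Ω \ S) \ S').card = Ω.card - 8 := by
        rw [Finset.card_sdiff_of_subset h1, Finset.card_sdiff_of_subset hr.sub, hr.card, hr'.card]
        omega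
      have h3 := Finset.pred_card_le_card_erase (s := (Ω \ S) \ S') (a := c)
      have h4 := Finset.pred_card_le_card_erase (s := ((Ω \ S) \ S').erase c) (a := d)
      omega)
  obtain ⟨p, hp, p', hp', -, -, hpp', -⟩ := exists_three (A := S'.erase j) (by
    rw [Finset.card_erase_of_mem hj, hr'.card])
  simp only [Finset.mem_erase, Finset.mem_sdiff] at hj' hp hp'
  obtain ⟨hj'd, hj'c, ⟨hj'Ω, hj'S⟩, hj'S'⟩ := hj'
  have hpd : p ≠ d := fun e => hdS' (e ▸ hp.2)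
  have hpc : p ≠ c := fun e => hcS' (e ▸ hp.2)
  have hp'd : p' ≠ d := fun e => hdS' (e ▸ hp'.2)
  have hp'c : p' ≠ c := fun e => hcS' (e ▸ hp'.2)
  have hpΩ := hr'.sub hp.2
  have hp'Ω := hr'.sub hp'.2
  have hpS : p ∉ S := fun h => P.disj p h hp.2
  have hp'S : p' ∉ S := fun h => P.disj p' h hp'.2
  have hjj' : j ≠ j' := fun e => hj'S' (e ▸ hj)
  have hjp : j' ≠ p := fun e => hj'S' (e ▸ hp.2)
  have hjp' : j' ≠ p' := fun e => hj'S' (e ▸ hp'.2)
  have hjp1 : j ≠ p := fun e => hp.1 e.symm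
  have hjp2 : j ≠ p' := fun e => hp'.1 e.symm
  set σ : Perm α := swap j j' * swap p p' with hσ
  have hσfix : ∀ x, x ≠ j → x ≠ j' → x ≠ p → x ≠ p' → σ x = x := by
    intro x h1 h2 h3 h4
    rw [hσ, Perm.mul_apply, swap_apply_of_ne_of_ne h3 h4, swap_apply_of_ne_of_ne h1 h2]
  have hσj : σ j = j' := by
    rw [hσ, Perm.mul_apply, swap_apply_of_ne_of_ne hjp1 hjp2, swap_apply_left]
  have hσS : ∀ x ∈ S, σ x = x := by
    intro x hx
    refine hσfix x ?_ ?_ ?_ ?_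
    · rintro rfl; exact hjS hx
    · rintro rfl; exact hj'S hx
    · rintro rfl; exact hpS hx
    · rintro rfl; exact hp'S hx
  have hσc : σ c = c := hσfix c hjc.symm hj'c.symm hpc.symm hp'c.symm
  have hσd : σ d = d := hσfix d hjd.symm hj'd.symm hpd.symm hp'd.symm
  have hσalt : σ ∈ alt Ω := by
    refine ⟨StdAlt.PermTypes.swap_mul_mem hjj' hpp', fun x hx => ?_⟩
    refine hσfix x ?_ ?_ ?_ ?_
    · rintro rfl; exact hx hjΩ
    · rintro rfl; exact hx hj'Ω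
    · rintro rfl; exact hx hpΩ
    · rintro rfl; exact hx hp'Ω
  have hσσ : σ * σ = 1 := (StdAlt.Roots.isRoot_swap_mul hjj' hjp1 hjp2 hjp hjp' hpp').1
  have hσsym : σ ∈ sym (Ω \ S) := by
    intro x hx
    by_cases hxΩ : x ∈ Ω
    · rw [Finset.mem_sdiff, not_and, not_not] at hx
      exact hσS x (hx hxΩ)
    · exact hσalt.2 x hxΩ
  obtain ⟨g, hg, hgg, hvg, hgφ⟩ := M.exists_inv_lift (t := v) hr.memN (n := 1)
    (by rw [pow_one, pow_two]; exact hr.sq) hσalt hσσ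
    (comm_of_disjoint (A := S) (B := Ω \ S) (fun x hx hx' => (Finset.mem_sdiff.1 hx').2 hx) (root_sym hr)
      hσsym)
  have hgc : g ∈ M.cmp v := hr.mem_cmp hg hvg (fun x hx => by rw [hgφ]; exact hσS x hx) (n := 1)
    (by rw [pow_one, pow_two]; exact hgg)
  have hgK := P.le hgc
  -- `g` commutes with `k'` modulo `W`
  have hz'L : g * k' * g⁻¹ * k'⁻¹ ∈ L := mul_mem (mul_mem (mul_mem hg hk'L) (inv_mem hg)) (inv_mem hk'L)
  have hz'c : g * k' * g⁻¹ * k'⁻¹ ∈ core L := by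
    rw [← M.core_iff _ hz'L, M.mul _ _ (le_normalizer (mul_mem (mul_mem hg hk'L) (inv_mem hg)))
      (le_normalizer (inv_mem hk'L)), M.conj (le_normalizer hg) (le_normalizer hk'L),
      M.inv (le_normalizer hk'L), hgφ, hk'φ, StdAlt.PermTypes.cyc_conj, hσS i hi, hσc, hσd, mul_inv_cancel]
  have hgN := hLN hg
  have hk'N := hLN hk'L
  have hkN := hLN hkL
  have hA2 : q g * q g = 1 := by rw [← hq.mul _ hgN _ hgN, hgg, hq.one]
  have hZeq : q g * q k' * (q g)⁻¹ = q (g * k' * g⁻¹ * k'⁻¹) * q k' := by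
    rw [← hq.conj hgN hk'N, ← hq.mul _ (hLN hz'L) _ hk'N, inv_mul_cancel_right]
  have hZc : q (g * k' * g⁻¹ * k'⁻¹) * q g = q g * q (g * k' * g⁻¹ * k'⁻¹) :=
    star hN (by omega) hW hq hV hv hv1 hz'c hgc
  have hZZ : q (g * k' * g⁻¹ * k'⁻¹) * q (g * k' * g⁻¹ * k'⁻¹) = 1 := by
    have hAi : (q g)⁻¹ = q g := inv_eq_of_mul_eq_one_left hA2
    have h1 : q g * (q g * q k' * (q g)⁻¹) * (q g)⁻¹ = q k' := by
      rw [hAi]
      calc q g * (q g * q k' * q g) * q g = (q g * q g) * q k' * (q g * q g) := by group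
        _ = q k' := by rw [hA2]; group
    rw [hZeq] at h1
    have h2 : q g * (q (g * k' * g⁻¹ * k'⁻¹) * q k') * (q g)⁻¹ =
        q (g * k' * g⁻¹ * k'⁻¹) * q (g * k' * g⁻¹ * k'⁻¹) * q k' := by
      calc q g * (q (g * k' * g⁻¹ * k'⁻¹) * q k') * (q g)⁻¹ =
          (q g * q (g * k' * g⁻¹ * k'⁻¹)) * q k' * (q g)⁻¹ := by group
        _ = q (g * k' * g⁻¹ * k'⁻¹) * (q g * q k' * (q g)⁻¹) := by rw [← hZc]; group
        _ = _ := by rw [hZeq]; group
    rw [h2] at h1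
    exact mul_eq_right.1 h1
  have hZ1 : q (g * k' * g⁻¹ * k'⁻¹) = 1 := by
    rw [hq.one_iff _ (hLN hz'L)]
    apply IdentPK.mem_of_sq_mem (odd_card_core L) hz'c
    rw [← hq.one_iff _ (hLN (mul_mem hz'L hz'L)), hq.mul _ (hLN hz'L) _ (hLN hz'L), hZZ]
  rw [hZ1, one_mul] at hZeq
  -- the square
  have hzL : k' * k * (k' * k) ∈ L := mul_mem (mul_mem hk'L hkL) (mul_mem hk'L hkL)
  have hzc : k' * k * (k' * k) ∈ core L := by
    have h1 := le_normalizer (H := L) (mul_mem hk'L hkL)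
    rw [← M.core_iff _ hzL, M.mul _ _ h1 h1, M.mul _ _ (le_normalizer hk'L) (le_normalizer hkL), hk'φ, hkφ,
      ← pow_two]
    exact Ident.cyc_sq hic hid hjc hjd hcd hij
  have hzcomm := star hN (by omega) hW hq hV hv hv1 hzc hgc
  have hqz : q (k' * k * (k' * k)) = (q k' * q k) * (q k' * q k) := by
    rw [hq.mul _ (hLN (mul_mem hk'L hkL)) _ (hLN (mul_mem hk'L hkL)), hq.mul _ hk'N _ hkN]
  have hgk : q g * q k * (q g)⁻¹ = κ' (cyc j' c d) := by
    have h1 : g * k * g⁻¹ ∈ K := mul_mem (mul_mem hgK (P.le hk)) (inv_mem hgK)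
    rw [← hq.conj hgN hkN, ← hκ _ h1, Mk.conj (le_normalizer hgK) (le_normalizer (P.le hk)),
      P.agree g hgc, P.agree k hk, hgφ, hkφ, StdAlt.PermTypes.cyc_conj, hσj, hσc, hσd]
    obtain ⟨y, hyK, hyK', hy1, hy2⟩ := P.com (cyc j' c d) (cyc_mem_alt
      (by simp only [Finset.mem_sdiff, Finset.mem_union]; exact ⟨⟨Or.inl hj'Ω, hj'S⟩, hj'S'⟩)
      (by simp only [Finset.mem_sdiff, Finset.mem_union]; exact ⟨⟨Or.inl hc, hcS⟩, hcS'⟩)
      (by simp only [Finset.mem_sdiff, Finset.mem_union]; exact ⟨⟨Or.inl hd, hdS⟩, hdS'⟩) hj'c hcd)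
    rw [← hy1, hκ y hyK, hy1, ← hy2, hκ' y hyK']
  rw [e1, e2, pow_two, ← hqz]
  have h1 : q (k' * k * (k' * k)) = q g * q (k' * k * (k' * k)) * (q g)⁻¹ := by
    rw [← hzcomm, mul_inv_cancel_right]
  rw [h1, hqz]
  have h2 : q g * (q k' * q k * (q k' * q k)) * (q g)⁻¹ = ((q g * q k' * (q g)⁻¹) * (q g * q k * (q g)⁻¹)) *
      ((q g * q k' * (q g)⁻¹) * (q g * q k * (q g)⁻¹)) := by group
  rw [h2, hZeq, hgk, ← e1]
  have m1 : cyc i c d ∈ alt ((Ω ∪ X) \ S') := cyc_mem_alt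
    (Finset.mem_sdiff.2 ⟨Finset.mem_union_left _ hiΩ, hiS'⟩)
    (Finset.mem_sdiff.2 ⟨Finset.mem_union_left _ hc, hcS'⟩)
    (Finset.mem_sdiff.2 ⟨Finset.mem_union_left _ hd, hdS'⟩) hic hcd
  have m2 : cyc j' c d ∈ alt ((Ω ∪ X) \ S') := cyc_mem_alt
    (Finset.mem_sdiff.2 ⟨Finset.mem_union_left _ hj'Ω, hj'S'⟩)
    (Finset.mem_sdiff.2 ⟨Finset.mem_union_left _ hc, hcS'⟩)
    (Finset.mem_sdiff.2 ⟨Finset.mem_union_left _ hd, hdS'⟩) hj'c hcd
  have hij' : i ≠ j' := fun e => hj'S (e ▸ hi)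
  rw [← hκ'm _ m1 _ m2, ← pow_two, ← hκ'm.pow (mul_mem m1 m2), Ident.cyc_sq hic hid hj'c hj'd hcd hij',
    hκ'm.one]

/-! ### the package -/

/-- **Case N, `|Ω| = 11`, `|X| = 2, 4`: the package.** -/
theorem exists_PK11 (hN : CaseN M a X) (h11 : Ω.card = 11) (hX : X.card = 2 ∨ X.card = 4)
    (hW : WD M a X W) :
    ∃ (B : Subgroup G) (MB : Mod B (Ω ∪ X)), PK MB := by
  classical
  have hLN := hW.le
  -- the four-groups
  obtain ⟨S, hSΩ, hS4⟩ := Finset.exists_subset_card_eq (s := Ω) (n := 4) (by omega)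
  obtain ⟨S', hS'sub, hS'4⟩ := Finset.exists_subset_card_eq (s := Ω \ S) (n := 4) (by
    rw [Finset.card_sdiff_of_subset hSΩ, hS4]; omega)
  have hdisj : ∀ x ∈ S, x ∉ S' := fun x hx hx' => (Finset.mem_sdiff.1 (hS'sub hx')).2 hx
  have hS'Ω : S' ⊆ Ω := hS'sub.trans Finset.sdiff_subset
  obtain ⟨x1, x2, x3, x4, hnd, rfl⟩ := exists_nodup hS4
  obtain ⟨y1, y2, y3, y4, hnd', rfl⟩ := exists_nodup hS'4
  obtain ⟨V, hV, -, -, -⟩ := exists_rootV M (P := ⊥) IsPGroup.of_bot bot_le hnd hSΩ (by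
    intro p hp σ hσ
    rw [mem_bot.1 hp, M.one, one_mul, mul_one])
  obtain ⟨v, hv, hv1⟩ := hV.exists_ne
  obtain ⟨V', hV', hVV', -, -⟩ := exists_rootV M (P := V) hV.isPGroup (hV.le.trans le_normalizer) hnd' hS'Ω (by
    intro p hp σ hσ
    exact comm_of_disjoint hdisj (fun x hx => hV.apply_eq hp hx) (fun x hx => hσ.fix hx))
  obtain ⟨v', hv', hv'1⟩ := hV'.exists_ne
  have hr := hV.root v hv hv1
  have hr' := hV'.root v' hv' hv'1
  set S : Finset α := StdAlt.four4 x1 x2 x3 x4 with hSdef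
  set S' : Finset α := StdAlt.four4 y1 y2 y3 y4 with hS'def
  have hcomm : v * v' = v' * v := (hVV' v' hv' v hv).symm
  obtain ⟨K, Mv, hK⟩ := hN.ex v (rt_of_root hr)
  obtain ⟨K', Mv', hK'⟩ := hN.ex v' (rt_of_root hr')
  have hCN := hW.cent v K Mv (rt_of_root hr) hK
  have hCN' := hW.cent v' K' Mv' (rt_of_root hr') hK'
  have hCK := hW.norm v K Mv (rt_of_root hr) hK
  have hCK' := hW.norm v' K' Mv' (rt_of_root hr') hK'
  have hcore := hW.core v K Mv (rt_of_root hr) hK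
  have hKN := hW.K_le (rt_of_root hr) hK
  have hK'N := hW.K_le (rt_of_root hr') hK'
  have hKW := hW.core_le (rt_of_root hr) hK
  have hK'W := hW.core_le (rt_of_root hr') hK'
  obtain ⟨Mk, Mk', P⟩ := exists_pair11 h11 hN hX hV.rf hV'.rf (Finset.disjoint_left.2 hdisj)
    (fun u hu u' hu' => (hVV' u' hu' u hu).symm) hv hv1 hv' hv'1 hK hK'
  obtain ⟨Q, hQ, q, hq⟩ := exists_QD W
  obtain ⟨κ, hκ, hκm⟩ := hq.exists_kappa Mk hKN hKW
  obtain ⟨κ', hκ', hκ'm⟩ := hq.exists_kappa Mk' hK'N hK'W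
  -- two points
  have hcard8 : ((Ω \ S) \ S').card = Ω.card - 8 := by
    rw [Finset.card_sdiff_of_subset hS'sub, Finset.card_sdiff_of_subset hSΩ, hS4, hS'4]
    omega
  obtain ⟨c, hc, d, hd, e₀, he₀, hcd, hce, hde⟩ := exists_three (A := (Ω \ S) \ S') (by omega)
  simp only [Finset.mem_sdiff] at hc hd he₀
  obtain ⟨⟨hcΩ, hcS⟩, hcS'⟩ := hc
  obtain ⟨⟨hdΩ, hdS⟩, hdS'⟩ := hd
  obtain ⟨⟨heΩ, heS⟩, heS'⟩ := he₀
  have hΓ : 13 ≤ (Ω ∪ X).card := by
    rw [Finset.card_union_of_disjoint hN.disj]; rcases hX with h | h <;> omega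
  have hSΓ : ∀ {T : Finset α}, T ⊆ Ω → T.card = 4 → ((Ω ∪ X) \ T).card = (Ω ∪ X).card - 4 := by
    intro T hT hT4
    rw [Finset.card_sdiff_of_subset (hT.trans Finset.subset_union_left), hT4]
  have hmemS : ∀ {x : α}, x ∈ Ω → x ∉ S → x ∈ (Ω ∪ X) \ S := fun h1 h2 =>
    Finset.mem_sdiff.2 ⟨Finset.mem_union_left _ h1, h2⟩
  have hmemS' : ∀ {x : α}, x ∈ Ω → x ∉ S' → x ∈ (Ω ∪ X) \ S' := fun h1 h2 =>
    Finset.mem_sdiff.2 ⟨Finset.mem_union_left _ h1, h2⟩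
  obtain ⟨f, hf, hfκ, hfκ'⟩ := glue (Γ := Ω ∪ X) (S := S) (S' := S') hdisj (c := c) (d := d)
    (Finset.mem_union_left _ hcΩ) (Finset.mem_union_left _ hdΩ) hcd hcS hcS' hdS hdS'
    (by rw [hSΓ hSΩ hS4]; omega) (by rw [hSΓ hS'Ω hS'4]; omega) hκm hκ'm (by
      intro i hi hiS hiS' hic hid
      obtain ⟨y, hyK, hyK', hy1, hy2⟩ := P.com (cyc i c d) (cyc_mem_alt
        (Finset.mem_sdiff.2 ⟨Finset.mem_sdiff.2 ⟨hi, hiS⟩, hiS'⟩)
        (Finset.mem_sdiff.2 ⟨hmemS hcΩ hcS, hcS'⟩) (Finset.mem_sdiff.2 ⟨hmemS hdΩ hdS, hdS'⟩) hic hcd)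
      rw [← hy1, hκ y hyK, hy1, ← hy2, hκ' y hyK']) (by
      intro i _ j _ hi hj
      exact rel11 hN (by omega) hW hq hV hv P hκ hκ' hκ'm hcΩ hdΩ hcd hcS hcS' hdS hdS' hi hj)
  have hfK : ∀ k ∈ K, f (Mk.φ k) = q k := fun k hk => by rw [hfκ _ (Mk.mem_alt k hk), hκ k hk]
  have hfK' : ∀ k ∈ K', f (Mk'.φ k) = q k := fun k hk => by rw [hfκ' _ (Mk'.mem_alt k hk), hκ' k hk]
  -- injectivity
  have hinj : ∀ σ ∈ alt (Ω ∪ X), f σ = 1 → σ = 1 := by
    have hm : cyc e₀ c d ∈ alt ((Ω ∪ X) \ S) :=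
      cyc_mem_alt (hmemS heΩ heS) (hmemS hcΩ hcS) (hmemS hdΩ hdS) hce.symm hcd
    obtain ⟨k, hk, hkφ⟩ := Mk.lift _ hm
    intro σ hσ hσ1
    refine hf.inj (by omega) (alt_mono Finset.sdiff_subset hm) ?_ hσ hσ1
    rw [← hkφ, hfK k hk]
    intro h1
    have h2 : k ∈ W := (hq.one_iff k (hKN hk)).1 h1
    have h3 : W ⊓ K ≤ core K := by
      refine le_core inf_le_right ?_ (Odd.of_dvd_nat hW.odd (Subgroup.card_dvd_of_le inf_le_left))
      intro x hx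
      rw [mem_normalizer_iff_cj, cj_inf, mem_normalizer_iff_cj.1 (hKN hx), cj_eq_self_of_mem hx]
    have h4 := (Mk.core_iff k hk).2 (h3 ⟨h2, hk⟩)
    rw [hkφ] at h4
    have h5 := StdAlt.PermTypes.cyc_apply_fst hde.symm hce.symm
    rw [h4] at h5
    exact hce.symm h5
  obtain ⟨B, MB, hWB, hBN, hBcore, hB1, hB2⟩ := hq.exists_mod hW.odd (by omega) hf hinj
  have hKB : ∀ k ∈ K, k ∈ B ∧ MB.φ k = Mk.φ k := fun k hk =>
    hB2 k (hKN hk) _ (alt_mono Finset.sdiff_subset (Mk.mem_alt k hk)) (hfK k hk)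
  have hK'B : ∀ k ∈ K', k ∈ B ∧ MB.φ k = Mk'.φ k := fun k hk =>
    hB2 k (hK'N hk) _ (alt_mono Finset.sdiff_subset (Mk'.mem_alt k hk)) (hfK' k hk)
  have hv'c : v' ∈ M.cmp v := hr.mem_cmp hr'.mem hcomm (fun x hx => hr'.apply_eq (hdisj x hx)) (n := 1)
    (by rw [pow_one, pow_two]; exact hr'.sq)
  have hvc : v ∈ M.cmp v' := hr'.mem_cmp hr.mem hcomm.symm
    (fun x hx => hr.apply_eq (fun h => hdisj x h hx)) (n := 1)
    (by rw [pow_one, pow_two]; exact hr.sq)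
  have hv'K := P.le hv'c
  have hvK' := P.le' hvc
  obtain ⟨hvB, hvφ⟩ := hK'B v hvK'
  rw [P.agree' v hvc] at hvφ
  have hvRt : MB.Rt v := ⟨hvB, hr.sq, by rw [hvφ]; exact isRoot_of_root hr⟩
  -- elements commuting with `v` and `v'` normalise `B`
  have hxB : ∀ x : G, x ∈ normalizer (W : Set G) → x ∈ normalizer (K : Set G) →
      x ∈ normalizer (K' : Set G) → ∀ b ∈ B, x * b * x⁻¹ ∈ B := by
    intro x hxW hxK hxK' b hb
    let H : Subgroup (Perm α) :=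
      { carrier := {σ | σ ∈ alt (Ω ∪ X) ∧ ∃ σ' ∈ alt (Ω ∪ X), q x * f σ * (q x)⁻¹ = f σ'}
        mul_mem' := by
          rintro σ τ ⟨hσ, σ', hσ', h1⟩ ⟨hτ, τ', hτ', h2⟩
          refine ⟨mul_mem hσ hτ, σ' * τ', mul_mem hσ' hτ', ?_⟩
          rw [hf _ hσ _ hτ, hf _ hσ' _ hτ', ← h1, ← h2]; group
        one_mem' := ⟨one_mem _, 1, one_mem _, by rw [hf.one]; group⟩
        inv_mem' := by
          rintro σ ⟨hσ, σ', hσ', h1⟩
          refine ⟨inv_mem hσ, σ'⁻¹, inv_mem hσ', ?_⟩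
          rw [hf.inv hσ, hf.inv hσ', ← h1]; group }
    have hH : alt (Ω ∪ X) ≤ H := by
      refine Ident.alt_le_of_cyc_two (Finset.mem_union_left _ hcΩ) (Finset.mem_union_left _ hdΩ) hcd
        (by omega) ?_
      intro i hi hic hid
      refine ⟨cyc_mem_alt hi (Finset.mem_union_left _ hcΩ) (Finset.mem_union_left _ hdΩ) hic hcd, ?_⟩
      by_cases hiS : i ∈ S
      · obtain ⟨k, hk, hkφ⟩ := Mk'.lift (cyc i c d) (cyc_mem_alt
          (Finset.mem_sdiff.2 ⟨hi, hdisj i hiS⟩) (hmemS' hcΩ hcS') (hmemS' hdΩ hdS') hic hcd)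
        have h1 : x * k * x⁻¹ ∈ K' := conj_mem_of_mem_normalizer hxK' hk
        refine ⟨Mk'.φ (x * k * x⁻¹), alt_mono Finset.sdiff_subset (Mk'.mem_alt _ h1), ?_⟩
        rw [← hkφ, hfK' k hk, hfK' _ h1, hq.conj hxW (hK'N hk)]
      · obtain ⟨k, hk, hkφ⟩ := Mk.lift (cyc i c d) (cyc_mem_alt
          (Finset.mem_sdiff.2 ⟨hi, hiS⟩) (hmemS hcΩ hcS) (hmemS hdΩ hdS) hic hcd)
        have h1 : x * k * x⁻¹ ∈ K := conj_mem_of_mem_normalizer hxK hk
        refine ⟨Mk.φ (x * k * x⁻¹), alt_mono Finset.sdiff_subset (Mk.mem_alt _ h1), ?_⟩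
        rw [← hkφ, hfK k hk, hfK _ h1, hq.conj hxW (hKN hk)]
    obtain ⟨-, σ', hσ', h1⟩ := hH (MB.mem_alt b hb)
    rw [hB1 b hb, ← hq.conj hxW (hBN hb)] at h1
    exact (hB2 _ (mul_mem (mul_mem hxW (hBN hb)) (inv_mem hxW)) σ' hσ' h1.symm).1
  have hxB' : ∀ x : G, x ∈ centralizer ({v} : Set G) → x ∈ centralizer ({v'} : Set G) →
      x ∈ normalizer (B : Set G) := by
    intro x hx hx'
    refine mem_normalizer_of_conj (hxB x (hCN hx) (hCK hx) (hCK' hx')) ?_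
    have h1 := hxB x⁻¹ (inv_mem (hCN hx)) (inv_mem (hCK hx)) (inv_mem (hCK' hx'))
    intro b hb
    have h2 := h1 b hb
    rwa [inv_inv] at h2
  -- `C(v) ≤ N(B)`
  have hCB : centralizer ({v} : Set G) ≤ normalizer (B : Set G) := by
    intro c₀ hc₀
    have hc₀K := hCK hc₀
    have hv'N := le_normalizer (H := K) hv'K
    have hu₁ : c₀ * v' * c₀⁻¹ ∈ K := conj_mem_of_mem_normalizer hc₀K hv'K
    have hroot : IsRoot (Mk.φ v') := by rw [P.agree v' hv'c]; exact isRoot_of_root hr'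
    have hroot1 : IsRoot (Mk.φ (c₀ * v' * c₀⁻¹)) := by
      rw [Mk.conj hc₀K hv'N]; exact hroot.conj _
    obtain ⟨g₀, hg₀, hg₀e⟩ := Glue.exists_alt_conj (A := (Ω ∪ X) \ S) hroot1 hroot
      (Mk.mem_sym _ (le_normalizer hu₁)) (Mk.mem_sym v' hv'N)
    obtain ⟨k, hk, rfl⟩ := Mk.lift g₀ hg₀
    have hu₂ : k * (c₀ * v' * c₀⁻¹) * k⁻¹ ∈ K := mul_mem (mul_mem hk hu₁) (inv_mem hk)
    have hφ₂ : Mk.φ (k * (c₀ * v' * c₀⁻¹) * k⁻¹) = Mk.φ v' := by
      rw [Mk.conj (le_normalizer hk) (le_normalizer hu₁), hg₀e]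
    obtain ⟨o, ho, hoe⟩ := Lifting.exists_conj_eq (N := core K) (odd_card_core K)
      (v := k * (c₀ * v' * c₀⁻¹) * k⁻¹) (v' := v') (n := 1) (m := 1) (by
        rw [conj_pow, conj_pow, pow_one, pow_two, hr'.sq]; group) (by rw [pow_one, pow_two]; exact hr'.sq)
      (le_normalizer_core K hu₂) ((Mk.eq_iff hu₂ hv'K).1 hφ₂)
    have hoK := core_le K ho
    have hokB : o * k ∈ B := (hKB _ (mul_mem hoK hk)).1
    have hx1 : o * k * c₀ ∈ centralizer ({v} : Set G) :=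
      mul_mem (hK.comp.le (mul_mem hoK hk)) hc₀
    have hx2 : o * k * c₀ ∈ centralizer ({v'} : Set G) := by
      rw [mem_centralizer_singleton_iff]
      have h1 : (o * k * c₀) * v' * (o * k * c₀)⁻¹ = v' := by
        calc (o * k * c₀) * v' * (o * k * c₀)⁻¹ = o * (k * (c₀ * v' * c₀⁻¹) * k⁻¹) * o⁻¹ := by group
          _ = v' := hoe
      rw [mul_inv_eq_iff_eq_mul] at h1
      exact h1
    have h3 := hxB' _ hx1 hx2
    have h4 : c₀ = (o * k)⁻¹ * (o * k * c₀) := by group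
    rw [h4]
    exact mul_mem (inv_mem (le_normalizer hokB)) h3
  have hcoreB : core B ⊓ centralizer ({v} : Set G) = core (centralizer ({v} : Set G)) := by
    rw [hBcore]; exact hcore
  have hcent : ∀ u, MB.Rt u → centralizer ({u} : Set G) ≤ normalizer (B : Set G) := by
    intro u hu
    obtain ⟨b, hb, rfl⟩ := exists_conj_root MB hvRt hu
    rw [← cj_centralizer, ← cj_eq_self_of_mem (le_normalizer (H := B) hb)]
    exact cj_mono hCB
  refine ⟨B, MB, ?_, by omega, hcent, ?_, ?_⟩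
  · rw [Finset.card_union_of_disjoint hN.disj]
    rcases hX with h | h <;> rw [h, h11] <;> decide
  · intro u hu
    obtain ⟨b, hb, rfl⟩ := exists_conj_root MB hvRt hu
    rw [← cj_centralizer, core_cj, ← hcoreB, cj_inf,
      mem_normalizer_iff_cj.1 (le_normalizer_core B hb)]
  · intro u hu
    have huN := le_normalizer (H := B) hu.1
    have h5 : 5 ≤ (fixIn (Ω ∪ X) (MB.φ u)).card := by
      have h1 : (Ω ∪ X) \ (MB.φ u).support ⊆ fixIn (Ω ∪ X) (MB.φ u) := by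
        intro x hx
        rw [Finset.mem_sdiff] at hx
        exact mem_fixIn.2 ⟨hx.1, notMem_support.1 hx.2⟩
      have h2 := Finset.card_le_card h1
      have h3 := Finset.le_card_sdiff (MB.φ u).support (Ω ∪ X)
      rw [hu.2.2.2] at h3
      omega
    refine (MB.isComp_cmp huN hu.2.1 h5).extend inf_le_right ?_
    have : ((B ⊓ centralizer ({u} : Set G)).subgroupOf (centralizer ({u} : Set G))).Normal := by
      refine normal_subgroupOf_of_le_normalizer ?_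
      intro x hx
      rw [mem_normalizer_iff_cj, cj_inf, mem_normalizer_iff_cj.1 (hcent u hu hx), cj_eq_self_of_mem hx]
    exact this.isSubnormal

end Cfsg.Agent.UAlt.GlueTwo
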