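import Cfsg.Agent.UAlt.CaseN1
import Cfsg.Agent.UAlt.CoreAct
import Cfsg.Agent.UAlt.NBal
import Cfsg.Agent.UAlt.Case0
import Cfsg.Agent.UAlt.ClSys

/-!
# `n = 11`, `xi = 0`: the 2-components of the centralizers of the roots

World `Iso M a`: `L` a 2-component of `C(a)`, `M` a labelling of `L` by the 11-set `Ω`, and for every root `v` of `L` the
2-component `K_v` of `C(v)` containing `C_L(v)^∞` is isomorphic to `A_7` modulo its core, `a` is trivial on it.

* `KI M a v K`: `K = K_v`.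
* `Iso.fixes_other` : (3.1).
* `Iso.balance` : (3.2).
-/

set_option autoImplicit false
set_option linter.unusedSectionVars false

namespace Cfsg.Agent.UAlt

open Cfsg Equiv Equiv.Perm Subgroup
open Cfsg.Agent.Intrinsic.Basic Cfsg.Agent.Intrinsic Cfsg.Agent.Intrinsic.Cen Cfsg.Agent.Intrinsic.Diag
open Cfsg.Agent.SignalizersComponents Cfsg.Agent.Lib
open Cfsg.Agent.SignalizersComponents.IntrinsicBasic
open Cfsg.Agent.McLLyComp.Act
open Cfsg.Agent.UGT.Triple Cfsg.Agent.UGT.LemG Cfsg.Agent.UGT.PumpGen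
open scoped commutatorElement

variable {G : Type*} [Group G] {α : Type*} [Fintype α] [DecidableEq α]

/-- the world `n = 11`, `xi = 0` -/
structure Iso {L : Subgroup G} {Ω : Finset α} (M : Mod L Ω) (a : G) : Prop where
  h11 : Ω.card = 11
  inva : orderOf a = 2
  comp : IsComp (centralizer ({a} : Set G)) L
  caseN : CaseN M a ∅

/-- `K` is the 2-component `K_v` of `C(v)` -/
structure KI {L : Subgroup G} {Ω : Finset α} (M : Mod L Ω) (a v : G) (K : Subgroup G) : Prop where
  comp : IsComp (centralizer ({v} : Set G)) K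
  le : M.cmp v ≤ K
  cov : M.cmp v ⊔ core K = K
  fixa : Fixes a K

section

variable [Finite G] {L : Subgroup G} {Ω : Finset α} {M : Mod L Ω} {a : G}

theorem Iso.aa (h : Iso M a) : a * a = 1 := sq_of_order h.inva

theorem Iso.comm_a (h : Iso M a) {l : G} (hl : l ∈ L) : l * a = a * l :=
  mem_centralizer_singleton_iff.mp (h.comp.le hl)

theorem Iso.card_fix (h : Iso M a) {v : G} (hv : M.Rt v) : (fixIn Ω (M.φ v)).card = 7 := by
  rw [hv.card_fix, h.h11]

theorem Iso.isComp_cmp (h : Iso M a) {v : G} (hv : M.Rt v) :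
    IsComp (L ⊓ centralizer ({v} : Set G)) (M.cmp v) :=
  M.isComp_cmp (le_normalizer hv.1) hv.2.1 (by rw [h.card_fix hv]; omega)

theorem Mod.Rt.vv {v : G} (hv : M.Rt v) : v * v = 1 := hv.2.1

/-- a member of `C_L(v)` normalizes `C_L(v)^∞` -/
theorem Iso.mem_norm_cmp (h : Iso M a) {v g : G} (hv : M.Rt v) (hg : g ∈ L) (hgv : g * v = v * g) :
    g ∈ normalizer (M.cmp v : Set G) := by
  have h1 := M.cmp_conj (le_normalizer hg) (le_normalizer hv.1) hv.vv (by rw [h.card_fix hv]; omega)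
  rw [hgv, mul_inv_cancel_right] at h1
  exact mem_normalizer_iff_cj.mpr h1.symm

theorem KI.eq (h : Iso M a) {v : G} (hv : M.Rt v) {K K' : Subgroup G} (hK : KI M a v K)
    (hK' : KI M a v K') : K = K' :=
  (h.isComp_cmp hv).unique hK.comp hK'.comp hK.le hK'.le

/-- the labelling of `K_v` -/
theorem KI.exists_mod (h : Iso M a) {v : G} (hv : M.Rt v) {K : Subgroup G} (hK : KI M a v K) :
    ∃ Mv : Mod K (fixIn Ω (M.φ v)), ∀ y ∈ M.cmp v, Mv.φ y = M.φ y := by
  obtain ⟨ME, hME⟩ := M.exists_cmp (le_normalizer hv.1) hv.vv (by rw [h.card_fix hv])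
  obtain ⟨A, hA⟩ := ME.exists_extend (by rw [h.card_fix hv]) hK.cov
  exact ⟨A, fun y hy => by rw [hA y hy, hME y hy]⟩

/-- existence of `K_v` -/
theorem Iso.exists_K (h : Iso M a) {v : G} (hv : M.Rt v) : ∃ K, KI M a v K := by
  obtain ⟨K, Mv, hK⟩ := h.caseN.ex v hv
  have hS : fixIn Ω (M.φ v) ∪ ∅ = fixIn Ω (M.φ v) := Finset.union_empty _
  refine ⟨K, hK.comp, hK.le, ?_, ?_⟩
  · refine sup_of_exists hK.le fun x hx => ?_
    obtain ⟨j, hj, hjx⟩ := M.cmp_lift (le_normalizer hv.1) hv.vv (by rw [h.card_fix hv]; omega)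
      (σ := Mv.φ x) (alt_mono hS.le (Mv.mem_alt x hx))
    exact ⟨j, hj, (Mv.eq_iff (hK.le hj) hx).mp (by rw [hK.agree j hj, hjx])⟩
  · rw [← Mv.fixes_iff hK.norm]
    ext p
    rw [Perm.one_apply]
    by_cases hp : p ∈ fixIn Ω (M.φ v) ∪ ∅
    · have h1 : p ∈ fixIn (fixIn Ω (M.φ v) ∪ ∅) (Mv.φ a) := by
        rw [hK.fixa]
        rwa [hS] at hp
      exact (mem_fixIn.mp h1).2
    · exact Mv.mem_sym a hK.norm p hp

/-- members of `C_L(v)` normalize `K_v` -/
theorem KI.mem_norm (h : Iso M a) {v g : G} (hv : M.Rt v) {K : Subgroup G} (hK : KI M a v K) (hg : g ∈ L)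
    (hgv : g * v = v * g) : g ∈ normalizer (K : Set G) :=
  mem_normalizer_of_le hK.comp (h.isComp_cmp hv) hK.le (mem_c hgv) (h.mem_norm_cmp hv hg hgv)

/-- the labels of the members of `C_L(v)` on `K_v` -/
theorem KI.label (h : Iso M a) {v g : G} (hv : M.Rt v) {K : Subgroup G} (hK : KI M a v K)
    {Mv : Mod K (fixIn Ω (M.φ v))} (hMv : ∀ y ∈ M.cmp v, Mv.φ y = M.φ y) (hg : g ∈ L)
    (hgv : g * v = v * g) {p : α} (hp : p ∈ fixIn Ω (M.φ v)) : Mv.φ g p = M.φ g p := by
  obtain ⟨ME, hME⟩ := M.exists_cmp (le_normalizer hv.1) hv.vv (by rw [h.card_fix hv])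
  have hn := h.mem_norm_cmp hv hg hgv
  have h1 := M.compat ME (M.cmp_le v) hME (le_normalizer hg) hn hp
  have h2 := Mv.compat ME hK.le (fun x hx => by rw [hME x hx, hMv x hx]) (hK.mem_norm h hv hg hgv) hn hp
  rw [← h1, ← h2]

/-- a member `g` of `C_L(v)` with at most four common fixed points with `v`: `C_{K_v}(g)` has no 2-component -/
theorem KI.no_comp (h : Iso M a) {v g : G} (hv : M.Rt v) {K : Subgroup G} (hK : KI M a v K) (hg : g ∈ L)
    (hgg : g * g = 1) (hgv : g * v = v * g) (h5 : (fixIn (fixIn Ω (M.φ v)) (M.φ g)).card < 5)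
    {Z : Subgroup G} (hZ : IsComp (K ⊓ centralizer ({g} : Set G)) Z) : False := by
  obtain ⟨Mv, hMv⟩ := hK.exists_mod h hv
  have h1 := ((Mv.isComp_iff_cmp (hK.mem_norm h hv hg hgv) hgg).mp hZ).2
  have h2 : fixIn (fixIn Ω (M.φ v)) (Mv.φ g) ⊆ fixIn (fixIn Ω (M.φ v)) (M.φ g) := by
    intro p hp
    rw [mem_fixIn] at hp ⊢
    exact ⟨hp.1, by rw [← hK.label h hv hMv hg hgv hp.1]; exact hp.2⟩
  have h3 := Finset.card_le_card h2
  omega

/-- disjoint commuting roots: `w ∈ C_L(v)^∞` -/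
theorem Mod.Rt.mem_cmp {v w : G} (hv : M.Rt v) (hw : M.Rt w) (hvw : v * w = w * v)
    (hd : Disjoint (M.φ v).support (M.φ w).support) : w ∈ M.cmp v := by
  refine hv.root.mem_cmp hw.1 hvw (fun x hx => ?_) (n := 1) (by rw [pow_one, pow_two]; exact hw.vv)
  exact notMem_support.mp (Finset.disjoint_left.mp hd hx)

/-- two commuting roots which are not disjoint commute with a root disjoint from both -/
theorem Iso.exists_third (h : Iso M a) {v w : G} (hv : M.Rt v) (hw : M.Rt w) (hvw : v * w = w * v)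
    (hd : ¬ Disjoint (M.φ v).support (M.φ w).support) :
    ∃ u, M.Rt u ∧ u * v = v * u ∧ u * w = w * u ∧ Disjoint (M.φ u).support (M.φ v).support ∧
      Disjoint (M.φ u).support (M.φ w).support := by
  obtain ⟨T, hT⟩ : ∃ T, T = (M.φ v).support := ⟨_, rfl⟩
  obtain ⟨T', hT'⟩ : ∃ T', T' = (M.φ w).support := ⟨_, rfl⟩
  have hTc : T.card = 4 := hT ▸ hv.root.card
  have hTc' : T'.card = 4 := hT' ▸ hw.root.card
  have hTs : T ⊆ Ω := hT ▸ hv.root.sub
  have hTs' : T' ⊆ Ω := hT' ▸ hw.root.sub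
  rw [← hT, ← hT', Finset.not_disjoint_iff_nonempty_inter] at hd
  have h1 : 0 < (T ∩ T').card := Finset.card_pos.mpr hd
  have h2 := Finset.card_union_add_card_inter T T'
  have h3 : 4 ≤ (Ω \ (T ∪ T')).card := by
    rw [Finset.card_sdiff_of_subset (Finset.union_subset hTs hTs'), h.h11]
    omega
  obtain ⟨S, hS, hS4⟩ := Finset.exists_subset_card_eq h3
  have hSΩ : S ⊆ Ω := hS.trans Finset.sdiff_subset
  have hSn : ∀ x ∈ S, x ∉ T ∧ x ∉ T' := by
    intro x hx
    have := (Finset.mem_sdiff.mp (hS hx)).2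
    rw [Finset.mem_union, not_or] at this
    exact this
  have hP : IsPGroup 2 (closure ({v, w} : Set G)) := ClSys.isPGroup_pair hv.vv hw.vv hvw
  have hPN : closure ({v, w} : Set G) ≤ normalizer (L : Set G) := by
    rw [closure_le]
    rintro x (rfl | rfl)
    · exact le_normalizer hv.1
    · exact le_normalizer hw.1
  obtain ⟨V, hV, hc⟩ := exists_RF_fix M hSΩ hS4 hP hPN (by
    intro p hp x hx
    have hpL : closure ({v, w} : Set G) ≤ L := by
      rw [closure_le]
      rintro x (rfl | rfl)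
      · exact hv.1
      · exact hw.1
    refine closure_induction (p := fun p _ => M.φ p x = x) ?_ ?_ ?_ ?_ hp
    · rintro y (rfl | rfl)
      · exact notMem_support.mp (by rw [← hT]; exact (hSn x hx).1)
      · exact notMem_support.mp (by rw [← hT']; exact (hSn x hx).2)
    · rw [M.one]; rfl
    · intro y z hy hz h1 h2
      rw [M.mul _ _ (hPN hy) (hPN hz), Perm.mul_apply, h2, h1]
    · intro y hy h1
      rw [M.inv (hPN hy), Perm.inv_eq_iff_eq, h1])
  obtain ⟨u, hu, hu1⟩ := hV.exists_ne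
  have hr := hV.root hu hu1
  refine ⟨u, hV.rt hu hu1, hc u hu v (subset_closure (Or.inl rfl)),
    hc u hu w (subset_closure (Or.inr rfl)), ?_, ?_⟩
  · rw [hr.supp_eq, ← hT, Finset.disjoint_left]
    exact fun x hx => (hSn x hx).1
  · rw [hr.supp_eq, ← hT', Finset.disjoint_left]
    exact fun x hx => (hSn x hx).2

/-- **(3.1)** -/
theorem Iso.fixes_other (h : Iso M a) {v w : G} (hv : M.Rt v) (hw : M.Rt w) (hvw : v * w = w * v)
    {K : Subgroup G} (hK : KI M a v K) {J : Subgroup G} (hJ : IsComp (centralizer ({v} : Set G)) J)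
    (hne : J ≠ K) : Fixes w J := by
  by_cases hd : Disjoint (M.φ v).support (M.φ w).support
  · exact hJ.fixes_of_mem hK.comp hne (hK.le (hv.mem_cmp hw hvw hd))
  · obtain ⟨u, hu, huv, huw, hduv, hduw⟩ := h.exists_third hv hw hvw hd
    obtain ⟨K', hK'⟩ := h.exists_K hu
    have hvK' : v ∈ K' := hK'.le (hu.mem_cmp hv huv hduv)
    have hwK' : w ∈ K' := hK'.le (hu.mem_cmp hw huw hduw)
    have huK : u ∈ K := hK.le (hv.mem_cmp hu huv.symm hduv.symm)
    have huJ : Fixes u J := hJ.fixes_of_mem hK.comp hne huK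
    refine jump_fixes hv.vv hu.vv huv.symm hJ huJ hK'.comp hvK' (fun hle => ?_) hwK' hvw.symm
    have hcJ := (isComp_cen hJ (mem_c huv) hu.vv huJ).1
    rw [inf_comm] at hcJ
    refine hK'.no_comp h hu hv.1 hv.vv huv.symm ?_ (isComp_inf hcJ hK'.comp hle)
    have h1 : fixIn (fixIn Ω (M.φ u)) (M.φ v) ⊆ (Ω \ (M.φ u).support) \ (M.φ v).support := by
      intro p hp
      rw [mem_fixIn, mem_fixIn] at hp
      rw [Finset.mem_sdiff, Finset.mem_sdiff]
      exact ⟨⟨hp.1.1, notMem_support.mpr hp.1.2⟩, notMem_support.mpr hp.2⟩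
    have h2 := Finset.card_le_card h1
    have h3 : (Ω \ (M.φ u).support).card = 7 := by
      rw [Finset.card_sdiff_of_subset hu.root.sub, hu.root.card, h.h11]
    have h4 : ((Ω \ (M.φ u).support) \ (M.φ v).support).card = 3 := by
      rw [Finset.card_sdiff_of_subset, h3, hv.root.card]
      intro x hx
      exact Finset.mem_sdiff.mpr ⟨hv.root.sub hx, fun hx' => Finset.disjoint_left.mp hduv hx' hx⟩
    omega

/-- a root four-group `V` is trivial on `K_v`, `v ∈ V` -/
theorem Iso.fixes_self (h : Iso M a) {V : Subgroup G} {T : Finset α} (hV : RF M V T) {v u : G} (hv : v ∈ V)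
    (hv1 : v ≠ 1) (hu : u ∈ V) {K : Subgroup G} (hK : KI M a v K) : Fixes u K := by
  have hr := hV.rt hv hv1
  have huv : u * v = v * u := hV.comm hu hv
  have h1 : Fixes u (M.cmp v) := by
    refine M.fixes_cmp h.comp (le_normalizer hr.1) hr.vv (by rw [h.card_fix hr]; omega)
      (h.comp.le (hV.le hu)) (le_normalizer (hV.le hu)) (mem_c huv) fun p hp => ?_
    rw [hV.fixIn_eq hv hv1, Finset.mem_sdiff] at hp
    exact (hV.mem u hu).2 p hp.2
  exact fixes_of_cover hK.comp (h.isComp_cmp hr) hK.cov (mem_c huv) h1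

/-- root balance on `K_w` -/
theorem Iso.fixes_bal (h : Iso M a) {v w : G} (hv : M.Rt v) (hw : M.Rt w) (hvw : v * w = w * v)
    {K : Subgroup G} (hK : KI M a w K) {y : G} (hy : y ∈ core (centralizer ({v} : Set G)))
    (hyw : y ∈ centralizer ({w} : Set G)) : Fixes y K := by
  have hp2 : Fact (Nat.Prime 2) := ⟨Nat.prime_two⟩
  obtain ⟨Y, hY⟩ : ∃ Y, Y = core (centralizer ({v} : Set G)) ⊓ centralizer ({w} : Set G) := ⟨_, rfl⟩
  have hav : a ∈ centralizer ({v} : Set G) := mem_c (h.comm_a hv.1).symm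
  have haw : a ∈ centralizer ({w} : Set G) := mem_c (h.comm_a hw.1).symm
  have hvo : orderOf v = 2 := hv.root.order
  have hYN : ∀ y ∈ Y, y ∈ normalizer (K : Set G) := by
    intro y hy
    rw [hY] at hy
    exact UGT.Triple.mem_normalizer hK.comp (mem_c hvw) hvo (inf_le_core hy.1 hy.2)
  have hodd : Odd (Nat.card Y) := Odd.of_dvd_nat (odd_card_core (centralizer ({v} : Set G)))
    (by rw [hY]; exact card_dvd_of_le inf_le_left)
  have haY : zpowers a ≤ normalizer (Y : Set G) := by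
    rw [zpowers_le, mem_normalizer_iff_cj, hY, cj_inf]
    rw [mem_normalizer_iff_cj.mp (le_normalizer_core _ hav), cj_eq_self_of_mem haw]
  have hpa : IsPGroup 2 (zpowers a) := by
    refine IsPGroup.of_card (n := 1) ?_
    rw [Nat.card_zpowers, h.inva, pow_one]
  obtain ⟨m, hm, c, hc, rfl⟩ := Lib.CoprimeCommutator.exists_commutator_mul_fixed_of_isPGroup 2
    (zpowers a) Y hpa haY (fun h1 => (Nat.not_even_iff_odd.mpr hodd) (even_iff_two_dvd.mpr h1)) y
    (by rw [hY]; exact ⟨hy, hyw⟩)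
  refine fixes_mul ?_ ?_
  · -- `⁅Y, a⁆` is trivial on `K`
    have h1 : ⁅Y, zpowers a⁆ ≤ fixSub K := by
      rw [commutator_le]
      intro y hy b hb
      have h2 : Fixes b K := by
        obtain ⟨n, rfl⟩ := mem_zpowers_iff.mp hb
        exact (fixSub K).zpow_mem (mem_fixSub.mpr hK.fixa) n
      rw [commutatorElement_def]
      refine fixes_mul ?_ (fixes_inv h2)
      exact fixes_conj h2 (hYN y hy)
    exact h1 hm
  · -- `C_Y(a)`
    have hcY := hc.1
    have hca : c * a = a * c := (mem_centralizer_iff.mp hc.2 a (mem_zpowers a)).symm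
    rw [hY] at hcY
    obtain ⟨D, hD⟩ : ∃ D, D = core (centralizer ({v} : Set G)) ⊓ centralizer ({a} : Set G) := ⟨_, rfl⟩
    have hcD : c ∈ D := by rw [hD]; exact ⟨hcY.1, mem_c hca⟩
    have hcL : Fixes c L := by
      refine M.fixes_of_odd (t := v) (D := D) (le_normalizer hv.1) hv.vv (by rw [h.card_fix hv]; omega)
        ?_ ?_ ?_ ?_ hcD
      · exact Odd.of_dvd_nat (odd_card_core (centralizer ({v} : Set G)))
          (by rw [hD]; exact card_dvd_of_le inf_le_left)
      · intro d hd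
        rw [hD] at hd
        exact UGT.Triple.mem_normalizer h.comp (mem_c (h.comm_a hv.1)) hvo (inf_le_core hd.1 hd.2)
      · intro d hd
        rw [hD] at hd
        exact comm_c ((core_le _) hd.1)
      · intro k hk hkv d hd
        rw [hD] at hd ⊢
        have hka : k ∈ centralizer ({a} : Set G) := h.comp.le hk
        exact ⟨conj_core (mem_c hkv) hd.1, Subgroup.mul_mem _ (Subgroup.mul_mem _ hka hd.2)
          (Subgroup.inv_mem _ hka)⟩
    have hZ : IsComp (centralizer ({a} : Set G) ⊓ centralizer ({w} : Set G)) (M.cmp w) :=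
      M.isComp_cmp_of h.comp (le_normalizer hw.1) hw.vv (by rw [h.card_fix hw]; omega)
    have h1 : Fixes c (M.cmp w) := fixes_of_le h.comp hZ (M.cmp_le w) (mem_c hca) hcY.2 hcL
    exact fixes_of_cover hK.comp hZ hK.cov hcY.2 h1

/-- an element of `O(C_H(x))` fixing all 2-components of `H` lies in `O(H)` -/
theorem mem_core_of_fixes_comps {H : Subgroup G} {x d : G} (hxH : x ∈ H) (hx : orderOf x = 2)
    (hd : d ∈ core (H ⊓ centralizer ({x} : Set G))) (hf : ∀ J, IsComp H J → Fixes d J) : d ∈ core H := by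
  refine le_core_of_fixes hxH hx (D := zpowers d) (by rw [zpowers_le]; exact hd) (fun J hJ e he => ?_)
    (mem_zpowers d)
  obtain ⟨n, rfl⟩ := mem_zpowers_iff.mp he
  exact (fixSub J).zpow_mem (mem_fixSub.mpr (hf J hJ)) n

/-- **(3.2) root balance** -/
theorem Iso.balance (h : Iso M a) {v w : G} (hv : M.Rt v) (hw : M.Rt w) (hvw : v * w = w * v) {y : G}
    (hy : y ∈ core (centralizer ({v} : Set G))) (hyw : y ∈ centralizer ({w} : Set G)) :
    y ∈ core (centralizer ({w} : Set G)) := by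
  have hy' := inf_le_core hy hyw
  obtain ⟨K, hK⟩ := h.exists_K hw
  refine mem_core_of_fixes_comps (mem_c hvw) hv.root.order hy' fun J hJ => ?_
  by_cases hJK : J = K
  · rw [hJK]
    exact h.fixes_bal hv hw hvw hK hy hyw
  · have h1 : Fixes v J := h.fixes_other hw hv hvw.symm hK hJ hJK
    by_contra hf
    exact (of_not_fixes hJ (mem_c hvw) hv.root.order hy' hf).2 h1

end

end Cfsg.Agent.UAlt
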