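import Cfsg.Agent.UAlt.Eleven.NodeAnFT
import Cfsg.Agent.S0205

/-!
# Node N3 of S1311: no unbalancing triple of type `Aₙ`, `n ≥ 11`
-/

set_option autoImplicit false

namespace Cfsg.Agent.UAlt

universe u

/-- **node N3** -/
theorem nodeAn : UGT.Nodes.NodeAn'.{u} :=
  nodeAn_of_ft fun _ _ _ _ h => Cfsg.Agent.S0205.result h

end Cfsg.Agent.UAlt
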