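import Cfsg.Agent.UAlt.NormK
import Cfsg.Agent.UAlt.Four

/-!
# `K_v` is normal in `C(v)`, small fixed point sets

`normal_K_half` : `v`, `w` commuting involutions, `K`, `K'` 2-components of `C(v)`, `C(w)`, `v ∈ K'`, `w ∈ K`,
`K' / O(K')` alternating, `v` a root of `K'`; no `C_J(w)^∞`, `J ≠ K` a 2-component of `C(v)`, lies in `K'`; the roots
of `K'` commuting with `v` and in half position to `v` fix all 2-components of `C(v)` except `K`.  Then `K` is normal
in `C(v)`.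
-/

set_option autoImplicit false
set_option linter.unusedSectionVars false

open Cfsg Subgroup Equiv Equiv.Perm
open Cfsg.Agent.SignalizersComponents Cfsg.Agent.Lib
open Cfsg.Agent.SignalizersComponents.IntrinsicBasic
open Cfsg.Agent.SignalizersComponents.PLayerAut
open Cfsg.Agent.Intrinsic Cfsg.Agent.Intrinsic.Basic Cfsg.Agent.Intrinsic.Cen Cfsg.Agent.Intrinsic.Diag
open Cfsg.Agent.StdAlt (V4 four4 mem_four4)
open Cfsg.Agent.StdAlt.Roots (IsRoot)
open scoped commutatorElement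

namespace Cfsg.Agent.UAlt

section perm

variable {α : Type*} [Fintype α] [DecidableEq α]

/-- a root commuting with the root `σ`, with another support -/
theorem exists_half {P : Finset α} (h6 : 6 ≤ P.card) {σ : Perm α} (hσ : IsRoot σ) (hσP : σ ∈ sym P) :
    ∃ τ ∈ alt P, IsRoot τ ∧ σ * τ = τ * σ ∧ τ.support ≠ σ.support := by
  obtain ⟨a, ha⟩ := Finset.card_pos.mp (show 0 < σ.support.card by rw [hσ.2]; norm_num)
  have hsP : σ.support ⊆ P := by
    intro x hx
    by_contra hn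
    exact mem_support.mp hx (hσP x hn)
  obtain ⟨b, hb⟩ : ∃ b, b = σ a := ⟨_, rfl⟩
  have hab : a ≠ b := by rw [hb]; exact (mem_support.mp ha).symm
  have hba : σ b = a := by rw [hb, ← Perm.mul_apply, hσ.1, Perm.one_apply]
  have hbs : b ∈ σ.support := by rw [mem_support, hba]; exact hab
  obtain ⟨e, he, e', he', hee⟩ : ∃ e ∈ P \ σ.support, ∃ e' ∈ P \ σ.support, e ≠ e' := by
    apply Finset.one_lt_card.1
    have := Finset.le_card_sdiff σ.support P
    rw [hσ.2] at this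
    omega
  rw [Finset.mem_sdiff, notMem_support] at he he'
  have hea : a ≠ e := fun h => (mem_support.mp ha) (by rw [h]; exact he.2)
  have hea' : a ≠ e' := fun h => (mem_support.mp ha) (by rw [h]; exact he'.2)
  have heb : b ≠ e := fun h => (mem_support.mp hbs) (by rw [h]; exact he.2)
  have heb' : b ≠ e' := fun h => (mem_support.mp hbs) (by rw [h]; exact he'.2)
  have hr : IsRoot (swap a b * swap e e') :=
    Cfsg.Agent.StdAlt.Roots.isRoot_swap_mul hab hea hea' heb heb' hee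
  refine ⟨swap a b * swap e e', ⟨hr.mem_alternatingGroup, ?_⟩, hr, ?_, ?_⟩
  · intro x hx
    have h1 : ∀ {y : α}, y ∈ P → x ≠ y := fun hy h => hx (h ▸ hy)
    rw [Perm.mul_apply, swap_apply_of_ne_of_ne (h1 he.1) (h1 he'.1),
      swap_apply_of_ne_of_ne (h1 (hsP ha)) (h1 (hsP hbs))]
  · have h1 : σ * swap a b = swap a b * σ := by
      rw [Equiv.mul_swap_eq_swap_mul, ← hb, hba, swap_comm b a]
    have h2 : σ * swap e e' = swap e e' * σ := by
      rw [Equiv.mul_swap_eq_swap_mul, he.2, he'.2]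
    rw [← mul_assoc, h1, mul_assoc, h2, mul_assoc]
  · intro h
    have h1 : e ∈ (swap a b * swap e e').support := by
      rw [mem_support, Perm.mul_apply, swap_apply_left, swap_apply_of_ne_of_ne hea'.symm heb'.symm]
      exact hee.symm
    rw [h, mem_support] at h1
    exact h1 he.2

end perm

variable {G : Type*} [Group G] [Finite G] {α : Type*} [Fintype α] [DecidableEq α]
  {v w : G} {K K' : Subgroup G} {P : Finset α}

/-- step A -/
theorem fixes_other_side' (hv2 : v * v = 1) (hw2 : w * w = 1) (hvw : v * w = w * v)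
    (hK : IsComp (centralizer ({v} : Set G)) K) (hK' : IsComp (centralizer ({w} : Set G)) K')
    (hvK' : v ∈ K') (hwK : w ∈ K) {J : Subgroup G}
    (hJ : IsComp (centralizer ({v} : Set G)) J) (hne : J ≠ K) (hn : ¬ cen J w ≤ K') {j : G}
    (hj : j ∈ J) (hj2 : j * j = 1) (hjw : j * w = w * j) : Fixes j K' := by
  have hwJ : Fixes w J := hJ.fixes_of_mem hK hne hwK
  obtain ⟨J', hJ', hne', h1, -⟩ := jump hv2 hw2 hvw hJ hwJ hK' hvK' hn
  have h2 : j ∈ J' := by
    have h3 := mem_cen_of_sq hj hjw hj2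
    rw [h1] at h3
    exact cen_le J' v h3
  exact hK'.fixes_of_mem hJ' hne'.symm h2

/-- **the common part**: if `K` is not normal in `C(v)`, then for some `g ∈ C(v)`, `K^g ≠ K`, `w^g` commutes with `w`
and the 2-components `C_{K'}(w^g)^∞`, `C_{K'^g}(w)^∞` agree. -/
theorem exists_bad_conj (hv2 : v * v = 1) (hw2 : w * w = 1) (hvw : v * w = w * v)
    (hK : IsComp (centralizer ({v} : Set G)) K) (hK' : IsComp (centralizer ({w} : Set G)) K')
    (hvK' : v ∈ K') (hwK : w ∈ K) (hv1 : ¬ Fixes v K')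
    (hn : ∀ J, IsComp (centralizer ({v} : Set G)) J → J ≠ K → ¬ cen J w ≤ K')
    (hnot : ¬ centralizer ({v} : Set G) ≤ normalizer (K : Set G)) :
    ∃ g : G, g * v = v * g ∧ cj g K ≠ K ∧ ∃ j : G, j = g * w * g⁻¹ ∧ j * w = w * j ∧ j * v = v * j ∧
      Fixes j K' ∧ Fixes w (cj g K') ∧ v ∈ cen K' j ∧ cen K' j = cen (cj g K') w ∧
      cen K' j ⊔ core K' = K' ∧ cen (cj g K') w ⊔ core (cj g K') = cj g K' := by
  obtain ⟨g, hg, hne⟩ := SetLike.not_le_iff_exists.mp hnot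
  rw [mem_normalizer_iff_cj] at hne
  have hJ : IsComp (centralizer ({v} : Set G)) (cj g K) := isComp_cj_of_mem hK hg
  have hwJ : Fixes w (cj g K) := hJ.fixes_of_mem hK hne hwK
  have hj0 : g * w * g⁻¹ ∈ cj g K := conj_mem_cj hwK
  have hj02 : g * w * g⁻¹ * (g * w * g⁻¹) = 1 := by
    calc g * w * g⁻¹ * (g * w * g⁻¹) = g * (w * w) * g⁻¹ := by group
      _ = 1 := by rw [hw2]; group
  -- correction of `g`
  obtain ⟨o, ho, ho2, hoc⟩ := Lifting.exists_involution (n := 1) (odd_card_core (cj g K))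
    (by rw [pow_one, pow_two, hw2] : w ^ 2 ^ 1 = 1) (normalizer_le_normalizer_core _ hwJ.1)
    (le_normalizer_core _ hj0) (by rw [hj02]; exact one_mem _)
    ((fixes_iff_conj.mp hwJ).2 _ hj0)
  obtain ⟨z, hz, hzj⟩ := Lifting.exists_conj_eq (n := 1) (m := 1) (odd_card_core (cj g K))
    (v := g * w * g⁻¹) (v' := g * w * g⁻¹ * o) (by rw [pow_one, pow_two, hj02])
    (by rw [pow_one, pow_two, ho2]) (le_normalizer_core _ hj0) (by
      rw [inv_mul_cancel_left]; exact ho)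
  have hzJ : z ∈ cj g K := core_le _ hz
  obtain ⟨g', hg'⟩ : ∃ g', g' = z * g := ⟨_, rfl⟩
  have hgv : g' * v = v * g' := by
    have h1 : z * v = v * z := memC_iff.mp (hJ.le hzJ)
    rw [hg', mul_assoc, memC_iff.mp hg, ← mul_assoc, h1, mul_assoc]
  have hcjJ : cj g' K = cj g K := by
    rw [hg', cj_mul, cj_eq_self_of_mem hzJ]
  have hj : g' * w * g'⁻¹ = g * w * g⁻¹ * o := by
    rw [← hzj, hg']; group
  obtain ⟨j, hjd⟩ : ∃ j, j = g' * w * g'⁻¹ := ⟨_, rfl⟩
  have hj2 : j * j = 1 := by rw [hjd, hj]; exact ho2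
  have hjw : j * w = w * j := by rw [hjd, hj]; exact hoc.symm
  have hvg : g'⁻¹ * v = v * g'⁻¹ := by
    rw [inv_mul_eq_iff_eq_mul, ← mul_assoc, hgv, mul_inv_cancel_right]
  have hgv' : g' * v * g'⁻¹ = v := by rw [hgv, mul_inv_cancel_right]
  have hgv'' : g'⁻¹ * v * g' = v := by rw [hvg, inv_mul_cancel_right]
  have hjv : j * v = v * j := by
    have h1 : g' * (w * v) * g'⁻¹ = g' * (v * w) * g'⁻¹ := by rw [hvw]
    calc j * v = g' * w * g'⁻¹ * (g' * v * g'⁻¹) := by rw [hjd, hgv']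
      _ = g' * (w * v) * g'⁻¹ := by group
      _ = g' * (v * w) * g'⁻¹ := h1
      _ = (g' * v * g'⁻¹) * (g' * w * g'⁻¹) := by group
      _ = v * j := by rw [hjd, hgv']
  rw [← hcjJ] at hJ hne
  -- `j` fixes `K'`
  have hf1 : Fixes j K' := fixes_other_side' hv2 hw2 hvw hK hK' hvK' hwK hJ hne (hn _ hJ hne)
    (by rw [hjd]; exact conj_mem_cj hwK) hj2 hjw
  -- `w` fixes `K'^g`
  have hf2 : Fixes w (cj g' K') := by
    have hJ2 : IsComp (centralizer ({v} : Set G)) (cj g'⁻¹ K) :=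
      isComp_cj_of_mem hK (memC_iff.mpr hvg)
    have hne2 : cj g'⁻¹ K ≠ K := by
      intro h
      apply hne
      conv_lhs => rw [← h]
      rw [cj_cj_inv]
    have hm : g'⁻¹ * w * g' ∈ cj g'⁻¹ K := by
      have := conj_mem_cj (g := g'⁻¹) hwK
      rwa [inv_inv] at this
    have h2 : g'⁻¹ * w * g' * (g'⁻¹ * w * g') = 1 := by
      calc g'⁻¹ * w * g' * (g'⁻¹ * w * g') = g'⁻¹ * (w * w) * g' := by group
        _ = 1 := by rw [hw2]; group
    have h3 : g'⁻¹ * w * g' * w = w * (g'⁻¹ * w * g') := by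
      have h4 : g'⁻¹ * (w * j) * g' = g'⁻¹ * (j * w) * g' := by rw [hjw]
      calc g'⁻¹ * w * g' * w = g'⁻¹ * (w * (g' * w * g'⁻¹)) * g' := by group
        _ = g'⁻¹ * (j * w) * g' := by rw [← hjd, h4]
        _ = w * (g'⁻¹ * w * g') := by rw [hjd]; group
    have h5 := (fixes_other_side' hv2 hw2 hvw hK hK' hvK' hwK hJ2 hne2 (hn _ hJ2 hne2) hm h2 h3).cj g'
    have h6 : g' * (g'⁻¹ * w * g') * g'⁻¹ = w := by group
    rwa [h6] at h5
  have hK'' : IsComp (centralizer ({j} : Set G)) (cj g' K') := by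
    have := hK'.cj g'
    rwa [cj_centralizer, ← hjd] at this
  obtain ⟨hI1, hs1⟩ := isComp_cen hK' (memC_iff.mpr hjw) hj2 hf1
  obtain ⟨hI2, hs2⟩ := isComp_cen hK'' (memC_iff.mpr hjw.symm) hw2 hf2
  rw [inf_comm] at hI2
  have hv1' : v ∈ cen K' j := mem_cen_of_sq hvK' hjv.symm hv2
  have hvK'' : v ∈ cj g' K' := by
    have := conj_mem_cj (g := g') hvK'
    rwa [hgv'] at this
  have hv2' : v ∈ cen (cj g' K') w := mem_cen_of_sq hvK'' hvw hv2
  have heq : cen K' j = cen (cj g' K') w := by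
    by_contra hne3
    have h1 := hI1.fixes_of_mem hI2 hne3 hv2'
    exact hv1 ((fixes_iff_of_sup hs1 h1.1 (le_normalizer hvK')).mp h1)
  exact ⟨g', hgv, hne, j, hjd, hjw, hjv, hf1, hf2, hv1', heq, hs1, hs2⟩

/-- **`K` is normal in `C(v)`** -/
theorem normal_K_half (hv2 : v * v = 1) (hw2 : w * w = 1) (hvw : v * w = w * v)
    (hK : IsComp (centralizer ({v} : Set G)) K) (hK' : IsComp (centralizer ({w} : Set G)) K')
    (hvK' : v ∈ K') (hwK : w ∈ K) (M : Mod K' P) (hv1 : IsRoot (M.φ v)) (h7 : 7 ≤ P.card)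
    (hn : ∀ J, IsComp (centralizer ({v} : Set G)) J → J ≠ K → ¬ cen J w ≤ K')
    (hA : ∀ s ∈ K', s * s = 1 → v * s = s * v → IsRoot (M.φ s) → (M.φ s).support ≠ (M.φ v).support →
      (∀ J, IsComp (centralizer ({v} : Set G)) J → J ≠ K → Fixes s J) ∧ ¬ Fixes s K) :
    centralizer ({v} : Set G) ≤ normalizer (K : Set G) := by
  by_contra hnot
  have hne1 : ¬ Fixes v K' := by
    intro h
    have h1 := (M.fixes_iff (le_normalizer hvK')).mpr h
    have h2 := hv1.2
    rw [h1, Perm.support_one, Finset.card_empty] at h2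
    omega
  obtain ⟨g, hgv, hne, j, hjd, hjw, hjv, hf1, hf2, hvI, heq, hs1, hs2⟩ :=
    exists_bad_conj hv2 hw2 hvw hK hK' hvK' hwK hne1 hn hnot
  have hvg : g⁻¹ * v = v * g⁻¹ := by
    rw [inv_mul_eq_iff_eq_mul, ← mul_assoc, hgv, mul_inv_cancel_right]
  have hgv'' : g⁻¹ * v * g = v := by rw [hvg, inv_mul_cancel_right]
  have hvI2 : v ∈ cen (cj g K') w := heq ▸ hvI
  obtain ⟨A1, hA1⟩ := M.exists_restrict h7 hs1
  obtain ⟨A2', hA2'⟩ := (M.cj g).exists_restrict h7 hs2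
  obtain ⟨A2, hA2⟩ : ∃ A2 : Mod (cen K' j) P, ∀ x ∈ cen K' j, A2.φ x = (M.cj g).φ x := by
    rw [heq]; exact ⟨A2', hA2'⟩
  obtain ⟨τ, hτP, hτ⟩ := Mod.exists_bij A1 A2 h7
  -- `s ∈ I`
  obtain ⟨σ, hσ, hσr, hσc, hσs⟩ := exists_half (P := P) (by omega) hv1 (M.mem_sym v (le_normalizer hvK'))
  obtain ⟨s, hs, hss, hvs, hsσ⟩ := A1.exists_inv_lift (t := v) (le_normalizer hvI) (n := 1)
    (by rw [pow_one, pow_two, hv2]) hσ hσr.1 (by rw [hA1 v hvI]; exact hσc)
  have hsK' : s ∈ K' := cen_le K' j hs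
  have e1 : M.φ s = σ := by rw [← hA1 s hs]; exact hsσ
  obtain ⟨-, h1⟩ := hA s hsK' hss hvs (by rw [e1]; exact hσr) (by rw [e1]; exact hσs)
  -- the conjugate
  have hs2K : s ∈ cj g K' := by
    rw [heq] at hs
    exact cen_le _ w hs
  have hs'K' : g⁻¹ * s * g ∈ K' := mem_cj.mp hs2K
  have e2 : M.φ (g⁻¹ * s * g) = τ * σ * τ⁻¹ := by
    rw [← Mod.cj_φ, ← hA2 s hs, hτ s (le_normalizer hs), hA1 s hs, e1]
  have e3 : M.φ v = τ * M.φ v * τ⁻¹ := by
    have h2 : M.φ v = (M.cj g).φ v := by rw [Mod.cj_φ, hgv'']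
    conv_lhs => rw [h2, ← hA2 v hvI, hτ v (le_normalizer hvI), hA1 v hvI]
  have h2 : g⁻¹ * s * g * (g⁻¹ * s * g) = 1 := by
    calc g⁻¹ * s * g * (g⁻¹ * s * g) = g⁻¹ * (s * s) * g := by group
      _ = 1 := by rw [hss]; group
  have h3 : v * (g⁻¹ * s * g) = g⁻¹ * s * g * v := by
    calc v * (g⁻¹ * s * g) = (v * g⁻¹) * s * g := by group
      _ = g⁻¹ * (v * s) * g := by rw [← hvg]; group
      _ = g⁻¹ * s * (v * g) := by rw [hvs]; group
      _ = g⁻¹ * s * g * v := by rw [← hgv]; group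
  obtain ⟨h4, -⟩ := hA (g⁻¹ * s * g) hs'K' h2 h3 (by rw [e2]; exact hσr.conj τ) (by
    rw [e2, e3, Perm.support_conj, Perm.support_conj]
    exact fun h => hσs (Finset.map_injective _ h))
  have hJ2 : IsComp (centralizer ({v} : Set G)) (cj g⁻¹ K) :=
    isComp_cj_of_mem hK (memC_iff.mpr hvg)
  have hne2 : cj g⁻¹ K ≠ K := by
    intro h
    apply hne
    conv_lhs => rw [← h]
    rw [cj_cj_inv]
  have h5 := (h4 _ hJ2 hne2).cj g
  rw [cj_cj_inv] at h5
  apply h1
  convert h5 using 1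
  group

end Cfsg.Agent.UAlt
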