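import Cfsg.Agent.UAlt.Eleven.NormA
import Cfsg.Agent.UAlt.RFConj
import Cfsg.Agent.UAlt.CaseN1
import Cfsg.Agent.UAlt.Ident
import Cfsg.Agent.Intrinsic.Functor

/-!
# Case N with `X = ∅`: `K_v` is normal in `C(v)`, eleven points

* `KZ M v K`: `K` is the 2-component of `C(v)` containing `C_L(v)^∞`, covered by it (`ξ = 0`).
* `KD.kz`: case N with `X = ∅`.
* `KZ.exists_mod`: the labels of `K_v` and of `L` agree on the members of `N(L)` commuting with `v`.
* `ZW V V'`: the completion `W = ⟨O(C(v)) : v ∈ V#⟩ = ⟨O(C(v)) : v ∈ V'#⟩`.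
* `KZ.normal_eleven`: (3.6) of helper374's text for `n = 11`.
-/

set_option autoImplicit false
set_option linter.unusedSectionVars false

open Cfsg Subgroup Equiv Equiv.Perm
open Cfsg.Agent.SignalizersComponents Cfsg.Agent.Lib
open Cfsg.Agent.SignalizersComponents.IntrinsicBasic
open Cfsg.Agent.Intrinsic Cfsg.Agent.Intrinsic.Basic Cfsg.Agent.Intrinsic.Cen Cfsg.Agent.Intrinsic.Diag
open Cfsg.Agent.McLLyComp.Act
open Cfsg.Agent.StdAlt.Roots (IsRoot)
open scoped commutatorElement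

namespace Cfsg.Agent.UAlt

variable {G : Type*} [Group G] {α : Type*} [Fintype α] [DecidableEq α]
  {L : Subgroup G} {Ω : Finset α} {M : Mod L Ω}

/-- `ξ = 0`: the 2-component `K` of `C(v)` contains `C_L(v)^∞`, which covers `K / O(K)` -/
structure KZ (M : Mod L Ω) (v : G) (K : Subgroup G) : Prop where
  comp : IsComp (centralizer ({v} : Set G)) K
  le : M.cmp v ≤ K
  cover : M.cmp v ⊔ core K = K

/-- the completion of the functor `v ↦ O(C(v))` on two commuting root four-groups -/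
structure ZW (V V' : Subgroup G) : Prop where
  eq : Functor.W V = Functor.W V'
  odd : Odd (Nat.card (Functor.W V))
  left : ∀ v ∈ V, v ≠ 1 → Functor.W V ⊓ centralizer ({v} : Set G) = core (centralizer ({v} : Set G))
  right : ∀ v ∈ V', v ≠ 1 → Functor.W V ⊓ centralizer ({v} : Set G) = core (centralizer ({v} : Set G))

theorem ZW.swap {V V' : Subgroup G} (h : ZW V V') : ZW V' V where
  eq := h.eq.symm
  odd := h.eq ▸ h.odd
  left := h.eq ▸ h.right
  right := h.eq ▸ h.left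

variable [Finite G]

theorem KD.kz {a v : G} {K : Subgroup G} {Mv : Mod K (fixIn Ω (M.φ v) ∪ ∅)} (h9 : 9 ≤ Ω.card)
    (hv : M.Rt v) (h : KD M a ∅ v K Mv) : KZ M v K := by
  refine ⟨h.comp, h.le, sup_of_exists h.le fun x hx => ?_⟩
  have h0 : fixIn Ω (M.φ v) ∪ ∅ = fixIn Ω (M.φ v) := Finset.union_empty _
  have h1 : Mv.φ x ∈ alt (fixIn Ω (M.φ v)) := alt_mono (le_of_eq h0) (Mv.mem_alt x hx)
  obtain ⟨m, hm, hmx⟩ := M.cmp_lift (le_normalizer hv.1) hv.2.1 (by rw [hv.card_fix]; omega) h1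
  exact ⟨m, hm, (Mv.eq_iff (h.le hm) hx).mp (by rw [h.agree m hm]; exact hmx)⟩

section kz

theorem Mod.cmp_conj' (M : Mod L Ω) {g t : G} (hg : g ∈ normalizer (L : Set G))
    (ht : t ∈ normalizer (L : Set G)) (htt : t * t = 1) (h5 : 5 ≤ (fixIn Ω (M.φ t)).card) :
    M.cmp (g * t * g⁻¹) = IntrinsicBasic.cj g (M.cmp t) := by
  have h1 := (M.isComp_cmp ht htt h5).cj g
  rw [cj_inf, mem_normalizer_iff_cj.mp hg, cj_centralizer] at h1
  refine ((M.isComp_iff_cmp (mul_mem (mul_mem hg ht) (inv_mem hg)) ?_).mp h1).1.symm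
  rw [show g * t * g⁻¹ * (g * t * g⁻¹) = g * (t * t) * g⁻¹ by group, htt]; group

variable {v : G} {K : Subgroup G}

/-- members of `N(L) ∩ C(v)` normalize `C_L(v)^∞` -/
theorem mem_normalizer_cmp (h9 : 9 ≤ Ω.card) (hv : M.Rt v) {g : G} (hg : g ∈ normalizer (L : Set G))
    (hgv : g * v = v * g) : g ∈ normalizer (M.cmp v : Set G) := by
  rw [mem_normalizer_iff_cj]
  have h1 := M.cmp_conj' hg (le_normalizer hv.1) hv.2.1 (by rw [hv.card_fix]; omega)
  rw [hgv, mul_inv_cancel_right] at h1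
  exact h1.symm

theorem KZ.mem_normalizer (h : KZ M v K) (h9 : 9 ≤ Ω.card) (hv : M.Rt v) {g : G}
    (hg : g ∈ normalizer (L : Set G)) (hgv : g * v = v * g) : g ∈ normalizer (K : Set G) :=
  mem_normalizer_of_le h.comp (M.isComp_cmp (le_normalizer hv.1) hv.2.1 (by rw [hv.card_fix]; omega))
    h.le (memC_iff.mpr hgv) (mem_normalizer_cmp h9 hv hg hgv)

/-- the labels of `K_v` -/
theorem KZ.exists_mod (h : KZ M v K) (h11 : 11 ≤ Ω.card) (hv : M.Rt v) :
    ∃ Mv : Mod K (fixIn Ω (M.φ v)), (∀ y ∈ M.cmp v, Mv.φ y = M.φ y) ∧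
      ∀ g ∈ normalizer (L : Set G), g * v = v * g → ∀ x ∈ fixIn Ω (M.φ v), Mv.φ g x = M.φ g x := by
  have h7 : 7 ≤ (fixIn Ω (M.φ v)).card := by rw [hv.card_fix]; omega
  obtain ⟨ME, hME⟩ := M.exists_cmp (le_normalizer hv.1) hv.2.1 h7
  obtain ⟨A, hA⟩ := ME.exists_extend h7 h.cover
  refine ⟨A, fun y hy => by rw [hA y hy, hME y hy], fun g hg hgv x hx => ?_⟩
  have h1 := mem_normalizer_cmp (by omega) hv hg hgv
  rw [← M.compat ME (M.cmp_le v) hME hg h1 hx,
    A.compat ME h.le (fun y hy => (hA y hy).symm) (h.mem_normalizer (by omega) hv hg hgv) h1 hx]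

theorem KZ.eq (h9 : 9 ≤ Ω.card) (hv : M.Rt v) {K' : Subgroup G} (h : KZ M v K) (h' : KZ M v K') :
    K = K' :=
  (M.isComp_cmp (le_normalizer hv.1) hv.2.1 (by rw [hv.card_fix]; omega)).unique h.comp h'.comp h.le h'.le

/-- transport by `g ∈ L` -/
theorem KZ.conj (h : KZ M v K) (h9 : 9 ≤ Ω.card) (hv : M.Rt v) {g : G}
    (hg : g ∈ normalizer (L : Set G)) : KZ M (g * v * g⁻¹) (cj g K) := by
  have h1 := M.cmp_conj' hg (le_normalizer hv.1) hv.2.1 (by rw [hv.card_fix]; omega)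
  refine ⟨?_, ?_, ?_⟩
  · rw [← cj_centralizer]; exact h.comp.cj g
  · rw [h1]; exact cj_mono h.le
  · rw [h1, core_cj, cj_def, cj_def, cj_def, ← Subgroup.map_sup, h.cover]

end kz

section normal

variable {V V' K K' : Subgroup G} {T T' : Finset α} {v w : G}

/-- the labels of `v ∈ V` in `K_w`, `w ∈ V'` -/
theorem KZ.mem_other (hV : RF M V T) (hV' : RF M V' T') (d : Disjoint T T') (c : Cm V V')
    (hv : v ∈ V) (hw : w ∈ V') (h2 : w ≠ 1) (hK' : KZ M w K') : v ∈ M.cmp w ∧ v ∈ K' := by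
  have h1 : v ∈ M.cmp w := hV'.le_cmp' hV d.symm (fun x hx y hy => (c y hy x hx).symm) hw h2 hv
  exact ⟨h1, hK'.le h1⟩

/-- **(3.6)** `K_v` is normal in `C(v)`, `n = 11` -/
theorem KZ.normal_eleven (h11 : Ω.card = 11) (hV : RF M V T) (hV' : RF M V' T') (d : Disjoint T T')
    (c : Cm V V') (hv : v ∈ V) (h1 : v ≠ 1) (hw : w ∈ V') (h2 : w ≠ 1) (hK : KZ M v K)
    (hK' : KZ M w K')
    (h31 : ∀ r, M.Rt r → v * r = r * v → ∀ J, IsComp (centralizer ({v} : Set G)) J → J ≠ K → Fixes r J)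
    (h32 : core (centralizer ({w} : Set G)) ⊓ centralizer ({v} : Set G) ≤
      core (centralizer ({v} : Set G))) :
    centralizer ({v} : Set G) ≤ normalizer (K : Set G) := by
  have hrv := hV.rt hv h1
  have hrw := hV'.rt hw h2
  have hvv := hV.sq v hv
  have hww := hV'.sq w hw
  have hvw := c v hv w hw
  obtain ⟨hvc, hvK'⟩ := KZ.mem_other hV hV' d c hv hw h2 hK'
  obtain ⟨hwc, hwK⟩ := KZ.mem_other hV' hV d.symm (fun x hx y hy => (c y hy x hx).symm) hw hv h1 hK
  obtain ⟨Mw, hMw, hMw'⟩ := hK'.exists_mod (by omega) hrw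
  obtain ⟨Mv, hMv, hMv'⟩ := hK.exists_mod (by omega) hrv
  have hφ : Mw.φ v = M.φ v := hMw v hvc
  have hcard : (fixIn Ω (M.φ w)).card = 7 := by rw [hrw.card_fix, h11]
  refine normal_K_half hvv hww hvw hK.comp hK'.comp hvK' hwK Mw (by rw [hφ]; exact hrv.isRoot)
    (by omega) ?_ ?_
  · intro J hJ hne hle
    have hwJ : Fixes w J := hJ.fixes_of_mem hK.comp hne hwK
    have h3 := (isComp_cen hJ (memC_iff.mpr hvw.symm) hww hwJ).1
    have h4 : IsComp (K' ⊓ centralizer ({v} : Set G)) (cen J w) := by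
      refine isComp_inf (H := centralizer ({w} : Set G)) ?_ hK'.comp hle
      rw [inf_comm]; exact h3
    obtain ⟨-, h5⟩ := (Mw.isComp_iff_cmp (le_normalizer hvK') hvv).mp h4
    have h6 : fixIn (fixIn Ω (M.φ w)) (Mw.φ v) ⊆ (Ω \ T') \ T := by
      intro x hx
      rw [hφ, mem_fixIn, hV'.fixIn_eq hw h2] at hx
      exact Finset.mem_sdiff.mpr ⟨hx.1, fun hT => (hV.root hv h1).apply_ne hT hx.2⟩
    have h7 := Finset.card_le_card h6
    have h8 : T ⊆ Ω \ T' := fun x hx => Finset.mem_sdiff.mpr ⟨hV.sub hx,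
      fun hx' => Finset.disjoint_left.mp d hx hx'⟩
    rw [Finset.card_sdiff_of_subset h8, Finset.card_sdiff_of_subset hV'.sub, hV.card, hV'.card, h11] at h7
    omega
  · intro s hs hss hvs hsr hssupp
    -- a root of `L` with the label of `s`
    obtain ⟨ME, hME⟩ := M.exists_cmp (le_normalizer hrw.1) hrw.2.1 (by omega)
    obtain ⟨r, hr, hrr, hvr, hrs⟩ := ME.exists_inv_lift (t := v) (le_normalizer hvc) (n := 1)
      (by rw [pow_one, pow_two, hvv]) (Mw.mem_alt s hs) hsr.1 (by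
        rw [hME v hvc, ← hφ]
        exact Mw.comm (le_normalizer hvK') (le_normalizer hs) hvs)
    rw [hME r hr] at hrs
    have hrt : M.Rt r := ⟨M.cmp_le w hr, hrr, by rw [hrs]; exact hsr⟩
    have ho : r⁻¹ * s ∈ core (centralizer ({v} : Set G)) := by
      apply h32
      refine ⟨hK'.comp.core_le_core ((Mw.eq_iff (hK'.le hr) hs).mp (by rw [hMw r hr]; exact hrs)), ?_⟩
      exact Subgroup.mul_mem _ (Subgroup.inv_mem _ (memC_iff.mpr hvr.symm)) (memC_iff.mpr hvs.symm)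
    have hiff : ∀ J, IsComp (centralizer ({v} : Set G)) J → (Fixes s J ↔ Fixes r J) := by
      intro J hJ
      have h3 : Fixes (r⁻¹ * s) J := hJ.fixes_of_core ho
      have h4 := fixes_mul_iff_left (a := r) h3
      rw [mul_inv_cancel_left] at h4
      exact h4
    refine ⟨fun J hJ hne => (hiff J hJ).mpr (h31 r hrt hvr J hJ hne), fun hf => ?_⟩
    rw [hiff K hK.comp] at hf
    have h5 := (Mv.fixes_iff hf.1).mpr hf
    apply hssupp
    rw [← hrs, hφ]
    apply Finset.eq_of_subset_of_card_le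
    · intro x hx
      by_contra hn
      have h6 : x ∈ fixIn Ω (M.φ v) := mem_fixIn.mpr ⟨?_, notMem_support.mp hn⟩
      · have h7 := hMv' r (le_normalizer hrt.1) hvr.symm x h6
        rw [h5, Perm.one_apply] at h7
        exact mem_support.mp hx h7.symm
      · by_contra hxΩ
        exact mem_support.mp hx (M.mem_sym r (le_normalizer hrt.1) x hxΩ)
    · rw [hrv.isRoot.2, hrt.2.2.2]

end normal

end Cfsg.Agent.UAlt
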