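import Cfsg.Agent.UAlt.Eleven.NormB
import Cfsg.Agent.UAlt.ModT

/-!
# Case N with `X = ∅`: `L` normalizes `W` and `O(L) ≤ W`

* `ZPair`: the situation after (3.6): `K_v` is normal in `C(v)` for `v ∈ V ∪ V'`.
* `ZPair.K_le`, `ZPair.cent_le`, `ZPair.L_le`: (3.7).
* `ZPair.comm_mem`: `[O(L), L] ≤ W`.
-/

set_option autoImplicit false
set_option linter.unusedSectionVars false

open Cfsg Subgroup Equiv Equiv.Perm
open Cfsg.Agent.SignalizersComponents Cfsg.Agent.Lib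
open Cfsg.Agent.SignalizersComponents.IntrinsicBasic
open Cfsg.Agent.Intrinsic Cfsg.Agent.Intrinsic.Basic Cfsg.Agent.Intrinsic.Cen Cfsg.Agent.Intrinsic.Diag
open Cfsg.Agent.McLLyComp.Act
open Cfsg.Agent.StdAlt.Roots (IsRoot)
open scoped commutatorElement

namespace Cfsg.Agent.UAlt

variable {G : Type*} [Group G] {α : Type*} [Fintype α] [DecidableEq α]
  {L : Subgroup G} {Ω : Finset α} {M : Mod L Ω} {V V' : Subgroup G} {T T' : Finset α}

/-- the situation after (3.6) -/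
structure ZPair [Finite G] (M : Mod L Ω) (V V' : Subgroup G) (T T' : Finset α) : Prop where
  h11 : 11 ≤ Ω.card
  r1 : RF M V T
  r2 : RF M V' T'
  d : Disjoint T T'
  c : Cm V V'
  zw : ZW V V'
  kz : ∀ v, M.Rt v → ∃ K, KZ M v K
  nl : ∀ v ∈ V, v ≠ 1 → ∀ K, KZ M v K → centralizer ({v} : Set G) ≤ normalizer (K : Set G)
  nr : ∀ v ∈ V', v ≠ 1 → ∀ K, KZ M v K → centralizer ({v} : Set G) ≤ normalizer (K : Set G)

variable [Finite G]

theorem ZPair.swap (h : ZPair M V V' T T') : ZPair M V' V T' T where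
  h11 := h.h11
  r1 := h.r2
  r2 := h.r1
  d := h.d.symm
  c := fun x hx y hy => (h.c y hy x hx).symm
  zw := h.zw.swap
  kz := h.kz
  nl := h.nr
  nr := h.nl

/-- a root four-group in `C_L(v)^∞`, as a root four-group of `K_v` -/
theorem RF.of_le {K : Subgroup G} {F : Finset α} {Mv : Mod K F} (hV : RF M V T) (hle : V ≤ K)
    (hT : T ⊆ F) (hφ : ∀ x ∈ V, Mv.φ x = M.φ x) : RF Mv V T := by
  refine ⟨hle, hT, hV.card, hV.sq, fun w hw => ?_, fun σ hσ hσσ => ?_⟩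
  · rw [hφ w hw]; exact hV.mem w hw
  · obtain ⟨w, hw, hwσ⟩ := hV.lift σ hσ hσσ
    exact ⟨w, hw, by rw [hφ w hw]; exact hwσ⟩

theorem ZPair.O_le (h : ZPair M V V' T T') {v : G} (hv : v ∈ V) (h1 : v ≠ 1) :
    core (centralizer ({v} : Set G)) ≤ Functor.W V := by
  rw [← h.zw.left v hv h1]; exact inf_le_left

/-- `K_v ≤ N(W)` -/
theorem ZPair.K_le (h : ZPair M V V' T T') {v : G} (hv : v ∈ V) (h1 : v ≠ 1) {K : Subgroup G}
    (hK : KZ M v K) : K ≤ normalizer (Functor.W V : Set G) := by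
  obtain ⟨Mv, hMv, hMv'⟩ := hK.exists_mod h.h11 (h.r1.rt hv h1)
  have hfix : ∀ u ∈ V, u ∈ normalizer (K : Set G) ∧ Mv.φ u = 1 := by
    intro u hu
    have h2 : u ∈ normalizer (K : Set G) :=
      hK.mem_normalizer (by have := h.h11; omega) (h.r1.rt hv h1) (le_normalizer (h.r1.le hu))
        (h.r1.comm hu hv)
    refine ⟨h2, ?_⟩
    ext x
    rw [Perm.one_apply]
    by_cases hx : x ∈ fixIn Ω (M.φ v)
    · rw [hMv' u (le_normalizer (h.r1.le hu)) (h.r1.comm hu hv) x hx]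
      rw [h.r1.fixIn_eq hv h1, Finset.mem_sdiff] at hx
      exact (h.r1.mem u hu).2 x hx.2
    · exact Mv.mem_sym u h2 x hx
  intro y hy
  obtain ⟨k, hk, hkV, hkφ⟩ := Mv.exists_fix_lift h.r1.isPGroup (fun u hu => (hfix u hu).1)
    (Mv.mem_alt y hy) (fun u hu => by rw [(hfix u hu).2, one_mul, mul_one])
  have h2 : k⁻¹ * y ∈ core K := (Mv.eq_iff hk hy).mp hkφ
  have h3 : k⁻¹ * y ∈ Functor.W V := h.O_le hv h1 (hK.comp.core_le_core h2)
  have h4 : k ∈ normalizer (Functor.W V : Set G) := by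
    apply Functor.normalizer_le V
    apply centralizer_le_normalizer
    rw [mem_centralizer_iff]
    exact fun u hu => (hkV u hu).symm
  have h5 := mul_mem h4 (le_normalizer h3)
  rwa [mul_inv_cancel_left] at h5

/-- `C(v) ≤ N(W)` -/
theorem ZPair.cent_le (h : ZPair M V V' T T') {v : G} (hv : v ∈ V) (h1 : v ≠ 1) :
    centralizer ({v} : Set G) ≤ normalizer (Functor.W V : Set G) := by
  obtain ⟨K, hK⟩ := h.kz v (h.r1.rt hv h1)
  obtain ⟨Mv, hMv, hMv'⟩ := hK.exists_mod h.h11 (h.r1.rt hv h1)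
  intro g hg
  have hgK := h.nl v hv h1 K hK hg
  have hmem : ∀ w ∈ V', w ∈ M.cmp v := fun w hw => h.r1.le_cmp' h.r2 h.d h.c hv h1 hw
  have hRF : RF Mv V' T' := by
    refine h.r2.of_le (fun w hw => hK.le (hmem w hw)) ?_ (fun w hw => hMv w (hmem w hw))
    intro y hy
    rw [h.r1.fixIn_eq hv h1, Finset.mem_sdiff]
    exact ⟨h.r2.sub hy, fun hyT => Finset.disjoint_left.mp h.d hyT hy⟩
  obtain ⟨k, hk, hkg⟩ := hRF.frattini hgK
  have h2 : k * g ∈ normalizer (Functor.W V : Set G) := by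
    rw [h.zw.eq]
    exact Functor.normalizer_le V' hkg
  have h3 := h.K_le hv h1 hK hk
  have h4 := mul_mem (inv_mem h3) h2
  rwa [inv_mul_cancel_left] at h4

theorem ZPair.cent_le' (h : ZPair M V V' T T') {v : G} (hv : v ∈ V') (h1 : v ≠ 1) :
    centralizer ({v} : Set G) ≤ normalizer (Functor.W V : Set G) := by
  rw [h.zw.eq]
  exact h.swap.cent_le hv h1

/-- `alt Ω` is generated by the labels of the members of `L` commuting with members of `V` or `V'` -/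
theorem ZPair.alt_le (h : ZPair M V V' T T') {Q : Subgroup (Perm α)} (hA : alt (Ω \ T) ≤ Q)
    (hB : alt (Ω \ T') ≤ Q) : alt Ω ≤ Q := by
  have h11 := h.h11
  have hun : (Ω \ T) ∪ (Ω \ T') = Ω := by
    ext y
    simp only [Finset.mem_union, Finset.mem_sdiff]
    constructor
    · rintro (h | h) <;> exact h.1
    · intro hy
      by_cases hyT : y ∈ T
      · exact Or.inr ⟨hy, fun h' => Finset.disjoint_left.mp h.d hyT h'⟩
      · exact Or.inl ⟨hy, hyT⟩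
  have hint : 2 ≤ ((Ω \ T) ∩ (Ω \ T')).card := by
    have h2 : (Ω \ T) ∩ (Ω \ T') = (Ω \ T) \ T' := by
      ext y
      simp only [Finset.mem_inter, Finset.mem_sdiff]
      tauto
    rw [h2]
    have h6 := Finset.le_card_sdiff T' (Ω \ T)
    have h7 := Finset.le_card_sdiff T Ω
    have h8 := h.r1.card
    have h9 := h.r2.card
    omega
  obtain ⟨c, hc, d, hd, hcd⟩ := Finset.one_lt_card.mp (by omega : 1 < ((Ω \ T) ∩ (Ω \ T')).card)
  rw [Finset.mem_inter] at hc hd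
  refine Ident.alt_le_of_cyc_two (c := c) (d := d) (Finset.mem_sdiff.mp hc.1).1
    (Finset.mem_sdiff.mp hd.1).1 hcd (by omega) fun i hi hic hid => ?_
  rw [← hun] at hi
  rcases Finset.mem_union.mp hi with h' | h'
  · exact hA (cyc_mem_alt h' hc.1 hd.1 hic hcd)
  · exact hB (cyc_mem_alt h' hc.2 hd.2 hic hcd)

/-- generation of `L` -/
theorem ZPair.L_le_of (h : ZPair M V V' T T') {N : Subgroup G} {v w : G} (hv : v ∈ V) (h1 : v ≠ 1)
    (hw : w ∈ V') (h2 : w ≠ 1) (hcv : M.cmp v ≤ N) (hcw : M.cmp w ≤ N) (hcore : core L ≤ N) :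
    L ≤ N := by
  obtain ⟨Q, hQ⟩ : ∃ Q : Subgroup (Perm α), ∀ σ, σ ∈ Q ↔ ∃ z ∈ L, z ∈ N ∧ M.φ z = σ := by
    refine ⟨((L ⊓ N).subgroupOf (normalizer (L : Set G))).map M.hom, fun σ => ?_⟩
    constructor
    · rintro ⟨z, hz, rfl⟩
      exact ⟨z, hz.1, hz.2, rfl⟩
    · rintro ⟨z, hz, hz', rfl⟩
      exact ⟨⟨z, le_normalizer hz⟩, ⟨hz, hz'⟩, rfl⟩
  have h11 := h.h11
  have hfixQ : ∀ v, M.Rt v → M.cmp v ≤ N → alt (fixIn Ω (M.φ v)) ≤ Q := by
    intro v hv hc σ hσ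
    obtain ⟨k, hk, rfl⟩ := M.cmp_lift (le_normalizer hv.1) hv.2.1 (by rw [hv.card_fix]; omega) hσ
    exact (hQ _).mpr ⟨k, M.cmp_le v hk, hc hk, rfl⟩
  have hA := hfixQ v (h.r1.rt hv h1) hcv
  have hB := hfixQ w (h.r2.rt hw h2) hcw
  rw [h.r1.fixIn_eq hv h1] at hA
  rw [h.r2.fixIn_eq hw h2] at hB
  have hall := h.alt_le hA hB
  intro y hy
  obtain ⟨z, hz, hzW, hzφ⟩ := (hQ _).mp (hall (M.mem_alt y hy))
  have h2 : z⁻¹ * y ∈ core L := (M.eq_iff hz hy).mp hzφ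
  have h3 := mul_mem hzW (hcore h2)
  rwa [mul_inv_cancel_left] at h3

/-- `L ≤ N(W)` -/
theorem ZPair.L_le (h : ZPair M V V' T T') : L ≤ normalizer (Functor.W V : Set G) := by
  obtain ⟨v, hv, h1⟩ := h.r1.exists_ne
  obtain ⟨w, hw, h2⟩ := h.r2.exists_ne
  refine h.L_le_of hv h1 hw h2 ?_ ?_ ?_
  · exact fun k hk => h.cent_le hv h1 (M.cmp_le_cent v hk).2
  · exact fun k hk => h.cent_le' hw h2 (M.cmp_le_cent w hk).2
  · refine Functor.gen_le (F := V) (fun a ha b hb => h.r1.comm ha hb) (fun a ha => h.r1.sq a ha)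
      (by rw [h.r1.natCard]) (odd_card_core L) (h.r1.le.trans (le_normalizer_core L)) fun f hf hf1 => ?_
    exact inf_le_right.trans (h.cent_le hf hf1)

/-- `O(L) ∩ C(v)` fixes `K_v` -/
theorem ZPair.core_fixes (h : ZPair M V V' T T') {v : G} (hv : v ∈ V) (h1 : v ≠ 1) {K : Subgroup G}
    (hK : KZ M v K) {d : G} (hd : d ∈ core L) (hdv : d * v = v * d) : Fixes d K := by
  obtain ⟨Mv, hMv, hMv'⟩ := hK.exists_mod h.h11 (h.r1.rt hv h1)
  have hdL : d ∈ L := core_le L hd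
  have hdK : d ∈ normalizer (K : Set G) :=
    hK.mem_normalizer (by have := h.h11; omega) (h.r1.rt hv h1) (le_normalizer hdL) hdv
  rw [← Mv.fixes_iff hdK]
  ext x
  rw [Perm.one_apply]
  by_cases hx : x ∈ fixIn Ω (M.φ v)
  · rw [hMv' d (le_normalizer hdL) hdv x hx, (M.core_iff d hdL).mpr hd, Perm.one_apply]
  · exact Mv.mem_sym d hdK x hx

/-- the members of `N(W)` centralizing `A` modulo `W` -/
def centMod (W A : Subgroup G) : Subgroup G where
  carrier := {g | g ∈ normalizer (W : Set G) ∧ ∀ a ∈ A, ⁅g, a⁆ ∈ W}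
  mul_mem' := by
    rintro x y ⟨hx, hx'⟩ ⟨hy, hy'⟩
    refine ⟨mul_mem hx hy, fun a ha => ?_⟩
    have h1 : ⁅x * y, a⁆ = (x * ⁅y, a⁆ * x⁻¹) * ⁅x, a⁆ := by
      rw [commutatorElement_def, commutatorElement_def, commutatorElement_def]; group
    rw [h1]
    exact mul_mem ((mem_normalizer_iff.mp hx _).mp (hy' a ha)) (hx' a ha)
  one_mem' := ⟨one_mem _, fun a _ => by rw [commutatorElement_one_left]; exact one_mem _⟩
  inv_mem' := by
    rintro x ⟨hx, hx'⟩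
    refine ⟨inv_mem hx, fun a ha => ?_⟩
    have h1 : ⁅x⁻¹, a⁆ = x⁻¹ * ⁅x, a⁆⁻¹ * x⁻¹⁻¹ := by
      rw [commutatorElement_def, commutatorElement_def]; group
    rw [h1]
    exact (mem_normalizer_iff.mp (inv_mem hx) _).mp (inv_mem (hx' a ha))

theorem mem_centMod {W A : Subgroup G} {g : G} :
    g ∈ centMod W A ↔ g ∈ normalizer (W : Set G) ∧ ∀ a ∈ A, ⁅g, a⁆ ∈ W := Iff.rfl

/-- `[O(L), k] ≤ W` for `k ∈ L` commuting with `V`, `k` in all `K_v`, `v ∈ V#` -/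
theorem ZPair.comm_cmpT (h : ZPair M V V' T T') {k : G} (hk : ∀ v ∈ V, v ≠ 1 → k ∈ M.cmp v) {d : G}
    (hd : d ∈ core L) : ⁅d, k⁆ ∈ Functor.W V := by
  have h2 : core L ≤ centMod (Functor.W V) (zpowers k) := by
    refine Functor.gen_le (F := V) (fun a ha b hb => h.r1.comm ha hb) (fun a ha => h.r1.sq a ha)
      (by rw [h.r1.natCard]) (odd_card_core L) (h.r1.le.trans (le_normalizer_core L)) fun f hf hf1 => ?_
    rintro d ⟨hd, hdf⟩
    obtain ⟨K, hK⟩ := h.kz f (h.r1.rt hf hf1)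
    have h3 := h.core_fixes hf hf1 hK hd (memC_iff.mp hdf)
    refine ⟨h.cent_le hf hf1 hdf, fun a ha => ?_⟩
    have h4 : a ∈ K := (zpowers_le.mpr (hK.le (hk f hf hf1))) ha
    exact h.O_le hf hf1 (hK.comp.core_le_core (h3.2 a h4))
  exact (h2 hd).2 k (mem_zpowers k)

/-- the members of `L` centralizing `O(L)` modulo `W` are normal in `L` -/
theorem ZPair.conj_centMod (h : ZPair M V V' T T') {x g : G} (hx : x ∈ L)
    (hg : g ∈ centMod (Functor.W V) (core L)) : x * g * x⁻¹ ∈ centMod (Functor.W V) (core L) := by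
  have hxN := h.L_le hx
  refine ⟨mul_mem (mul_mem hxN hg.1) (inv_mem hxN), fun d hd => ?_⟩
  have h1 : ⁅x * g * x⁻¹, d⁆ = x * ⁅g, x⁻¹ * d * x⁆ * x⁻¹ := by
    rw [commutatorElement_def, commutatorElement_def]; group
  rw [h1]
  refine (mem_normalizer_iff.mp hxN _).mp (hg.2 _ ?_)
  have h2 := conj_mem_core (le_normalizer (inv_mem hx)) hd
  rwa [inv_inv] at h2

/-- `C_L(V)^∞ ≤ C(O(L) / W)` -/
theorem ZPair.alt_sub (h : ZPair M V V' T T') {σ : Perm α} (hσ : σ ∈ alt (Ω \ T)) :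
    ∃ z ∈ L, z ∈ centMod (Functor.W V) (core L) ∧ M.φ z = σ := by
  have h11 := h.h11
  have hVN : V ≤ normalizer (L : Set G) := h.r1.le.trans le_normalizer
  have hFT : M.FT V = Ω \ T := by
    ext x
    rw [M.mem_FT hVN, Finset.mem_sdiff]
    refine and_congr_right fun hx => ⟨fun h' hxT => ?_, fun hxT v hv => (h.r1.mem v hv).2 x hxT⟩
    obtain ⟨v, hv, h1⟩ := h.r1.exists_ne
    exact (h.r1.root hv h1).apply_ne hxT (h' v hv)
  have h7 : 5 ≤ (M.FT V).card := by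
    rw [hFT]
    have := Finset.le_card_sdiff T Ω
    have := h.r1.card
    omega
  rw [← hFT] at hσ
  obtain ⟨k, hk, hkσ⟩ := M.cmpT_lift h.r1.isPGroup hVN h7 hσ
  refine ⟨k, M.cmpT_le V hk, ⟨h.L_le (M.cmpT_le V hk), fun d hd => ?_⟩, hkσ⟩
  have h3 : ∀ v ∈ V, v ≠ 1 → k ∈ M.cmp v := by
    intro v hv h1
    have h4 : M.cmpT V ≤ M.cmp v := by
      refine PComponents.pElem_mono fun y hy => ?_
      refine ⟨hy.1, hy.2.1 v hv, ?_⟩
      have h5 := hy.2.2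
      rw [hFT] at h5
      rw [h.r1.fixIn_eq hv h1]
      exact h5
    exact h4 hk
  have h4 := inv_mem (h.comm_cmpT h3 hd)
  rwa [commutatorElement_inv] at h4

/-- **`[L, O(L)] ≤ W`** -/
theorem ZPair.L_le_centMod (h : ZPair M V V' T T') (hL : PComponents.pElem 2 L = L) :
    L ≤ centMod (Functor.W V) (core L) := by
  -- `L = Q O(L)`
  have hcov : ∀ y ∈ L, ∃ z ∈ L, z ∈ centMod (Functor.W V) (core L) ∧ M.φ z = M.φ y := by
    obtain ⟨Q, hQ⟩ : ∃ Q : Subgroup (Perm α), ∀ σ, σ ∈ Q ↔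
        ∃ z ∈ L, z ∈ centMod (Functor.W V) (core L) ∧ M.φ z = σ := by
      refine ⟨((L ⊓ centMod (Functor.W V) (core L)).subgroupOf (normalizer (L : Set G))).map M.hom,
        fun σ => ?_⟩
      constructor
      · rintro ⟨z, hz, rfl⟩
        exact ⟨z, hz.1, hz.2, rfl⟩
      · rintro ⟨z, hz, hz', rfl⟩
        exact ⟨⟨z, le_normalizer hz⟩, ⟨hz, hz'⟩, rfl⟩
    have hall := h.alt_le (Q := Q) (fun σ hσ => (hQ σ).mpr (h.alt_sub hσ)) (fun σ hσ => by
      have h1 := h.swap.alt_sub hσ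
      rw [← h.zw.eq] at h1
      exact (hQ σ).mpr h1)
    exact fun y hy => (hQ _).mp (hall (M.mem_alt y hy))
  have key : PComponents.pElem 2 L ≤ centMod (Functor.W V) (core L) := ?_
  · rwa [hL] at key
  refine (Subgroup.closure_le _).mpr ?_
  rintro x ⟨hx, n, hn⟩
  obtain ⟨z, hz, hzQ, hzφ⟩ := hcov x hx
  have hr : z⁻¹ * x ∈ core L := (M.eq_iff hz hx).mp hzφ
  -- `x ^ m ∈ Q` with `m = |O(L)|` odd
  obtain ⟨N, hN⟩ : ∃ N : Subgroup L, ∀ y : L, y ∈ N ↔ (y : G) ∈ centMod (Functor.W V) (core L) :=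
    ⟨(centMod (Functor.W V) (core L)).subgroupOf L, fun y => Iff.rfl⟩
  have hNn : N.Normal := ⟨fun y hy g => (hN _).mpr (h.conj_centMod g.2 ((hN y).mp hy))⟩
  have hodd := odd_card_core L
  have h1 : ((⟨x, hx⟩ : L) : L ⧸ N) = ((⟨z⁻¹ * x, mul_mem (inv_mem hz) hx⟩ : L) : L ⧸ N) := by
    rw [QuotientGroup.eq]
    have h2 : (⟨z, hz⟩ : L) ∈ N := (hN _).mpr hzQ
    have h3 := hNn.conj_mem _ (inv_mem h2) (⟨x, hx⟩ : L)⁻¹
    convert h3 using 1
    ext
    simp [mul_assoc]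
  have h2 : ((⟨x, hx⟩ : L) : L ⧸ N) ^ Nat.card (core L) = 1 := by
    rw [h1, ← QuotientGroup.mk_pow]
    have h3 : (⟨z⁻¹ * x, mul_mem (inv_mem hz) hx⟩ : L) ^ Nat.card (core L) = 1 := by
      apply Subtype.ext
      have h4 := pow_card_eq_one' (x := (⟨z⁻¹ * x, hr⟩ : core L))
      have h5 := congrArg Subtype.val h4
      exact h5
    rw [h3]; rfl
  have h3 : ((⟨x, hx⟩ : L) : L ⧸ N) ^ 2 ^ n = 1 := by
    rw [← QuotientGroup.mk_pow]
    have h4 : (⟨x, hx⟩ : L) ^ 2 ^ n = 1 := Subtype.ext hn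
    rw [h4]; rfl
  have h4 : ((⟨x, hx⟩ : L) : L ⧸ N) = 1 := by
    have h5 := orderOf_dvd_of_pow_eq_one h2
    have h6 := orderOf_dvd_of_pow_eq_one h3
    have h7 : Nat.Coprime (Nat.card (core L)) (2 ^ n) := (Nat.Coprime.pow_right n
      hodd.coprime_two_right)
    have h8 : orderOf ((⟨x, hx⟩ : L) : L ⧸ N) ∣ 1 := by
      rw [← h7.gcd_eq_one]; exact Nat.dvd_gcd h5 h6
    exact orderOf_eq_one_iff.mp (Nat.dvd_one.mp h8)
  exact (hN _).mp ((QuotientGroup.eq_one_iff _).mp h4)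

end Cfsg.Agent.UAlt
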