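import Cfsg.Agent.UAlt.Eleven.NormC
import Cfsg.Agent.S0892

/-!
# Case N with `X = ∅`: `B = L W`

* `core_le_of_central`: `L` perfect, `L / O(L)` alternating of degree at least eight, `[L, O(L)] ≤ N ≤ O(L)` implies
  `O(L) = N` (Schur multiplier).
* `ZPair.core_L_le`: `O(L) ≤ W`.
* `ZPair.core_B`, `ZPair.exists_modB`, ...: `B = L W`, `O(B) = W`.
* `ZPair.pk`: the package.
-/

set_option autoImplicit false
set_option linter.unusedSectionVars false

open Cfsg Subgroup Equiv Equiv.Perm
open Cfsg.Agent.SignalizersComponents Cfsg.Agent.Lib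
open Cfsg.Agent.SignalizersComponents.IntrinsicBasic
open Cfsg.Agent.Intrinsic Cfsg.Agent.Intrinsic.Basic Cfsg.Agent.Intrinsic.Cen Cfsg.Agent.Intrinsic.Diag
open Cfsg.Agent.McLLyComp.Act
open Cfsg.Agent.StdAlt.Roots (IsRoot)
open scoped commutatorElement

namespace Cfsg.Agent.UAlt

variable {G : Type*} [Group G] [Finite G] {α : Type*} [Fintype α] [DecidableEq α]
  {L : Subgroup G} {Ω : Finset α} {M : Mod L Ω} {V V' : Subgroup G} {T T' : Finset α}

/-- a perfect central extension of an alternating group of degree at least eight by a group of odd order is trivial -/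
theorem core_le_of_central (M : Mod L Ω) (h8 : 8 ≤ Ω.card) (hperf : ⁅L, L⁆ = L) {N : Subgroup G}
    (hN : N ≤ core L) (hLN : L ≤ normalizer (N : Set G))
    (hc : ∀ g ∈ L, ∀ d ∈ core L, ⁅g, d⁆ ∈ N) : core L ≤ N := by
  have hNL : N ≤ L := hN.trans (core_le L)
  obtain ⟨N', hN'⟩ : ∃ N' : Subgroup L, N' = N.subgroupOf L := ⟨_, rfl⟩
  have hn : N'.Normal := by rw [hN']; exact normal_subgroupOf_of_le_normalizer hLN
  have hle : N' ≤ oddCore ↥L := by
    rw [hN']
    intro x hx
    exact (mem_core_iff x.2).mp (hN hx)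
  have hmem : ∀ x : L, x ∈ N' ↔ (x : G) ∈ N := fun x => by rw [hN']; exact Iff.rfl
  obtain ⟨Z, hZ⟩ : ∃ Z : Subgroup (L ⧸ N'), Z = (oddCore ↥L).map (QuotientGroup.mk' N') := ⟨_, rfl⟩
  have hZn : Z.Normal := by
    rw [hZ]
    exact Subgroup.Normal.map inferInstance _ (QuotientGroup.mk'_surjective N')
  have hZc : Z ≤ center (L ⧸ N') := by
    rw [hZ]
    rintro _ ⟨d, hd, rfl⟩
    rw [mem_center_iff]
    intro g
    obtain ⟨g, rfl⟩ := QuotientGroup.mk'_surjective N' g
    rw [← map_mul, ← map_mul]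
    refine QuotientGroup.eq.mpr ((hmem _).mpr ?_)
    have h5 := hc ((d : G)⁻¹ * (g : G)⁻¹) (mul_mem (inv_mem d.2) (inv_mem g.2)) (d : G)
      ((mem_core_iff d.2).mpr hd)
    have h6 : (((g * d)⁻¹ * (d * g) : L) : G) = ⁅(d : G)⁻¹ * (g : G)⁻¹, (d : G)⁆ := by
      rw [commutatorElement_def]
      push_cast
      group
    rw [h6]
    exact h5
  have hperf' : commutator ↥L = ⊤ := by
    rw [eq_top_iff]
    intro x _
    have h1 : (x : G) ∈ (commutator ↥L).map L.subtype := by
      rw [map_subtype_commutator, hperf]; exact x.2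
    obtain ⟨y, hy, hyx⟩ := h1
    rwa [← Subtype.ext (a1 := y) (a2 := x) hyx]
  have hZd : Z ≤ commutator (L ⧸ N') := by
    have h1 : commutator (L ⧸ N') = ⊤ := by
      rw [eq_top_iff, ← Subgroup.map_top_of_surjective _ (QuotientGroup.mk'_surjective N'), ← hperf',
        _root_.commutator_def, _root_.commutator_def, Subgroup.map_commutator]
      exact Subgroup.commutator_mono le_top le_top
    rw [h1]; exact le_top
  have e : (L ⧸ N') ⧸ Z ≃* alternatingGroup (Fin Ω.card) := by
    have e1 : (L ⧸ N') ⧸ Z ≃* (L ⧸ N') ⧸ (oddCore ↥L).map (QuotientGroup.mk' N') :=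
      QuotientGroup.quotientMulEquivOfEq hZ
    exact ((e1.trans (QuotientGroup.quotientQuotientEquivQuotient N' (oddCore ↥L) hle)).trans
      M.quotEquiv).trans (Equiv.altCongrHom Ω.equivFin)
  have h1 := Cfsg.Agent.S0892.result Ω.card (by omega) (by omega) (by omega) Z hZc hZd e
  have hodd : Odd (Nat.card Z) := by
    rw [hZ]
    refine Odd.of_dvd_nat ?_ (Subgroup.card_map_dvd _ _)
    have h2 : Nat.card (oddCore ↥L) = Nat.card (core L) := by
      show _ = Nat.card ((oddCore ↥L).map L.subtype)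
      rw [Subgroup.card_map_of_injective (Subgroup.subtype_injective _)]
    rw [h2]
    exact odd_card_core L
  have h2 : Nat.card Z = 1 := by
    have h3 : 0 < Nat.card Z := Nat.card_pos
    obtain ⟨k, hk⟩ := hodd
    omega
  have h3 : Z = ⊥ := Subgroup.card_eq_one.mp h2
  intro x hx
  have hxL := core_le L hx
  have h4 : QuotientGroup.mk' N' ⟨x, hxL⟩ ∈ Z := by
    rw [hZ]; exact ⟨_, (mem_core_iff hxL).mp hx, rfl⟩
  rw [h3, mem_bot] at h4
  exact (hmem _).mp ((QuotientGroup.eq_one_iff _).mp h4)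

/-- **`O(L) ≤ W`** -/
theorem ZPair.core_L_le (h : ZPair M V V' T T') {X : Subgroup G} (hL : IsComp X L) :
    core L ≤ Functor.W V := by
  have h1 := h.L_le_centMod hL.pElem_eq
  refine (core_le_of_central M (by have := h.h11; omega) hL.perfect (N := core L ⊓ Functor.W V)
    inf_le_left ?_ ?_).trans inf_le_right
  · intro x hx
    have e1 := le_normalizer_core L hx
    have e2 := h.L_le hx
    rw [mem_normalizer_iff_cj] at e1 e2 ⊢
    rw [cj_inf, e1, e2]
  · intro g hg d hd
    refine ⟨?_, (h1 hg).2 d hd⟩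
    rw [commutatorElement_def]
    exact Subgroup.mul_mem _ ((mem_normalizer_iff.mp (le_normalizer_core L hg) d).mp hd)
      (Subgroup.inv_mem _ hd)

end Cfsg.Agent.UAlt
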