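import Cfsg.Agent.UAlt.Eleven.NormD

/-!
# Case N with `X = ∅`: the package for `B = L W`

* `ZPair.core_B`: `O(B) = W`.
* `ZPair.exists_modB`: the labels of `B`.
* `ZPair.cent_B`: `C(v) ≤ N(B)`.
* `ZPair.pk`: the package.
-/

set_option autoImplicit false
set_option linter.unusedSectionVars false

open Cfsg Subgroup Equiv Equiv.Perm
open Cfsg.Agent.SignalizersComponents Cfsg.Agent.Lib
open Cfsg.Agent.SignalizersComponents.IntrinsicBasic
open Cfsg.Agent.Intrinsic Cfsg.Agent.Intrinsic.Basic Cfsg.Agent.Intrinsic.Cen Cfsg.Agent.Intrinsic.Diag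
open Cfsg.Agent.McLLyComp.Act
open Cfsg.Agent.StdAlt.Roots (IsRoot)
open scoped commutatorElement

namespace Cfsg.Agent.UAlt

variable {G : Type*} [Group G] [Finite G] {α : Type*} [Fintype α] [DecidableEq α]
  {L : Subgroup G} {Ω : Finset α} {M : Mod L Ω} {V V' : Subgroup G} {T T' : Finset α}

/-- `O(L W) = W` -/
theorem ZPair.core_B (h : ZPair M V V' T T') {X : Subgroup G} (hL : IsComp X L) :
    core (L ⊔ Functor.W V) = Functor.W V := by
  have h1 := h.core_L_le hL
  have h2 := h.L_le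
  have h3 : Functor.W V ≤ core (L ⊔ Functor.W V) :=
    le_core le_sup_right (sup_le h2 le_normalizer) h.zw.odd
  refine le_antisymm ?_ h3
  intro x hx
  have hxB := core_le _ hx
  have h4 : x ∈ ((L ⊔ Functor.W V : Subgroup G) : Set G) := hxB
  rw [Subgroup.coe_mul_of_left_le_normalizer_right _ _ h2] at h4
  obtain ⟨l, hl, w, hw, rfl⟩ := h4
  have h5 : l ∈ core (L ⊔ Functor.W V) := by
    have := mul_mem hx (inv_mem (h3 hw))
    rwa [mul_inv_cancel_right] at this
  have h6 : L ⊓ core (L ⊔ Functor.W V) ≤ core L := by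
    refine le_core inf_le_left ?_ (Odd.of_dvd_nat (odd_card_core (L ⊔ Functor.W V))
      (card_dvd_of_le inf_le_right))
    intro y hy
    have e2 : y ∈ normalizer (core (L ⊔ Functor.W V) : Set G) :=
      le_normalizer_core _ (mem_sup_left hy)
    rw [mem_normalizer_iff_cj] at e2 ⊢
    rw [cj_inf, e2, cj_eq_self_of_mem hy]
  exact mul_mem (h1 (h6 ⟨hl, h5⟩)) hw

theorem ZPair.exists_modB (h : ZPair M V V' T T') {X : Subgroup G} (hL : IsComp X L) :
    ∃ MB : Mod (L ⊔ Functor.W V) Ω, ∀ x ∈ L, MB.φ x = M.φ x :=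
  M.exists_extend (by have := h.h11; omega) (by rw [h.core_B hL])

/-- `K_v ≤ L W` -/
theorem ZPair.K_le_B (h : ZPair M V V' T T') {v : G} (hv : v ∈ V) (h1 : v ≠ 1) {K : Subgroup G}
    (hK : KZ M v K) : K ≤ L ⊔ Functor.W V := by
  rw [← hK.cover]
  exact sup_le ((M.cmp_le v).trans le_sup_left)
    ((hK.comp.core_le_core.trans (h.O_le hv h1)).trans le_sup_right)

/-- **`C(v) ≤ N(L W)`** -/
theorem ZPair.cent_B (h : ZPair M V V' T T') {X : Subgroup G} (hL : IsComp X L) {v : G} (hv : v ∈ V)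
    (h1 : v ≠ 1) : centralizer ({v} : Set G) ≤ normalizer ((L ⊔ Functor.W V : Subgroup G) : Set G) := by
  obtain ⟨w, hw, h2⟩ := h.r2.exists_ne
  obtain ⟨K, hK⟩ := h.kz v (h.r1.rt hv h1)
  obtain ⟨K', hK'⟩ := h.kz w (h.r2.rt hw h2)
  obtain ⟨Mv, hMv, hMv'⟩ := hK.exists_mod h.h11 (h.r1.rt hv h1)
  have hwc : w ∈ M.cmp v := h.r1.le_cmp' h.r2 h.d h.c hv h1 hw
  have hKB := h.K_le_B hv h1 hK
  have hKB' : K' ≤ L ⊔ Functor.W V := by
    rw [h.zw.eq]; exact h.swap.K_le_B hw h2 hK'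
  have hB : L ⊔ Functor.W V = K ⊔ K' ⊔ Functor.W V := by
    apply le_antisymm
    · refine sup_le ?_ le_sup_right
      refine h.L_le_of hv h1 hw h2 ?_ ?_ ((h.core_L_le hL).trans le_sup_right)
      · exact (hK.le.trans le_sup_left).trans le_sup_left
      · exact (hK'.le.trans le_sup_right).trans le_sup_left
    · exact sup_le (sup_le hKB hKB') le_sup_right
  have hrw : Mv.Rt w := by
    refine ⟨hK.le hwc, h.r2.sq w hw, ?_⟩
    rw [hMv w hwc]
    exact (h.r2.rt hw h2).isRoot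
  intro g hg
  obtain ⟨k, hk, hkg⟩ := hrw.frattini (h.nl v hv h1 K hK hg)
  have hkv : k * g ∈ centralizer ({v} : Set G) := Subgroup.mul_mem _ (hK.comp.le hk) hg
  have e1 := mem_normalizer_iff_cj.mp (h.nl v hv h1 K hK hkv)
  have e2 := mem_normalizer_iff_cj.mp (h.nr w hw h2 K' hK' (memC_iff.mpr hkg))
  have e3 := mem_normalizer_iff_cj.mp (h.cent_le hv h1 hkv)
  have e4 : k * g ∈ normalizer ((L ⊔ Functor.W V : Subgroup G) : Set G) := by
    rw [hB, mem_normalizer_iff_cj]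
    rw [cj_def] at e1 e2 e3 ⊢
    rw [Subgroup.map_sup, Subgroup.map_sup, e1, e2, e3]
  have e5 := mul_mem (inv_mem (le_normalizer (hKB hk))) e4
  rwa [inv_mul_cancel_left] at e5

/-- **the package** -/
theorem ZPair.pk (h : ZPair M V V' T T') {X : Subgroup G} (hL : IsComp X L) :
    ∃ (B : Subgroup G) (MB : Mod B Ω), L ≤ B ∧ core B = Functor.W V ∧
      (∀ u, MB.Rt u → centralizer ({u} : Set G) ≤ normalizer (B : Set G)) ∧
      (∀ u, MB.Rt u → core B ⊓ centralizer ({u} : Set G) = core (centralizer ({u} : Set G))) ∧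
      ∀ u, MB.Rt u → IsComp (centralizer ({u} : Set G)) (MB.cmp u) := by
  obtain ⟨MB, hMB⟩ := h.exists_modB hL
  obtain ⟨v, hv, h1⟩ := h.r1.exists_ne
  have hv' := h.r1.rt hv h1
  have hvB : MB.Rt v := ⟨mem_sup_left hv'.1, hv'.2.1, by rw [hMB v hv'.1]; exact hv'.2.2⟩
  have hcoreB := h.core_B hL
  have hconj : ∀ u, MB.Rt u → ∃ b ∈ L ⊔ Functor.W V, b * u * b⁻¹ = v := fun u hu => hu.conj hvB
  have hcent : ∀ u, MB.Rt u → centralizer ({u} : Set G) ≤
      normalizer ((L ⊔ Functor.W V : Subgroup G) : Set G) := by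
    intro u hu g hg
    obtain ⟨b, hb, hbu⟩ := hconj u hu
    have h2 : b * g * b⁻¹ ∈ centralizer ({v} : Set G) := by
      rw [← hbu, ← cj_centralizer]; exact conj_mem_cj hg
    have h3 := h.cent_B hL hv h1 h2
    have h4 := mul_mem (mul_mem (inv_mem (le_normalizer hb)) h3) (le_normalizer hb)
    rwa [show b⁻¹ * (b * g * b⁻¹) * b = g by group] at h4
  refine ⟨L ⊔ Functor.W V, MB, le_sup_left, hcoreB, hcent, ?_, ?_⟩
  · intro u hu
    obtain ⟨b, hb, hbu⟩ := hconj u hu
    have h2 : cj b (core (L ⊔ Functor.W V)) = core (L ⊔ Functor.W V) :=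
      mem_normalizer_iff_cj.mp (le_normalizer_core _ hb)
    apply cj_injective b
    rw [cj_inf, h2, cj_centralizer, hbu, hcoreB, h.zw.left v hv h1, ← core_cj, cj_centralizer, hbu]
  · intro u hu
    have h11 := h.h11
    have h2 := MB.isComp_cmp (le_normalizer hu.1) hu.2.1 (by rw [hu.card_fix]; omega)
    refine h2.extend inf_le_right ?_
    have hn : ((L ⊔ Functor.W V) ⊓ centralizer ({u} : Set G)).subgroupOf
        (centralizer ({u} : Set G)) |>.Normal := by
      apply normal_subgroupOf_of_le_normalizer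
      intro g hg
      have e1 := mem_normalizer_iff_cj.mp (hcent u hu hg)
      rw [mem_normalizer_iff_cj, cj_inf, e1, cj_eq_self_of_mem hg]
    exact hn.isSubnormal

end Cfsg.Agent.UAlt
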