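import Cfsg.Agent.UAlt.AltOn

/-!
# Permutation representations of `D8 ∘ D8` of small degree

`Ext s₁ s₂ s₃ s₄ c`: the involutions `s₁, s₂` generate a dihedral group of order 8 with centre `c`, so do `s₃, s₄`,
and the two groups commute.

* `Ext.eight_le`: if `c` moves a point of the invariant set `Y` then `c` moves at least eight points of `Y`.
* `Ext.card_eq`: exactly eight if `|Y| ≤ 11`.
* `Ext.cent`: a permutation of order two commuting with `s₁, ..., s₄` is trivial or acts as `c` on the points moved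
  by `c`, if `|Y| ≤ 11`.
* `Ext.pair`: two such groups.
-/

set_option autoImplicit false
set_option linter.unusedSectionVars false

namespace Cfsg.Agent.UAlt.Eleven

open Equiv Equiv.Perm

/-- generators of `D8 ∘ D8` -/
structure Ext {H : Type*} [Group H] (s₁ s₂ s₃ s₄ c : H) : Prop where
  q₁ : s₁ * s₁ = 1
  q₂ : s₂ * s₂ = 1
  q₃ : s₃ * s₃ = 1
  q₄ : s₄ * s₄ = 1
  qc : c * c = 1
  g : s₁ * s₂ * (s₁ * s₂) = c
  h : s₃ * s₄ * (s₃ * s₄) = c
  c₁₃ : s₁ * s₃ = s₃ * s₁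
  c₁₄ : s₁ * s₄ = s₄ * s₁
  c₂₃ : s₂ * s₃ = s₃ * s₂
  c₂₄ : s₂ * s₄ = s₄ * s₂

namespace Ext

section grp

variable {H : Type*} [Group H] {s₁ s₂ s₃ s₄ c : H} (E : Ext s₁ s₂ s₃ s₄ c)
include E

/-- the image under a homomorphism -/
theorem map {H' : Type*} [Group H'] (f : H →* H') : Ext (f s₁) (f s₂) (f s₃) (f s₄) (f c) := by
  constructor <;> simp only [← map_mul]
  · rw [E.q₁, map_one]
  · rw [E.q₂, map_one]
  · rw [E.q₃, map_one]
  · rw [E.q₄, map_one]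
  · rw [E.qc, map_one]
  · rw [E.g]
  · rw [E.h]
  · rw [E.c₁₃]
  · rw [E.c₁₄]
  · rw [E.c₂₃]
  · rw [E.c₂₄]

theorem i₁ : s₁⁻¹ = s₁ := inv_eq_of_mul_eq_one_left E.q₁
theorem i₂ : s₂⁻¹ = s₂ := inv_eq_of_mul_eq_one_left E.q₂
theorem i₃ : s₃⁻¹ = s₃ := inv_eq_of_mul_eq_one_left E.q₃
theorem i₄ : s₄⁻¹ = s₄ := inv_eq_of_mul_eq_one_left E.q₄
theorem ic : c⁻¹ = c := inv_eq_of_mul_eq_one_left E.qc

theorem swap : Ext s₃ s₄ s₁ s₂ c :=
  ⟨E.q₃, E.q₄, E.q₁, E.q₂, E.qc, E.h, E.g, E.c₁₃.symm, E.c₂₃.symm, E.c₁₄.symm, E.c₂₄.symm⟩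

theorem g' : s₂ * s₁ * (s₂ * s₁) = c := by
  have h1 := congrArg (fun x => x⁻¹) E.g
  simp only [mul_inv_rev, E.i₁, E.i₂, E.ic] at h1
  exact h1

theorem c₁ : c * s₁ = s₁ * c := by
  have h1 : c * s₁ = s₂ * s₁ * s₂ := by
    rw [← E.g']
    calc s₂ * s₁ * (s₂ * s₁) * s₁ = s₂ * s₁ * s₂ * (s₁ * s₁) := by group
      _ = _ := by rw [E.q₁]; group
  have h2 : s₁ * c = s₂ * s₁ * s₂ := by
    rw [← E.g]
    calc s₁ * (s₁ * s₂ * (s₁ * s₂)) = (s₁ * s₁) * s₂ * s₁ * s₂ := by group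
      _ = _ := by rw [E.q₁]; group
  rw [h1, h2]

theorem c₂ : c * s₂ = s₂ * c := by
  have h1 : c * s₂ = s₁ * s₂ * s₁ := by
    rw [← E.g]
    calc s₁ * s₂ * (s₁ * s₂) * s₂ = s₁ * s₂ * s₁ * (s₂ * s₂) := by group
      _ = _ := by rw [E.q₂]; group
  have h2 : s₂ * c = s₁ * s₂ * s₁ := by
    rw [← E.g']
    calc s₂ * (s₂ * s₁ * (s₂ * s₁)) = (s₂ * s₂) * s₁ * s₂ * s₁ := by group
      _ = _ := by rw [E.q₂]; group
  rw [h1, h2]

theorem c₃ : c * s₃ = s₃ * c := E.swap.c₁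
theorem c₄ : c * s₄ = s₄ * c := E.swap.c₂

end grp

section perm

variable {β : Type*} [DecidableEq β] {s₁ s₂ s₃ s₄ c : Perm β} (E : Ext s₁ s₂ s₃ s₄ c)
include E

theorem ap {x y : Perm β} (h : x * y = y * x) (p : β) : x (y p) = y (x p) := by
  rw [← Perm.mul_apply, h, Perm.mul_apply]

omit E in
theorem sqa {x : Perm β} (h : x * x = 1) (p : β) : x (x p) = p := by
  rw [← Perm.mul_apply, h]; rfl

/-- **the key**: `x` moved by `c`, `p`, `b₃`, `b₄` permutations with `s₁ x = p x`, `p` commuting with `s₃`, `s₄`, `g`,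
... -/
theorem key {A : Set (Perm β)} (h2 : ∀ b ∈ A, b * b = 1) (hA : ∀ b ∈ A, ∀ b' ∈ A, b * b' = b' * b)
    (k₁ : ∀ b ∈ A, b * s₁ = s₁ * b) (k₂ : ∀ b ∈ A, b * s₂ = s₂ * b) (k₃ : ∀ b ∈ A, b * s₃ = s₃ * b)
    (k₄ : ∀ b ∈ A, b * s₄ = s₄ * b) {x : β} (hx : c x ≠ x)
    (w₁ : ∃ b ∈ A, s₁ x = b x ∨ s₁ x = b (s₁ (s₂ x))) (w₃ : ∃ b ∈ A, s₃ x = b x ∨ s₃ x = b (s₁ (s₂ x)))
    (w₄ : ∃ b ∈ A, s₄ x = b x ∨ s₄ x = b (s₁ (s₂ x))) : False := by
  have kg : ∀ b ∈ A, b * (s₁ * s₂) = s₁ * s₂ * b := by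
    intro b hb
    rw [← mul_assoc, k₁ b hb, mul_assoc, k₂ b hb, mul_assoc]
  -- `p`
  obtain ⟨p, hpx, hp3, hp4, hpg, hpA⟩ : ∃ p : Perm β, s₁ x = p x ∧ p * s₃ = s₃ * p ∧ p * s₄ = s₄ * p ∧
      p * (s₁ * s₂) = s₁ * s₂ * p ∧ ∀ b ∈ A, p * b = b * p := by
    obtain ⟨b, hb, h | h⟩ := w₁
    · exact ⟨b, h, k₃ b hb, k₄ b hb, kg b hb, fun b' hb' => hA b hb b' hb'⟩
    · refine ⟨b * (s₁ * s₂), h, ?_, ?_, ?_, ?_⟩
      · rw [mul_assoc, mul_assoc s₁, E.c₂₃, ← mul_assoc s₁, E.c₁₃, mul_assoc s₃, ← mul_assoc, k₃ b hb,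
          mul_assoc]
      · rw [mul_assoc, mul_assoc s₁, E.c₂₄, ← mul_assoc s₁, E.c₁₄, mul_assoc s₄, ← mul_assoc, k₄ b hb,
          mul_assoc]
      · rw [kg b hb, mul_assoc, kg b hb]
      · intro b' hb'
        rw [mul_assoc, ← kg b' hb', ← mul_assoc, hA b hb b' hb', mul_assoc]
  -- the second alternative is impossible for `s₃`, `s₄`
  have step : ∀ s : Perm β, p * s = s * p → s₁ * s = s * s₁ → ∀ b ∈ A, s x ≠ b (s₁ (s₂ x)) := by
    intro s hps hs1 b hb h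
    have e1 : s (s₁ x) = b (s₁ (s₂ (s₁ x))) := by
      rw [hpx, ← ap E hps, h, ap E (hpA b hb)]
      congr 1
      exact ap E hpg x
    have e2 : s (s₁ x) = b (s₁ (s₁ (s₂ x))) := by
      rw [← ap E hs1, h, ← ap E (k₁ b hb)]
    rw [e1] at e2
    have e3 : s₂ (s₁ x) = s₁ (s₂ x) := s₁.injective (b.injective e2)
    apply hx
    rw [← E.g]
    show s₁ (s₂ (s₁ (s₂ x))) = x
    rw [← e3, sqa E.q₂, sqa E.q₁]
  obtain ⟨b₃, hb₃, h3⟩ := w₃
  obtain ⟨b₄, hb₄, h4⟩ := w₄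
  have h3' : s₃ x = b₃ x := h3.resolve_right (step s₃ hp3 E.c₁₃ b₃ hb₃)
  have h4' : s₄ x = b₄ x := h4.resolve_right (step s₄ hp4 E.c₁₄ b₄ hb₄)
  apply hx
  rw [← E.h]
  show s₃ (s₄ (s₃ (s₄ x))) = x
  rw [h4', ← ap E (k₃ b₄ hb₄), ← ap E (k₄ b₄ hb₄), ← ap E (k₃ b₄ hb₄), h3', ← ap E (k₄ b₃ hb₃),
    ← ap E (k₃ b₃ hb₃), h4', ← ap E (k₃ b₄ hb₄), h3', ap E (hA b₃ hb₃ b₄ hb₄), sqa (h2 b₄ hb₄),
    sqa (h2 b₃ hb₃)]

/-- the orbit of `y` under `s₁ s₂` -/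
def orb (s₁ s₂ c : Perm β) (y : β) : Finset β := {y, s₁ (s₂ y), c y, c (s₁ (s₂ y))}

omit E in
theorem mem_orb {y z : β} : z ∈ orb s₁ s₂ c y ↔
    z = y ∨ z = s₁ (s₂ y) ∨ z = c y ∨ z = c (s₁ (s₂ y)) := by
  simp [orb]

theorem gg (y : β) : s₁ (s₂ (s₁ (s₂ y))) = c y := by
  rw [← E.g]; rfl

theorem cg (y : β) : s₁ (s₂ (c y)) = c (s₁ (s₂ y)) := by
  rw [← ap E E.c₂, ← ap E E.c₁]

theorem cc (y : β) : c (c y) = y := sqa E.qc y

/-- `c` and `s₁ s₂` preserve the orbit -/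
theorem orb_g {y z : β} (hz : z ∈ orb s₁ s₂ c y) : s₁ (s₂ z) ∈ orb s₁ s₂ c y := by
  rw [mem_orb] at hz ⊢
  rcases hz with rfl | rfl | rfl | rfl
  · exact Or.inr (Or.inl rfl)
  · exact Or.inr (Or.inr (Or.inl (gg E y)))
  · exact Or.inr (Or.inr (Or.inr (cg E y)))
  · left
    rw [cg E, gg E, cc E]

theorem orb_c {y z : β} (hz : z ∈ orb s₁ s₂ c y) : c z ∈ orb s₁ s₂ c y := by
  rw [← gg E]
  exact orb_g E (orb_g E hz)

theorem orb_symm {y z : β} (hz : z ∈ orb s₁ s₂ c y) : y ∈ orb s₁ s₂ c z := by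
  rw [mem_orb] at hz ⊢
  rcases hz with rfl | rfl | rfl | rfl
  · exact Or.inl rfl
  · right; right; right
    rw [gg E, cc E]
  · right; right; left
    rw [cc E]
  · right; left
    rw [cg E, gg E, cc E]

theorem orb_trans {y z w : β} (hz : z ∈ orb s₁ s₂ c y) (hw : w ∈ orb s₁ s₂ c z) :
    w ∈ orb s₁ s₂ c y := by
  rw [mem_orb] at hw
  rcases hw with rfl | rfl | rfl | rfl
  · exact hz
  · exact orb_g E hz
  · exact orb_c E hz
  · exact orb_c E (orb_g E hz)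

theorem orb_disj {y z : β} (hz : z ∉ orb s₁ s₂ c y) :
    Disjoint (orb s₁ s₂ c y) (orb s₁ s₂ c z) := by
  rw [Finset.disjoint_left]
  intro w hw hw'
  exact hz (orb_trans E hw (orb_symm E hw'))

theorem orb_card {y : β} (hy : c y ≠ y) : (orb s₁ s₂ c y).card = 4 := by
  have h1 : s₁ (s₂ y) ≠ y := by
    intro h
    apply hy
    rw [← gg E, h, h]
  have h2 : s₁ (s₂ y) ≠ c y := by
    intro h
    have h3 := congrArg (fun z => s₁ (s₂ z)) h
    simp only [gg E, cg E] at h3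
    exact h1 (c.injective h3).symm
  have h3 : c (s₁ (s₂ y)) ≠ y := by
    intro h
    apply h2
    rw [← cc E (s₁ (s₂ y)), h]
  have h4 : c (s₁ (s₂ y)) ≠ s₁ (s₂ y) := by
    intro h
    apply hy
    rw [← cg E] at h
    exact s₂.injective (s₁.injective h)
  have h5 : c (s₁ (s₂ y)) ≠ c y := fun h => h1 (c.injective h)
  unfold orb
  rw [Finset.card_insert_of_notMem, Finset.card_insert_of_notMem, Finset.card_insert_of_notMem,
    Finset.card_singleton]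
  · rw [Finset.mem_singleton]; exact h5.symm
  · simp only [Finset.mem_insert, Finset.mem_singleton, not_or]
    exact ⟨h2, h4.symm⟩
  · simp only [Finset.mem_insert, Finset.mem_singleton, not_or]
    exact ⟨h1.symm, hy.symm, h3.symm⟩

/-- the points of `Y` moved by `c` -/
def mv (c : Perm β) (Y : Finset β) : Finset β := Y.filter fun y => c y ≠ y

omit E in
theorem mem_mv {Y : Finset β} {y : β} : y ∈ mv c Y ↔ y ∈ Y ∧ c y ≠ y := Finset.mem_filter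

/-- `Y` is invariant -/
def Inv (s₁ s₂ s₃ s₄ : Perm β) (Y : Finset β) : Prop :=
  ∀ y ∈ Y, s₁ y ∈ Y ∧ s₂ y ∈ Y ∧ s₃ y ∈ Y ∧ s₄ y ∈ Y

variable {Y : Finset β}

theorem c_mem (hY : Inv s₁ s₂ s₃ s₄ Y) {y : β} (hy : y ∈ Y) : c y ∈ Y := by
  rw [← gg E]
  exact (hY _ (hY _ (hY _ (hY _ hy).2.1).1).2.1).1

theorem mv_s {s : Perm β} (hs : c * s = s * c) (hsY : ∀ y ∈ Y, s y ∈ Y) {y : β} (hy : y ∈ mv c Y) :
    s y ∈ mv c Y := by
  rw [mem_mv] at hy ⊢
  refine ⟨hsY y hy.1, fun h => hy.2 ?_⟩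
  rw [ap E hs] at h
  exact s.injective h

theorem mv_inv (hY : Inv s₁ s₂ s₃ s₄ Y) : Inv s₁ s₂ s₃ s₄ (mv c Y) := fun _ hy =>
  ⟨mv_s E E.c₁ (fun y hy => (hY y hy).1) hy, mv_s E E.c₂ (fun y hy => (hY y hy).2.1) hy,
    mv_s E E.c₃ (fun y hy => (hY y hy).2.2.1) hy, mv_s E E.c₄ (fun y hy => (hY y hy).2.2.2) hy⟩

theorem orb_sub (hY : Inv s₁ s₂ s₃ s₄ Y) {y : β} (hy : y ∈ Y) : orb s₁ s₂ c y ⊆ Y := by
  intro z hz
  have hg : s₁ (s₂ y) ∈ Y := (hY _ (hY _ hy).2.1).1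
  rw [mem_orb] at hz
  rcases hz with rfl | rfl | rfl | rfl
  · exact hy
  · exact hg
  · exact c_mem E hY hy
  · exact c_mem E hY hg

/-- a point outside the orbit -/
theorem exists_out (hY : Inv s₁ s₂ s₃ s₄ Y) {x : β} (hx : x ∈ mv c Y) :
    ∃ z ∈ mv c Y, z ∉ orb s₁ s₂ c x := by
  by_contra hcon
  push Not at hcon
  have hin := mv_inv E hY _ hx
  refine E.key (A := {1, c}) ?_ ?_ ?_ ?_ ?_ ?_ (mem_mv.mp hx).2 ?_ ?_ ?_
  · rintro b (rfl | hb)
    · exact mul_one _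
    · rw [Set.mem_singleton_iff.mp hb]; exact E.qc
  · rintro b (rfl | hb) b' (rfl | hb')
    · rfl
    · rw [one_mul, mul_one]
    · rw [one_mul, mul_one]
    · rw [Set.mem_singleton_iff.mp hb, Set.mem_singleton_iff.mp hb']
  · rintro b (rfl | hb)
    · rw [one_mul, mul_one]
    · rw [Set.mem_singleton_iff.mp hb]; exact E.c₁
  · rintro b (rfl | hb)
    · rw [one_mul, mul_one]
    · rw [Set.mem_singleton_iff.mp hb]; exact E.c₂
  · rintro b (rfl | hb)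
    · rw [one_mul, mul_one]
    · rw [Set.mem_singleton_iff.mp hb]; exact E.c₃
  · rintro b (rfl | hb)
    · rw [one_mul, mul_one]
    · rw [Set.mem_singleton_iff.mp hb]; exact E.c₄
  all_goals
    have key : ∀ z ∈ mv c Y, ∃ b ∈ ({1, c} : Set (Perm β)), z = b x ∨ z = b (s₁ (s₂ x)) := by
      intro z hz
      have h1 := hcon z hz
      rw [mem_orb] at h1
      rcases h1 with h | h | h | h
      · exact ⟨1, Or.inl rfl, Or.inl h⟩
      · exact ⟨1, Or.inl rfl, Or.inr h⟩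
      · exact ⟨c, Or.inr rfl, Or.inl h⟩
      · exact ⟨c, Or.inr rfl, Or.inr h⟩
  · exact key _ hin.1
  · exact key _ hin.2.2.1
  · exact key _ hin.2.2.2

/-- **(A)** -/
theorem eight_le (hY : Inv s₁ s₂ s₃ s₄ Y) {x : β} (hx : x ∈ Y) (hc : c x ≠ x) :
    8 ≤ (mv c Y).card := by
  have hxm : x ∈ mv c Y := mem_mv.mpr ⟨hx, hc⟩
  obtain ⟨z, hz, hz'⟩ := exists_out E hY hxm
  have h1 : orb s₁ s₂ c x ∪ orb s₁ s₂ c z ⊆ mv c Y :=
    Finset.union_subset (orb_sub E (mv_inv E hY) hxm) (orb_sub E (mv_inv E hY) hz)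
  have h2 := Finset.card_le_card h1
  rw [Finset.card_union_of_disjoint (orb_disj E hz'), orb_card E hc, orb_card E (mem_mv.mp hz).2] at h2
  omega

theorem card_eq (hY : Inv s₁ s₂ s₃ s₄ Y) (h11 : Y.card ≤ 11) {x : β} (hx : x ∈ Y) (hc : c x ≠ x) :
    (mv c Y).card = 8 ∧ ∃ z ∈ mv c Y, z ∉ orb s₁ s₂ c x ∧
      mv c Y = orb s₁ s₂ c x ∪ orb s₁ s₂ c z := by
  have hxm : x ∈ mv c Y := mem_mv.mpr ⟨hx, hc⟩
  obtain ⟨z, hz, hz'⟩ := exists_out E hY hxm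
  have h1 : orb s₁ s₂ c x ∪ orb s₁ s₂ c z ⊆ mv c Y :=
    Finset.union_subset (orb_sub E (mv_inv E hY) hxm) (orb_sub E (mv_inv E hY) hz)
  have h2 : (orb s₁ s₂ c x ∪ orb s₁ s₂ c z).card = 8 := by
    rw [Finset.card_union_of_disjoint (orb_disj E hz'), orb_card E hc, orb_card E (mem_mv.mp hz).2]
  have h3 : mv c Y = orb s₁ s₂ c x ∪ orb s₁ s₂ c z := by
    apply Finset.Subset.antisymm ?_ h1
    intro w hw
    by_contra hn
    rw [Finset.mem_union, not_or] at hn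
    have h4 : (orb s₁ s₂ c x ∪ orb s₁ s₂ c z) ∪ orb s₁ s₂ c w ⊆ mv c Y :=
      Finset.union_subset h1 (orb_sub E (mv_inv E hY) hw)
    have h5 : Disjoint (orb s₁ s₂ c x ∪ orb s₁ s₂ c z) (orb s₁ s₂ c w) :=
      Finset.disjoint_union_left.mpr ⟨orb_disj E hn.1, orb_disj E hn.2⟩
    have h6 := Finset.card_le_card h4
    rw [Finset.card_union_of_disjoint h5, h2, orb_card E (mem_mv.mp hw).2] at h6
    have h7 : (mv c Y).card ≤ Y.card := Finset.card_le_card (Finset.filter_subset _ _)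
    omega
  exact ⟨by rw [h3, h2], z, hz, hz', h3⟩

/-- **(B)** the centralizer -/
theorem cent (hY : Inv s₁ s₂ s₃ s₄ Y) (h11 : Y.card ≤ 11) {a : Perm β} (haY : ∀ y ∈ Y, a y ∈ Y)
    (haa : a * a = 1) (a₁ : a * s₁ = s₁ * a) (a₂ : a * s₂ = s₂ * a) (a₃ : a * s₃ = s₃ * a)
    (a₄ : a * s₄ = s₄ * a) : (∀ y ∈ mv c Y, a y = y) ∨ ∀ y ∈ mv c Y, a y = c y := by
  have hac : a * c = c * a := by
    have h1 : Commute a (s₁ * s₂) := Commute.mul_right a₁ a₂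
    have h2 : Commute a (s₁ * s₂ * (s₁ * s₂)) := h1.mul_right h1
    rw [E.g] at h2
    exact h2
  -- the fixed points of a commuting permutation `t`: all of `mv c Y` or none
  have key : ∀ t : Perm β, (∀ y ∈ Y, t y ∈ Y) → t * s₁ = s₁ * t → t * s₂ = s₂ * t → t * s₃ = s₃ * t →
      t * s₄ = s₄ * t → ∀ x ∈ mv c Y, t x = x → ∀ y ∈ mv c Y, t y = y := by
    intro t htY t₁ t₂ t₃ t₄ x hx htx
    have hZ : Inv s₁ s₂ s₃ s₄ (Y.filter fun y => t y = y) := by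
      intro y hy
      rw [Finset.mem_filter] at hy
      obtain ⟨h1, h2, h3, h4⟩ := hY y hy.1
      simp only [Finset.mem_filter]
      refine ⟨⟨h1, ?_⟩, ⟨h2, ?_⟩, ⟨h3, ?_⟩, ⟨h4, ?_⟩⟩
      · rw [ap E t₁, hy.2]
      · rw [ap E t₂, hy.2]
      · rw [ap E t₃, hy.2]
      · rw [ap E t₄, hy.2]
    have h1 := eight_le E hZ (Finset.mem_filter.mpr ⟨(mem_mv.mp hx).1, htx⟩) (mem_mv.mp hx).2
    have h2 := (card_eq E hY h11 (mem_mv.mp hx).1 (mem_mv.mp hx).2).1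
    have h3 : mv c (Y.filter fun y => t y = y) ⊆ mv c Y := by
      intro y hy
      rw [mem_mv, Finset.mem_filter] at hy
      exact mem_mv.mpr ⟨hy.1.1, hy.2⟩
    have h4 : mv c (Y.filter fun y => t y = y) = mv c Y :=
      Finset.eq_of_subset_of_card_le h3 (by omega)
    intro y hy
    rw [← h4, mem_mv, Finset.mem_filter] at hy
    exact hy.1.2
  by_cases hne : (mv c Y).Nonempty
  swap
  · left
    intro y hy
    exact absurd ⟨y, hy⟩ hne
  obtain ⟨x, hx⟩ := hne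
  obtain ⟨hxY, hcx⟩ := mem_mv.mp hx
  by_cases h1 : a x = x
  · exact Or.inl (key a haY a₁ a₂ a₃ a₄ x hx h1)
  by_cases h2 : a x = c x
  · right
    have h3 := key (c * a) (fun y hy => c_mem E hY (haY y hy))
      (by rw [mul_assoc, a₁, ← mul_assoc, E.c₁, mul_assoc])
      (by rw [mul_assoc, a₂, ← mul_assoc, E.c₂, mul_assoc])
      (by rw [mul_assoc, a₃, ← mul_assoc, E.c₃, mul_assoc])
      (by rw [mul_assoc, a₄, ← mul_assoc, E.c₄, mul_assoc]) x hx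
      (by rw [Perm.mul_apply, h2, cc E])
    intro y hy
    have h4 := h3 y hy
    rw [Perm.mul_apply] at h4
    rw [← cc E (a y), h4]
  -- the third case is impossible
  exfalso
  have hamv : a x ∈ mv c Y := mv_s E hac.symm haY hx
  have hnot : a x ∉ orb s₁ s₂ c x := by
    rw [mem_orb]
    have hagx : ∀ y, a (s₁ (s₂ y)) = s₁ (s₂ (a y)) := fun y => by rw [ap E a₁, ap E a₂]
    rintro (h | h | h | h)
    · exact h1 h
    · apply hcx
      rw [← gg E, ← h, ← hagx, ← h, sqa haa]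
    · exact h2 h
    · apply hcx
      have h3 : a (a x) = c (c (s₁ (s₂ (s₁ (s₂ x))))) := by
        rw [h, ap E hac, hagx, h, cg E]
      rw [sqa haa, cc E, gg E] at h3
      exact h3.symm
  obtain ⟨h8, -⟩ := card_eq E hY h11 hxY hcx
  have hall : ∀ y ∈ mv c Y, y ∈ orb s₁ s₂ c x ∪ orb s₁ s₂ c (a x) := by
    have h3 : orb s₁ s₂ c x ∪ orb s₁ s₂ c (a x) ⊆ mv c Y :=
      Finset.union_subset (orb_sub E (mv_inv E hY) hx) (orb_sub E (mv_inv E hY) hamv)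
    have h4 : (orb s₁ s₂ c x ∪ orb s₁ s₂ c (a x)).card = 8 := by
      rw [Finset.card_union_of_disjoint (orb_disj E hnot), orb_card E hcx,
        orb_card E (mem_mv.mp hamv).2]
    rw [Finset.eq_of_subset_of_card_le h3 (by omega)]
    exact fun y hy => hy
  have hin := mv_inv E hY _ hx
  have hagx : a (s₁ (s₂ x)) = s₁ (s₂ (a x)) := by rw [ap E a₁, ap E a₂]
  have hcaa : c * a * (c * a) = 1 := by
    rw [mul_assoc, ← mul_assoc a, hac, mul_assoc c, haa, mul_one, E.qc]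
  have hw : ∀ z ∈ mv c Y, ∃ b ∈ ({1, c, a, c * a} : Set (Perm β)), z = b x ∨ z = b (s₁ (s₂ x)) := by
    intro z hz
    have h3 := hall z hz
    rw [Finset.mem_union, mem_orb, mem_orb] at h3
    rcases h3 with (h | h | h | h) | (h | h | h | h)
    · exact ⟨1, by simp, Or.inl h⟩
    · exact ⟨1, by simp, Or.inr h⟩
    · exact ⟨c, by simp, Or.inl h⟩
    · exact ⟨c, by simp, Or.inr h⟩
    · exact ⟨a, by simp, Or.inl h⟩
    · exact ⟨a, by simp, Or.inr (by rw [h, hagx])⟩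
    · exact ⟨c * a, by simp, Or.inl h⟩
    · exact ⟨c * a, by simp, Or.inr (by rw [h, Perm.mul_apply, hagx])⟩
  have hb : ∀ s : Perm β, c * s = s * c → a * s = s * a →
      ∀ b ∈ ({1, c, a, c * a} : Set (Perm β)), b * s = s * b := by
    intro s h3 h4 b hb
    simp only [Set.mem_insert_iff, Set.mem_singleton_iff] at hb
    rcases hb with rfl | rfl | rfl | rfl
    · rw [one_mul, mul_one]
    · exact h3
    · exact h4
    · rw [mul_assoc, h4, ← mul_assoc, h3, mul_assoc]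
  refine E.key (A := {1, c, a, c * a}) ?_ ?_ (hb s₁ E.c₁ a₁) (hb s₂ E.c₂ a₂) (hb s₃ E.c₃ a₃)
    (hb s₄ E.c₄ a₄) hcx (hw _ hin.1) (hw _ hin.2.2.1) (hw _ hin.2.2.2)
  · intro b hb
    simp only [Set.mem_insert_iff, Set.mem_singleton_iff] at hb
    rcases hb with rfl | rfl | rfl | rfl
    · exact mul_one _
    · exact E.qc
    · exact haa
    · exact hcaa
  · intro b hb'
    have h3 := hb c rfl hac b hb'
    have h4 := hb a hac.symm rfl b hb'
    intro b' hb''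
    simp only [Set.mem_insert_iff, Set.mem_singleton_iff] at hb''
    rcases hb'' with rfl | rfl | rfl | rfl
    · rw [one_mul, mul_one]
    · exact h3
    · exact h4
    · rw [← mul_assoc, h3, mul_assoc, h4, mul_assoc]

/-- if `s`, `t` with `(s t)² = c` preserve a set `Z` of at most three points without fixed points of
`c` then `Z` is empty -/
theorem small {s t : Perm β} (hst : s * t * (s * t) = c)
    {Z : Finset β} (hZs : ∀ z ∈ Z, s z ∈ Z) (hZt : ∀ z ∈ Z, t z ∈ Z) (hc : ∀ z ∈ Z, c z ≠ z)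
    (h3 : Z.card ≤ 3) : Z = ∅ := by
  by_contra hne
  obtain ⟨x, hx⟩ := Finset.nonempty_iff_ne_empty.mpr hne
  have hcz : ∀ z, c z = s (t (s (t z))) := fun z => by rw [← hst]; rfl
  have hg : ∀ z ∈ Z, s (t z) ∈ Z := fun z hz => hZs _ (hZt _ hz)
  have m1 := hg x hx
  have m2 := hg _ m1
  have m3 := hg _ m2
  have hcx := hc x hx
  rw [hcz] at hcx
  have n1 : s (t x) ≠ x := fun h => hcx (by rw [h, h])
  have hcc : ∀ z, s (t (s (t (s (t (s (t z))))))) = z := by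
    intro z
    rw [← hcz z, ← hcz, sqa E.qc]
  have n2 : s (t (s (t (s (t x))))) ≠ x := by
    intro h
    apply n1
    have := hcc x
    rwa [h] at this
  have n3 : s (t (s (t x))) ≠ s (t x) := fun h => n1 (t.injective (s.injective h))
  have n4 : s (t (s (t (s (t x))))) ≠ s (t x) := fun h => hcx (t.injective (s.injective h))
  have n5 : s (t (s (t (s (t x))))) ≠ s (t (s (t x))) := fun h => n3 (t.injective (s.injective h))
  have h4 : ({x, s (t x), s (t (s (t x))), s (t (s (t (s (t x)))))} : Finset β) ⊆ Z := by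
    intro z hz
    simp only [Finset.mem_insert, Finset.mem_singleton] at hz
    rcases hz with rfl | rfl | rfl | rfl
    · exact hx
    · exact m1
    · exact m2
    · exact m3
  have h5 := Finset.card_le_card h4
  rw [Finset.card_insert_of_notMem, Finset.card_insert_of_notMem, Finset.card_insert_of_notMem,
    Finset.card_singleton] at h5
  · omega
  · rw [Finset.mem_singleton]; exact n5.symm
  · simp only [Finset.mem_insert, Finset.mem_singleton, not_or]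
    exact ⟨n3.symm, n4.symm⟩
  · simp only [Finset.mem_insert, Finset.mem_singleton, not_or]
    exact ⟨n1.symm, hcx.symm, n2.symm⟩

end perm

section pair

variable {β : Type*} [DecidableEq β] {s₁ s₂ s₃ s₄ c t₁ t₂ t₃ t₄ c' : Perm β} {Y : Finset β}

/-- the product of two commuting permutations commutes -/
theorem comm_u (E : Ext s₁ s₂ s₃ s₄ c) : s₁ * s₃ * (s₂ * s₄) = s₂ * s₄ * (s₁ * s₃) := by
  have h1 : s₂ * s₁ = s₁ * s₂ * c := by
    rw [← E.g', ← mul_assoc]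
    calc s₂ * s₁ = s₁ * (s₂ * s₂) * s₁ * (s₂ * s₁) := by rw [E.q₂, mul_one, E.q₁, one_mul]
      _ = _ := by group
  have h2 : s₄ * s₃ = s₃ * s₄ * c := by
    rw [← E.swap.g', ← mul_assoc]
    calc s₄ * s₃ = s₃ * (s₄ * s₄) * s₃ * (s₄ * s₃) := by rw [E.q₄, mul_one, E.q₃, one_mul]
      _ = _ := by group
  calc s₁ * s₃ * (s₂ * s₄) = s₁ * (s₃ * s₂) * s₄ := by group
    _ = s₁ * s₂ * (s₃ * s₄) := by rw [← E.c₂₃]; group
    _ = s₁ * s₂ * (c * c) * (s₃ * s₄) := by rw [E.qc, mul_one]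
    _ = (s₁ * s₂ * c) * (c * s₃) * s₄ := by group
    _ = (s₁ * s₂ * c) * (s₃ * c) * s₄ := by rw [E.c₃]
    _ = (s₁ * s₂ * c) * s₃ * (c * s₄) := by group
    _ = (s₁ * s₂ * c) * (s₃ * s₄ * c) := by rw [E.c₄]; group
    _ = s₂ * s₁ * (s₄ * s₃) := by rw [← h1, ← h2]
    _ = s₂ * (s₁ * s₄) * s₃ := by group
    _ = s₂ * s₄ * (s₁ * s₃) := by rw [E.c₁₄]; group

/-- **two groups `D8 ∘ D8`**, the centre of the second in the first: `a` commuting with both is trivial on the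
eight points moved by the centres -/
theorem pair (E : Ext s₁ s₂ s₃ s₄ c) (E' : Ext t₁ t₂ t₃ t₄ c') (hY : Inv s₁ s₂ s₃ s₄ Y)
    (hY' : Inv t₁ t₂ t₃ t₄ Y) (h11 : Y.card ≤ 11) (hu : c' = s₂ * s₄ ∨ c' = s₂ * s₄ * c)
    (hne : ∃ x ∈ Y, c x ≠ x) (hne' : ∃ x ∈ Y, c' x ≠ x) {a : Perm β} (haY : ∀ y ∈ Y, a y ∈ Y)
    (haa : a * a = 1) (a₁ : a * s₁ = s₁ * a) (a₂ : a * s₂ = s₂ * a) (a₃ : a * s₃ = s₃ * a)
    (a₄ : a * s₄ = s₄ * a) (b₁ : a * t₁ = t₁ * a) (b₂ : a * t₂ = t₂ * a) (b₃ : a * t₃ = t₃ * a)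
    (b₄ : a * t₄ = t₄ * a) :
    (mv c Y).card = 8 ∧ mv c' Y = mv c Y ∧ ∀ y ∈ mv c Y, a y = y := by
  obtain ⟨x, hx, hcx⟩ := hne
  obtain ⟨x', hx', hcx'⟩ := hne'
  have h8 := (card_eq E hY h11 hx hcx).1
  have h8' := (card_eq E' hY' h11 hx' hcx').1
  -- `c'` commutes with `s₁ s₃`, `s₂`, `c`
  have hcu : c * (s₂ * s₄) = s₂ * s₄ * c := by
    rw [← mul_assoc, E.c₂, mul_assoc, E.c₄, ← mul_assoc]
  have e1 : c' * (s₁ * s₃) = s₁ * s₃ * c' := by
    rcases hu with rfl | rfl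
    · exact (comm_u E).symm
    · rw [mul_assoc (s₂ * s₄), ← mul_assoc c, E.c₁, mul_assoc s₁, E.c₃, ← mul_assoc s₁,
        ← mul_assoc (s₂ * s₄), ← comm_u E, ← mul_assoc (s₁ * s₃)]
      simp only [mul_assoc]
  have e2 : c' * s₂ = s₂ * c' := by
    rcases hu with rfl | rfl
    · rw [mul_assoc, ← E.c₂₄]
    · rw [mul_assoc, E.c₂, ← mul_assoc, mul_assoc s₂ s₄, ← E.c₂₄, mul_assoc, mul_assoc]
  have e3 : c' * c = c * c' := by
    rcases hu with rfl | rfl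
    · exact hcu.symm
    · rw [mul_assoc (s₂ * s₄), ← mul_assoc c, hcu, mul_assoc]
      simp only [mul_assoc]
  have hst : s₁ * s₃ * s₂ * (s₁ * s₃ * s₂) = c := by
    calc s₁ * s₃ * s₂ * (s₁ * s₃ * s₂) = s₁ * (s₃ * s₂) * (s₁ * (s₃ * s₂)) := by group
      _ = s₁ * (s₂ * s₃) * (s₁ * (s₂ * s₃)) := by rw [E.c₂₃]
      _ = s₁ * s₂ * (s₃ * s₁) * (s₂ * s₃) := by group
      _ = s₁ * s₂ * (s₁ * s₃) * (s₂ * s₃) := by rw [E.c₁₃]
      _ = s₁ * s₂ * s₁ * (s₃ * s₂) * s₃ := by group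
      _ = s₁ * s₂ * s₁ * (s₂ * s₃) * s₃ := by rw [E.c₂₃]
      _ = (s₁ * s₂ * (s₁ * s₂)) * (s₃ * s₃) := by group
      _ = c := by rw [E.q₃, mul_one, E.g]
  -- the points moved by `c` and fixed by `c'`
  have hsub : mv c Y ⊆ mv c' Y := by
    have hmvinv := mv_inv E hY
    have hZ := E.small (s := s₁ * s₃) (t := s₂) hst (Z := (mv c Y).filter fun y => c' y = y)
      (by
        intro z hz
        rw [Finset.mem_filter] at hz ⊢
        refine ⟨(hmvinv _ (hmvinv _ hz.1).2.2.1).1, ?_⟩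
        rw [ap E e1, hz.2])
      (by
        intro z hz
        rw [Finset.mem_filter] at hz ⊢
        refine ⟨(hmvinv _ hz.1).2.1, ?_⟩
        rw [ap E e2, hz.2])
      (fun z hz => (mem_mv.mp (Finset.mem_filter.mp hz).1).2) (by
        have h1 : ((mv c Y).filter fun y => c' y = y) = mv c Y \ mv c' Y := by
          ext y
          rw [Finset.mem_filter, Finset.mem_sdiff, mem_mv, mem_mv]
          tauto
        have h2 : (mv c Y \ mv c' Y).card = (mv c' Y \ mv c Y).card := by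
          have h3 := Finset.card_sdiff_add_card_inter (mv c Y) (mv c' Y)
          have h4 := Finset.card_sdiff_add_card_inter (mv c' Y) (mv c Y)
          rw [Finset.inter_comm] at h4
          omega
        have h3 : (mv c' Y \ mv c Y) ⊆ Y \ mv c Y := Finset.sdiff_subset_sdiff
          (Finset.filter_subset _ _) (le_refl _)
        have h4 := Finset.card_le_card h3
        have h5 : (Y \ mv c Y).card = Y.card - (mv c Y).card :=
          Finset.card_sdiff_of_subset (Finset.filter_subset _ _)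
        rw [h1, h2]
        omega)
    intro y hy
    by_contra hn
    have h1 : y ∈ (mv c Y).filter fun y => c' y = y := by
      rw [Finset.mem_filter]
      refine ⟨hy, ?_⟩
      by_contra h2
      exact hn (mem_mv.mpr ⟨(mem_mv.mp hy).1, h2⟩)
    rw [hZ] at h1
    exact absurd h1 (Finset.notMem_empty _)
  have heq : mv c' Y = mv c Y := (Finset.eq_of_subset_of_card_le hsub (by omega)).symm
  refine ⟨h8, heq, ?_⟩
  rcases cent E hY h11 haY haa a₁ a₂ a₃ a₄ with h | h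
  · exact h
  rcases cent E' hY' h11 haY haa b₁ b₂ b₃ b₄ with h' | h'
  · rw [heq] at h'
    exact h'
  exfalso
  rw [heq] at h'
  have hmvinv := mv_inv E hY
  have h1 : ∀ y ∈ mv c Y, c' y = c y := fun y hy => by rw [← h y hy, h' y hy]
  -- `s₂ s₄` is `1` or `c`
  have h2 : ∃ b : Perm β, b * s₁ = s₁ * b ∧ b * s₂ = s₂ * b ∧ b * b = 1 ∧
      ∀ y ∈ mv c Y, s₄ y = s₂ (b y) := by
    rcases hu with hu | hu
    · refine ⟨c, E.c₁, E.c₂, E.qc, fun y hy => ?_⟩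
      have h3 := h1 y hy
      rw [hu, Perm.mul_apply] at h3
      rw [← h3, sqa E.q₂]
    · refine ⟨1, by rw [one_mul, mul_one], by rw [one_mul, mul_one], mul_one _, fun y hy => ?_⟩
      have hcy : c y ∈ mv c Y := c_mem E hmvinv hy
      have h3 := h1 _ hcy
      rw [hu, Perm.mul_apply, Perm.mul_apply, cc E] at h3
      have h4 : s₂ (s₂ (s₄ y)) = s₂ y := by rw [h3]
      rw [sqa E.q₂] at h4
      exact h4
  obtain ⟨b, hb1, hb2, hbb, hb⟩ := h2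
  have hxm : x ∈ mv c Y := mem_mv.mpr ⟨hx, hcx⟩
  apply hcx
  have h3 : s₂ (s₁ (b x)) = s₁ (s₂ (b x)) := by
    have h4 := hb _ (hmvinv _ hxm).1
    rw [← ap E E.c₁₄, hb x hxm, ap E hb1] at h4
    exact h4.symm
  rw [← ap E hb1, ← ap E hb2, ← ap E hb2, ← ap E hb1] at h3
  have h5 := b.injective h3
  rw [← gg E, ← h5, sqa E.q₂, sqa E.q₁]

end pair

end Ext

end Cfsg.Agent.UAlt.Eleven
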