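import Cfsg.Agent.UAlt.Eleven.Bal
import Cfsg.Agent.UAlt.Eleven.NotTriple
import Cfsg.Agent.UAlt.Eleven.NormF

/-!
# `n = 11`, case N with `X = ∅`: the package

* `Iso.fun11`: (E3.5).
* `Iso.pke`, `pke_of_caseN11`: the package.
-/

set_option autoImplicit false
set_option linter.unusedSectionVars false

open Cfsg Subgroup Equiv Equiv.Perm
open Cfsg.Agent.SignalizersComponents Cfsg.Agent.Lib
open Cfsg.Agent.SignalizersComponents.IntrinsicBasic
open Cfsg.Agent.Intrinsic.Basic Cfsg.Agent.Intrinsic.Diag Cfsg.Agent.Intrinsic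

namespace Cfsg.Agent.UAlt

variable {G : Type*} [Group G] [Finite G] {α : Type*} [Fintype α] [DecidableEq α]
  {L : Subgroup G} {Ω : Finset α} {M : Mod L Ω} {a : G} {V V' : Subgroup G} {T T' : Finset α}

/-- **(3.5)** -/
theorem Iso.fun11 (FT : Functor.OddSol G) (H11 : Hyp11 G) (H : Iso M a) (hV : RF M V T) (hV' : RF M V' T')
    (hd : Disjoint T T') (hc : Cm V V') : Fun11 V V' := by
  obtain ⟨h1, h2, h3⟩ := H.functor hV hV' hd hc FT (H.h34 H11 hV hV' hd hc)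
  exact ⟨by rw [WV_eq]; exact h1, by rw [WV_eq, WV_eq]; exact h2,
    fun v hv hv1 => by rw [WV_eq]; exact h3 v hv hv1⟩

/-- **`n = 11`, `ξ = 0`: the package `PKE`.** -/
theorem Iso.pke (FT : Functor.OddSol G) (H11 : Hyp11 G) (H : Iso M a) :
    ∃ (B : Subgroup G) (MB : Mod B Ω), L ≤ B ∧ PKE MB :=
  zero_eleven_pke H.comp H.h11 H.caseN H.bal11 fun r1 r2 d c => H.fun11 FT H11 r1 r2 d c

/-- **`n = 11`, case N with `X = ∅`: the package.** -/
theorem pke_of_caseN11 (FT : Functor.OddSol G) (H11 : Hyp11 G) {x : G} (T : UGT.Triple.IsTriple x a L)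
    (hΩ : Ω.card = 11) (hN : CaseN M a ∅) : ∃ (B : Subgroup G) (MB : Mod B Ω), L ≤ B ∧ PKE MB :=
  Iso.pke (M := M) FT H11 ⟨hΩ, T.inva, T.comp, hN⟩

end Cfsg.Agent.UAlt
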